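import Cfsg.Agent.Aschbacher.General.Structure

/-!
Small fields: decompositions into planes preserve a symplectic form, tensor factors of dimension two give a
quadratic extension.
-/
set_option autoImplicit false

namespace CfsgLib.Aschbacher

open Matrix Cfsg.Geo CfsgLib.GeoClifford
open scoped MatrixGroups Kronecker

variable {ι : Type} [Fintype ι] [DecidableEq ι] {F : Type*} [Field F] [Fintype F]

lemma eq_zero_or_one_of_card_two (hq : Fintype.card F = 2) (a : F) : a = 0 ∨ a = 1 := by
  have h : a ^ 2 = a := by rw [← hq]; exact FiniteField.pow_card a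
  have : a * (a - 1) = 0 := by linear_combination h
  rcases mul_eq_zero.mp this with h | h
  · exact Or.inl h
  · exact Or.inr (sub_eq_zero.mp h)

lemma eq_zero_or_sq_one_of_card_three (hq : Fintype.card F = 3) (a : F) : a = 0 ∨ a * a = 1 := by
  by_cases h : a = 0
  · exact Or.inl h
  · have := FiniteField.pow_card_sub_one_eq_one a h
    rw [hq] at this
    exact Or.inr (by rw [← sq]; exact this)

/-- A group permuting planes lies in the similarity group of a symplectic form when the determinants on the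
planes agree. -/
theorem symplectic_of_planes {G : Subgroup (GL ι F)} {t : ℕ} {D : Fin t → Submodule F (ι → F)}
    (hD : IsMDecomposition 2 D) (hG : G ≤ decompositionStabilizer D)
    (hdet : ∀ g ∈ G, ∀ d : Fin t → F, (∀ i, d i ≠ 0) → (∏ i, d i = (g : Matrix ι ι F).det) → ∀ i j, d i = d j) :
    ∃ f, IsSymplecticForm f ∧ G ≤ similarityGroup f := by
  classical
  have hint := DirectSum.isInternal_submodule_of_iSupIndep_of_iSup_eq_top hD.indep hD.iSup_eq_top
  let B := hint.collectedBasis fun i => Module.finBasisOfFinrankEq F (D i) (hD.finrank_eq i)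
  let Bp : Module.Basis (Fin 2 × Fin t) F (ι → F) :=
    B.reindex ((Equiv.sigmaEquivProd (Fin t) (Fin 2)).trans (Equiv.prodComm _ _))
  have hmem : ∀ a i, Bp (a, i) ∈ D i := by
    intro a i
    simp only [Bp, Module.Basis.reindex_apply]
    exact hint.collectedBasis_mem _ (⟨i, a⟩ : Σ _ : Fin t, Fin 2)
  have hcard : Fintype.card ι = Fintype.card (Fin 2 × Fin t) := by
    rw [← Module.finrank_eq_card_basis Bp, Module.finrank_fintype_fun_eq_card]
  let e : ι ≃ Fin 2 × Fin t := Fintype.equivOfCardEq hcard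
  have hPu : IsUnit (Matrix.of fun r i => Bp (e i) r : Matrix ι ι F) :=
    Matrix.linearIndependent_cols_iff_isUnit.mp (Bp.linearIndependent.comp e e.injective)
  set P : GL ι F := hPu.unit
  have hPs : ∀ x : ι → F, (P : Matrix ι ι F) *ᵥ x = ∑ i, x i • Bp (e i) := by
    intro x; funext r; simp [P, IsUnit.unit_spec, mulVec, dotProduct, mul_comm]
  set Q : Matrix ι ι F := ((P⁻¹ : GL ι F) : Matrix ι ι F) with hQ
  set J : Matrix (Fin 2) (Fin 2) F := !![0, 1; -1, 0] with hJ
  have hJg : ∀ g : Matrix (Fin 2) (Fin 2) F, gᵀ * J * g = g.det • J := by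
    intro g
    ext a b
    fin_cases a <;> fin_cases b <;>
      simp [hJ, Matrix.mul_apply, Fin.sum_univ_two, Matrix.det_fin_two] <;> ring
  set J' : Matrix (Fin 2 × Fin t) (Fin 2 × Fin t) F := J ⊗ₖ (1 : Matrix (Fin t) (Fin t) F) with hJ'
  set G0 : Matrix ι ι F := Qᵀ * J'.submatrix e e * Q with hG0
  clear_value G0
  have hGu : IsUnit G0 := by
    rw [Matrix.isUnit_iff_isUnit_det, hG0, det_mul, det_mul, det_transpose, det_submatrix_equiv_self, hJ',
      Matrix.det_kronecker]
    have hJd : J.det = 1 := by simp [hJ, Matrix.det_fin_two]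
    have hQd : IsUnit Q.det := (Matrix.isUnit_iff_isUnit_det _).mp (P⁻¹).isUnit
    simpa [hJd] using hQd.ne_zero
  set f := formOf (RingEquiv.refl F) G0 with hf
  have hbil : IsBilinearForm f := isBilinearForm_formOf G0
  have halt : ∀ v, f v v = 0 := by
    intro v
    show v ⬝ᵥ (G0 *ᵥ v) = 0
    rw [hG0, ← mulVec_mulVec, ← mulVec_mulVec, dotProduct_mulVec v Qᵀ, vecMul_transpose]
    generalize Q *ᵥ v = w
    rw [show w ⬝ᵥ (J'.submatrix e e *ᵥ w) = (w ∘ e.symm) ⬝ᵥ (J' *ᵥ (w ∘ e.symm)) from by
      rw [submatrix_mulVec_equiv]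
      exact (comp_equiv_symm_dotProduct _ _ e).symm]
    generalize w ∘ e.symm = x
    simp [hJ', hJ, dotProduct, Matrix.mulVec, Fintype.sum_prod_type, Fin.sum_univ_two, Matrix.kroneckerMap_apply,
      Matrix.one_apply, mul_comm]
  have hskew : ∀ v w, f v w = - f w v := by
    intro v w
    have := halt (v + w)
    rw [hbil.add_left, hbil.add_right, hbil.add_right, halt, halt, zero_add, add_zero] at this
    exact eq_neg_of_add_eq_zero_left this
  refine ⟨f, ⟨hbil, hskew, halt, nondegenerate_formOf _ hGu⟩, fun g hg => ?_⟩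
  obtain ⟨σ, hσ⟩ := hG hg
  set K : Matrix (Fin 2 × Fin t) (Fin 2 × Fin t) F :=
    (Q * (g : Matrix ι ι F) * (P : Matrix ι ι F)).submatrix e.symm e.symm with hK
  have hentry : ∀ a i b j, K (a, i) (b, j) = Bp.repr ((g : Matrix ι ι F) *ᵥ Bp (b, j)) (a, i) := by
    intro a i b j
    have h1 : (P : Matrix ι ι F) *ᵥ Pi.single (e.symm (b, j)) 1 = Bp (b, j) := by
      rw [hPs, Finset.sum_eq_single (e.symm (b, j))] <;> simp +contextual
    have h2 : K (a, i) (b, j) = (Q *ᵥ ((g : Matrix ι ι F) *ᵥ Bp (b, j))) (e.symm (a, i)) := by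
      rw [← h1, mulVec_mulVec, mulVec_mulVec]
      simp [hK]
    rw [h2]
    generalize (g : Matrix ι ι F) *ᵥ Bp (b, j) = v
    have h3 : Q *ᵥ v = fun k => Bp.repr v (e k) := by
      refine mulVec_injective_GL P ?_
      rw [Matrix.toLin'_apply, Matrix.toLin'_apply, hQ, CfsgLib.Geo.mulVec_inv_mulVec, hPs]
      conv_lhs => rw [← Bp.sum_repr v]
      exact (e.sum_comp fun k => Bp.repr v k • Bp k).symm
    rw [h3]
    simp
  let gm : Fin t → Matrix (Fin 2) (Fin 2) F := fun j => Matrix.of fun a b => K (a, σ j) (b, j)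
  set S : Matrix (Fin t) (Fin t) F := Matrix.of fun i j => if i = σ j then 1 else 0 with hS
  have hblock : K = ((1 : Matrix (Fin 2) (Fin 2) F) ⊗ₖ S) * blockDiagonal gm := by
    ext ⟨a, i⟩ ⟨b, j⟩
    simp only [Matrix.mul_apply, Fintype.sum_prod_type, Matrix.kroneckerMap_apply, blockDiagonal_apply,
      Matrix.one_apply, hS, Matrix.of_apply, gm]
    simp [ite_and]
    by_cases hij : i = σ j
    · subst hij; simp
    · rw [hentry]
      simp only [hij, if_false]
      have hv : (g : Matrix ι ι F) *ᵥ Bp (b, j) ∈ D (σ j) := by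
        rw [← hσ j, Submodule.mem_map]
        exact ⟨_, hmem b j, by simp⟩
      have hle : D (σ j) ≤ Submodule.span F (Bp '' {p : Fin 2 × Fin t | p.2 = σ j}) := by
        refine le_of_eq (Submodule.eq_of_le_of_finrank_le (Submodule.span_le.mpr ?_) ?_).symm
        · rintro _ ⟨⟨c, l⟩, hl, rfl⟩
          rw [Set.mem_setOf_eq] at hl
          exact hl ▸ hmem c l
        · rw [hD.finrank_eq]
          have h2 := finrank_span_eq_card (R := F) (b := fun c : Fin 2 => Bp (c, σ j))
            (Bp.linearIndependent.comp _ fun c d h => (Prod.ext_iff.mp h).1)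
          rw [Fintype.card_fin] at h2
          refine le_trans h2.ge ?_
          exact Submodule.finrank_mono (Submodule.span_mono (by rintro _ ⟨c, rfl⟩; exact ⟨(c, σ j), rfl, rfl⟩))
      have h := hle hv
      rw [Module.Basis.mem_span_image] at h
      by_contra hne
      exact hij (h (Finsupp.mem_support_iff.mpr hne))
  have hSS : Sᵀ * S = 1 := by
    ext i j
    simp [hS, Matrix.mul_apply, Matrix.one_apply, eq_comm]
  have hKdet : (g : Matrix ι ι F).det = ∏ j, (gm j).det := by
    have h1 : K.det = (g : Matrix ι ι F).det := by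
      rw [hK, det_submatrix_equiv_self, det_mul, det_mul, mul_right_comm, ← det_mul, hQ, Units.inv_mul, det_one,
        one_mul]
    have h2 : S.det * S.det = 1 := by
      have := congrArg Matrix.det hSS
      rwa [det_mul, det_transpose, det_one] at this
    rw [← h1, hblock, det_mul, Matrix.det_kronecker, det_one, one_pow, one_mul, det_blockDiagonal, Fintype.card_fin,
      sq, h2, one_mul]
  have hne : ∀ j, (gm j).det ≠ 0 := by
    intro j h0
    apply (Matrix.GeneralLinearGroup.det g).ne_zero
    rw [Matrix.GeneralLinearGroup.val_det_apply, hKdet]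
    exact Finset.prod_eq_zero (Finset.mem_univ j) h0
  have hc := hdet g hg (fun j => (gm j).det) hne hKdet.symm
  let i0 : Fin t := ⟨0, by have := hD.two_le; omega⟩
  set c := (gm i0).det with hcdef
  have hKJ : Kᵀ * J' * K = c • J' := by
    rw [hblock, transpose_mul, hJ']
    calc _ = (blockDiagonal gm)ᵀ * (((1 : Matrix (Fin 2) (Fin 2) F) ⊗ₖ S)ᵀ * (J ⊗ₖ 1) *
          ((1 : Matrix (Fin 2) (Fin 2) F) ⊗ₖ S)) * blockDiagonal gm := by simp only [mul_assoc]
      _ = (blockDiagonal gm)ᵀ * blockDiagonal (fun _ => J) * blockDiagonal gm := by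
          rw [← Matrix.kroneckerMap_transpose, ← Matrix.mul_kronecker_mul, ← Matrix.mul_kronecker_mul, transpose_one,
            one_mul, mul_one, mul_one, hSS, Matrix.kronecker_one]
      _ = _ := by
          rw [blockDiagonal_transpose, ← blockDiagonal_mul, ← blockDiagonal_mul, Matrix.kronecker_one,
            ← blockDiagonal_smul]
          congr 1
          funext j
          rw [hJg, Pi.smul_apply]
          rw [show (gm j).det = c from hc j i0]
  have hQg : Q * (g : Matrix ι ι F) = K.submatrix e e * Q := by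
    rw [hK]
    simp [hQ, mul_assoc]
  have hgG : (g : Matrix ι ι F)ᵀ * G0 * (g : Matrix ι ι F) = c • G0 := by
    calc _ = (Q * (g : Matrix ι ι F))ᵀ * J'.submatrix e e * (Q * (g : Matrix ι ι F)) := by
          rw [hG0, transpose_mul]; simp only [mul_assoc]
      _ = Qᵀ * ((K.submatrix e e)ᵀ * J'.submatrix e e * K.submatrix e e) * Q := by
          rw [hQg, transpose_mul]; simp only [mul_assoc]
      _ = _ := by
          rw [transpose_submatrix, submatrix_mul_equiv, submatrix_mul_equiv, hKJ, hG0]
          simp [mul_smul_comm, smul_mul_assoc, submatrix_smul]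
  refine ⟨Units.mk0 c (hne i0), fun u v => ?_⟩
  show ((g : Matrix ι ι F) *ᵥ u) ⬝ᵥ (G0 *ᵥ ((g : Matrix ι ι F) *ᵥ v)) = c * (u ⬝ᵥ (G0 *ᵥ v))
  have key : ((g : Matrix ι ι F) *ᵥ u) ⬝ᵥ (G0 *ᵥ ((g : Matrix ι ι F) *ᵥ v)) =
      u ⬝ᵥ (((g : Matrix ι ι F)ᵀ * G0 * (g : Matrix ι ι F)) *ᵥ v) := by
    rw [← mulVec_mulVec, ← mulVec_mulVec, dotProduct_mulVec u ((g : Matrix ι ι F)ᵀ), vecMul_transpose]
  rw [key, hgG, smul_mulVec, dotProduct_smul, smul_eq_mul]

/-- Over two elements a tensor factor of dimension two gives an extension field. -/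
theorem hasField_of_tensor_two [Nonempty ι] (hq : Fintype.card F = 2) {H : Subgroup (GL ι F)}
    (hirr : ActsIrreducibly (matrixSet H)) (hprim : IsPrimitiveLin H) {k : ℕ} (hk : 0 < k)
    (e : ι ≃ Fin 2 × Fin k) (P : GL ι F) (h : H ≤ tensorProductSubgroup 2 k e P) : HasField H := by
  classical
  set Q : Matrix ι ι F := ((P⁻¹ : GL ι F) : Matrix ι ι F) with hQ
  set W : Matrix (Fin 2) (Fin 2) F := !![0, 1; 1, 1] with hW
  set Wm : Matrix ι ι F := (P : Matrix ι ι F) * (W ⊗ₖ (1 : Matrix (Fin k) (Fin k) F)).submatrix e e * Q with hWm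
  refine hasField_of_comm hirr hprim (R := Algebra.adjoin F {Wm}) ?_ ?_ ?_
  · intro x hx y hy
    exact (Algebra.commute_of_mem_adjoin_singleton_of_commute hy
      (Algebra.commute_of_mem_adjoin_singleton_of_commute hx (Commute.refl Wm)).symm).eq
  · have h2 : (2 : F) = 0 := by
      have := FiniteField.cast_card_eq_zero F
      rw [hq] at this
      exact_mod_cast this
    have hgW : ∀ g g' : Matrix (Fin 2) (Fin 2) F, g * g' = 1 → g * W * g' = W ∨ g * W * g' = W + 1 := by
      intro g g' hgg
      set X := g * W * g'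
      have hgg' : g' * g = 1 := mul_eq_one_comm.mp hgg
      have htr : X.trace = 1 := by
        rw [Matrix.trace_mul_comm, ← mul_assoc, hgg', one_mul]
        simp [hW, Matrix.trace_fin_two]
      have hdet : X.det = 1 := by
        rw [det_mul, det_mul, mul_right_comm, ← det_mul, hgg, det_one, one_mul]
        simp [hW, Matrix.det_fin_two]
        linear_combination -h2
      rw [Matrix.trace_fin_two] at htr
      rw [Matrix.det_fin_two] at hdet
      rcases eq_zero_or_one_of_card_two hq (X 0 0) with a | a <;>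
        rcases eq_zero_or_one_of_card_two hq (X 0 1) with b | b <;>
          rcases eq_zero_or_one_of_card_two hq (X 1 0) with c | c <;>
            rcases eq_zero_or_one_of_card_two hq (X 1 1) with d | d <;>
      first
        | (simp [a, b, c, d] at htr hdet; done)
        | (exfalso; simp [a, b, c, d] at htr hdet; exact one_ne_zero (by linear_combination htr - hdet))
        | (left; ext i j; fin_cases i <;> fin_cases j <;> simp [hW, a, b, c, d]; done)
        | (right; ext i j; fin_cases i <;> fin_cases j <;> simp [hW, a, b, c, d]; done)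
        | (right; ext i j; fin_cases i <;> fin_cases j <;> simp [hW, a, b, c, d] <;> linear_combination (-h2))
        | (exfalso; simp [a, b, c, d] at htr hdet; exact one_ne_zero (by linear_combination -h2 - htr))
    intro g hg x hx
    have hWg : (g : Matrix ι ι F) * Wm * ((g⁻¹ : GL ι F) : Matrix ι ι F) ∈ Algebra.adjoin F {Wm} := by
      obtain ⟨K0, ⟨K, hKmem, rfl⟩, hKv⟩ := h hg
      obtain ⟨a, b, hab⟩ := hKmem
      obtain ⟨a', ha'⟩ : ∃ a' : Matrix (Fin 2) (Fin 2) F, (a : Matrix _ _ F) * a' = 1 := ⟨_, a.mul_inv⟩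
      obtain ⟨b', hb'⟩ : ∃ b' : Matrix (Fin k) (Fin k) F, (b : Matrix _ _ F) * b' = 1 := ⟨_, b.mul_inv⟩
      have hgv : (g : Matrix ι ι F) = (P : Matrix ι ι F) * ((a : Matrix _ _ F) ⊗ₖ (b : Matrix _ _ F)).submatrix e e * Q := by
        rw [← hKv, ← hab]; rfl
      have hgi : ((g⁻¹ : GL ι F) : Matrix ι ι F) = (P : Matrix ι ι F) * (a' ⊗ₖ b').submatrix e e * Q := by
        refine Units.inv_eq_of_mul_eq_one_right ?_
        rw [hgv]
        calc _ = (P : Matrix ι ι F) * (((a : Matrix _ _ F) ⊗ₖ (b : Matrix _ _ F)).submatrix e e * (a' ⊗ₖ b').submatrix e e) * Q := by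
              generalize ((a : Matrix _ _ F) ⊗ₖ (b : Matrix _ _ F)).submatrix e e = X1
              generalize (a' ⊗ₖ b').submatrix e e = X3
              simp [hQ, mul_assoc]
          _ = 1 := by rw [submatrix_mul_equiv, ← Matrix.mul_kronecker_mul, ha', hb']; simp [hQ]
      have hconj : (g : Matrix ι ι F) * Wm * ((g⁻¹ : GL ι F) : Matrix ι ι F) =
          (P : Matrix ι ι F) * (((a : Matrix _ _ F) * W * a') ⊗ₖ (1 : Matrix (Fin k) (Fin k) F)).submatrix e e * Q := by
        rw [hgv, hgi, hWm]
        calc _ = (P : Matrix ι ι F) * (((a : Matrix _ _ F) ⊗ₖ (b : Matrix _ _ F)).submatrix e e *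
              (W ⊗ₖ (1 : Matrix (Fin k) (Fin k) F)).submatrix e e * (a' ⊗ₖ b').submatrix e e) * Q := by
              generalize ((a : Matrix _ _ F) ⊗ₖ (b : Matrix _ _ F)).submatrix e e = X1
              generalize (W ⊗ₖ (1 : Matrix (Fin k) (Fin k) F)).submatrix e e = X2
              generalize (a' ⊗ₖ b').submatrix e e = X3
              simp [hQ, mul_assoc]
          _ = _ := by
              rw [submatrix_mul_equiv, submatrix_mul_equiv, ← Matrix.mul_kronecker_mul, ← Matrix.mul_kronecker_mul,
                mul_one, hb']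
      rw [hconj]
      rcases hgW _ _ ha' with h1 | h1 <;> rw [h1]
      · exact Algebra.self_mem_adjoin_singleton F Wm
      · have : (P : Matrix ι ι F) * ((W + 1) ⊗ₖ (1 : Matrix (Fin k) (Fin k) F)).submatrix e e * Q = Wm + 1 := by
          rw [hWm, Matrix.add_kronecker, Matrix.one_kronecker_one]
          rw [Matrix.submatrix_add]
          simp [hQ, mul_add, add_mul]
        rw [this]
        exact Subalgebra.add_mem _ (Algebra.self_mem_adjoin_singleton F Wm) (Subalgebra.one_mem _)
    induction hx using Algebra.adjoin_induction with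
    | mem x hx => rw [Set.mem_singleton_iff] at hx; subst hx; exact hWg
    | algebraMap r =>
      have : (g : Matrix ι ι F) * algebraMap F (Matrix ι ι F) r * ((g⁻¹ : GL ι F) : Matrix ι ι F)
          = algebraMap F (Matrix ι ι F) r := by
        rw [← Algebra.commutes, mul_assoc, ← Units.val_mul, mul_inv_cancel, Units.val_one, mul_one]
      rw [this]; exact Subalgebra.algebraMap_mem _ r
    | add x y _ _ ihx ihy => rw [mul_add, add_mul]; exact Subalgebra.add_mem _ ihx ihy
    | mul x y _ _ ihx ihy =>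
      have := Subalgebra.mul_mem _ ihx ihy
      simpa [mul_assoc] using this
  · intro hbot
    obtain ⟨c, hc⟩ := eq_bot_iff_scalar.mp hbot Wm (Algebra.self_mem_adjoin_singleton F Wm)
    have h1 := congrArg (fun X => Q * X * (P : Matrix ι ι F)) hc
    simp [hWm, hQ, mul_assoc] at h1
    let k0 : Fin k := ⟨0, hk⟩
    have h2 := congrFun (congrFun h1 (e.symm (0, k0))) (e.symm (1, k0))
    have hne : e.symm (0, k0) ≠ e.symm (1, k0) := by simp
    simp [hW, Matrix.one_apply_ne hne] at h2

end CfsgLib.Aschbacher
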