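import Cfsg.Agent.Aschbacher.General.Member
import Cfsg.Agent.Aschbacher.General.SmallField

/-!
The maximal subgroups of the special linear groups.
-/
set_option autoImplicit false

namespace CfsgLib.Aschbacher

open Matrix Cfsg.Geo CfsgLib.GeoClifford
open scoped MatrixGroups commutatorElement

variable {ι : Type} [Fintype ι] [DecidableEq ι] {F : Type*} [Field F]

lemma decomposition_card {t m : ℕ} {D : Fin t → Submodule F (ι → F)} (hD : IsMDecomposition m D) :
    t * m = Fintype.card ι := by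
  have h1 := DirectSum.isInternal_submodule_of_iSupIndep_of_iSup_eq_top hD.indep hD.iSup_eq_top
  have h2 := (LinearEquiv.ofBijective (DirectSum.coeLinearMap D) h1).finrank_eq
  rw [Module.finrank_directSum, Module.finrank_fintype_fun_eq_card] at h2
  simpa only [hD.finrank_eq, Finset.sum_const, Finset.card_univ, Fintype.card_fin, smul_eq_mul] using h2

variable [Fintype F]

lemma subfield_ne_top {F₀ : Subfield F} {r : ℕ} (hr : r.Prime) (hcard : Fintype.card F = Nat.card F₀ ^ r) :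
    F₀ ≠ ⊤ := by
  rintro rfl
  rw [Nat.card_congr Subfield.topEquiv.toEquiv, Nat.card_eq_fintype_card] at hcard
  have := Nat.pow_right_injective (Fintype.one_lt_card (α := F))
    (show Fintype.card F ^ 1 = Fintype.card F ^ r by rwa [pow_one])
  exact hr.ne_one this.symm

lemma symplecticType_two {R : Subgroup (GL ι F)} (hn : 3 ≤ Fintype.card ι) {r : ℕ}
    (hR : IsLinearSymplecticTypeData r R) (h2 : r = 2) :
    ∃ p : ℕ, p.Prime ∧ Fintype.card F = p ∧ p % 4 = 1 := by
  obtain ⟨p, e, -, ⟨hp, -, hF, hz, -⟩, hcases⟩ := hR.field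
  rcases hcases with ⟨ho, -⟩ | ⟨-, he, hz4, -⟩ | ⟨-, -, h, -⟩
  · rw [h2] at ho; exact absurd ho (by decide)
  · subst he
    rw [hz4, pow_one] at hz
    rw [pow_one] at hF
    refine ⟨p, hp, hF, ?_⟩
    have := hp.two_le
    omega
  · omega

lemma symplecticType_three {R : Subgroup (GL ι F)} {r : ℕ} (hR : IsLinearSymplecticTypeData r R) (h3 : r = 3) :
    ∃ p : ℕ, p.Prime ∧ Fintype.card F = p ∧ p % 3 = 1 := by
  obtain ⟨p, e, -, ⟨hp, -, hF, hz, hmin⟩, hcases⟩ := hR.field
  rcases hcases with ⟨-, heo, hz3, -⟩ | ⟨h, -⟩ | ⟨h, -⟩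
  · rw [hz3, h3] at hz hmin
    have h1 : 1 ≤ p ^ e := Nat.one_le_pow _ _ hp.pos
    have hpe : p ^ e % 3 = 1 := by omega
    have hp3 : p % 3 = 1 := by
      obtain ⟨k, rfl⟩ := heo
      rw [Nat.pow_mod] at hpe
      have hlt := Nat.mod_lt p (show 3 > 0 by norm_num)
      interval_cases hp' : p % 3
      · simp at hpe
      · rfl
      · rw [pow_succ, pow_mul, Nat.mul_mod, Nat.pow_mod] at hpe
        norm_num at hpe
    have he : e = 1 := by
      by_contra hne
      obtain ⟨k, rfl⟩ := heo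
      refine hmin 1 one_pos (by omega) ?_
      rw [pow_one]
      omega
    subst he
    exact ⟨p, hp, by rw [hF, pow_one], hp3⟩
  all_goals omega

/-- Maximal subgroups of the special linear group in dimension at least three. -/
theorem maximal_linear {H : Subgroup (GL ι F)} (hn : 3 ≤ Fintype.card ι)
    (hH : IsMaximalIn (specialLinear ι F) H) :
    (∃ W : Submodule F (ι → F), W ≠ ⊥ ∧ W ≠ ⊤ ∧ H = subspaceStabilizer W ⊓ specialLinear ι F) ∨
    (∃ (t m : ℕ) (D : Fin t → Submodule F (ι → F)), t * m = Fintype.card ι ∧ IsMDecomposition m D ∧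
      (m = 1 → 5 ≤ Fintype.card F) ∧ (m = 2 → 3 ≤ Fintype.card F) ∧
      (m = 2 → t = 2 → 4 ≤ Fintype.card F) ∧ H = decompositionStabilizer D ⊓ specialLinear ι F) ∨
    (∃ (r : ℕ) (K : Subalgebra F (Matrix ι ι F)), r.Prime ∧ r ∣ Fintype.card ι ∧ IsFieldSubalgebra r K ∧
      H = subalgebraNormalizer K ⊓ specialLinear ι F) ∨
    (∃ (n₁ n₂ : ℕ) (e : ι ≃ Fin n₁ × Fin n₂) (P : GL ι F), 2 ≤ n₁ ∧ n₁ < n₂ ∧ n₁ * n₂ = Fintype.card ι ∧
      (n₁ = 2 → 3 ≤ Fintype.card F) ∧ H = tensorProductSubgroup n₁ n₂ e P ⊓ specialLinear ι F) ∨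
    (∃ (F₀ : Subfield F) (r : ℕ) (P : GL ι F), r.Prime ∧ Fintype.card F = Nat.card F₀ ^ r ∧
      H = subfieldSubgroup F₀ P ⊓ specialLinear ι F) ∨
    (∃ (r m : ℕ) (R : Subgroup (GL ι F)), IsLinearSymplecticTypeData r R ∧ 1 ≤ m ∧ Fintype.card ι = r ^ m ∧
      H = subgroupNormalizer R ⊓ specialLinear ι F) ∨
    (∃ (m t : ℕ) (e : ι ≃ (Fin t → Fin m)) (P : GL ι F), 3 ≤ m ∧ 2 ≤ t ∧ m ^ t = Fintype.card ι ∧
      H = tensorWreathSubgroup m t e P ⊓ specialLinear ι F) ∨
    (Odd (Fintype.card F) ∧ ∃ Q : (ι → F) → F, IsNondegenerateQuadraticForm Q ∧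
      H = quadSimilarityGroup Q ⊓ specialLinear ι F) ∨
    (∃ f : (ι → F) → (ι → F) → F, IsSymplecticForm f ∧ H = similarityGroup f ⊓ specialLinear ι F) ∨
    (∃ (σ : F ≃+* F) (f : (ι → F) → (ι → F) → F), IsUnitaryForm σ f ∧
      H = similarityGroup f ⊓ specialLinear ι F) ∨
    InLinearResidualClass H := by
  classical
  have : Nonempty ι := Fintype.card_pos_iff.mp (by omega)
  have hsymp : ∀ f, IsSymplecticForm f → H ≤ similarityGroup f → H = similarityGroup f ⊓ specialLinear ι F :=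
    fun f hf h => eq_inf_of_le hH h (specialLinear_not_le_similarity hn (isSesq_of_bilinear hf.bilinear) hf.nondegenerate)
  by_cases hirr : ActsIrreducibly (matrixSet H)
  swap
  · obtain ⟨W, h0, h1, h⟩ := exists_subspace_of_not_irreducible hirr
    exact Or.inl ⟨W, h0, h1, eq_inf_of_le hH h (specialLinear_not_le_subspace h0 h1)⟩
  by_cases hprim : IsPrimitiveLin H
  swap
  · unfold IsPrimitiveLin at hprim
    push Not at hprim
    obtain ⟨m, t, D, -, hD, hG⟩ := hprim
    have htm := decomposition_card hD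
    by_cases h1 : m = 1 ∧ Fintype.card F < 5
    · obtain ⟨rfl, hq⟩ := h1
      rw [mul_one] at htm
      subst htm
      rcases monomial_small (by omega) hq hD hG with ⟨W, h0, h1, h⟩ | ⟨ho, Q, hQ, h⟩ | ⟨σ, f, hf, h⟩
      · exact Or.inl ⟨W, h0, h1, eq_inf_of_le hH h (specialLinear_not_le_subspace h0 h1)⟩
      · exact Or.inr (Or.inr (Or.inr (Or.inr (Or.inr (Or.inr (Or.inr (Or.inl ⟨ho, Q, hQ,
          eq_inf_of_le hH h (specialLinear_not_le_quadSimilarity hn hQ)⟩)))))))
      · exact Or.inr (Or.inr (Or.inr (Or.inr (Or.inr (Or.inr (Or.inr (Or.inr (Or.inr (Or.inl ⟨σ, f, hf,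
          eq_inf_of_le hH h (specialLinear_not_le_similarity hn (isSesq_of_unitary hf) hf.nondegenerate)⟩)))))))))
    by_cases h2 : m = 2 ∧ (Fintype.card F < 3 ∨ (t = 2 ∧ Fintype.card F < 4))
    · obtain ⟨rfl, hq⟩ := h2
      have hq2 := Fintype.one_lt_card (α := F)
      obtain ⟨f, hf, h⟩ := symplectic_of_planes hD hG (by
        intro g hg d hd hprod i j
        rcases hq with hq | ⟨rfl, hq⟩
        · exact ((eq_zero_or_one_of_card_two (by omega) _).resolve_left (hd i)).trans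
            ((eq_zero_or_one_of_card_two (by omega) _).resolve_left (hd j)).symm
        · rcases (show Fintype.card F = 2 ∨ Fintype.card F = 3 by omega) with hq | hq
          · exact ((eq_zero_or_one_of_card_two hq _).resolve_left (hd i)).trans
              ((eq_zero_or_one_of_card_two hq _).resolve_left (hd j)).symm
          · rw [CfsgLib.Geo.mem_specialLinear.mp (hH.1.le hg), Fin.prod_univ_two] at hprod
            have h0 := (eq_zero_or_sq_one_of_card_three hq _).resolve_left (hd 0)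
            have h01 : d 0 = d 1 := by linear_combination d 1 * h0 - d 0 * hprod
            fin_cases i <;> fin_cases j <;> simp [h01])
      exact Or.inr (Or.inr (Or.inr (Or.inr (Or.inr (Or.inr (Or.inr (Or.inr (Or.inl ⟨f, hf, hsymp f hf h⟩))))))))
    refine Or.inr (Or.inl ⟨t, m, D, htm, hD, fun h => ?_, fun h => ?_, fun h ht => ?_,
      eq_inf_of_le hH hG (specialLinear_not_le_decomposition hD)⟩)
    · by_contra hq; exact h1 ⟨h, by omega⟩
    · by_contra hq; exact h2 ⟨h, Or.inl (by omega)⟩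
    · by_contra hq; exact h2 ⟨h, Or.inr ⟨ht, by omega⟩⟩
  right; right
  have hfield : HasField H → ∃ (r : ℕ) (K : Subalgebra F (Matrix ι ι F)), r.Prime ∧ r ∣ Fintype.card ι ∧
      IsFieldSubalgebra r K ∧ H = subalgebraNormalizer K ⊓ specialLinear ι F := fun ⟨r, K, hr, hK, h⟩ =>
    ⟨r, K, hr, fieldSubalgebra_dvd hK, hK, eq_inf_of_le hH h (specialLinear_not_le_field hn hr.two_le hK)⟩
  rcases linear_structure hn H with ⟨W, h0, h1, h⟩ | ⟨t, m, D, hD, h⟩ | h | ⟨n₁, n₂, e, P, h1, h2, h⟩ |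
    ⟨F₀, r, P, hr, hc, h⟩ | ⟨r, m, R, hR, hcl, hm1, hm, h⟩ | ⟨m, t, e, P, hm, ht, h⟩ |
    (⟨f, hf, h⟩ | ⟨ho, Q, hQ, h⟩) | ⟨σ, f, hf, h⟩ | h
  · exact absurd (eq_top_of_invariant hirr W h0 fun g hg v hv => CfsgLib.Geo.mem_subspaceStabilizer.mp (h hg) v hv) h1
  · exact absurd h (hprim m t D hD.two_le hD)
  · exact Or.inl (hfield h)
  · have hcard : n₁ * n₂ = Fintype.card ι := by simp [Fintype.card_congr e]
    by_cases hq : n₁ = 2 ∧ Fintype.card F < 3
    · obtain ⟨rfl, hq⟩ := hq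
      have hq2 := Fintype.one_lt_card (α := F)
      exact Or.inl (hfield (hasField_of_tensor_two (by omega) hirr hprim (by omega) e P h))
    exact Or.inr (Or.inl ⟨n₁, n₂, e, P, h1, h2, hcard, fun h' => by by_contra hq'; exact hq ⟨h', by omega⟩,
      eq_inf_of_le hH h (specialLinear_not_le_tensor h1 (by omega) e P)⟩)
  · exact Or.inr (Or.inr (Or.inl ⟨F₀, r, P, hr, hc,
      eq_inf_of_le hH h (specialLinear_not_le_subfield (by omega) (subfield_ne_top hr hc) P)⟩))
  · exact Or.inr (Or.inr (Or.inr (Or.inl ⟨r, m, R, hR, hm1, hm,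
      eq_inf_of_le hH h (specialLinear_not_le_symplecticType hn hR hcl)⟩)))
  · have hcard : m ^ t = Fintype.card ι := by simp [Fintype.card_congr e]
    exact Or.inr (Or.inr (Or.inr (Or.inr (Or.inl ⟨m, t, e, P, hm, ht, hcard,
      eq_inf_of_le hH h (specialLinear_not_le_wreath (by omega) ht e P)⟩))))
  · exact Or.inr (Or.inr (Or.inr (Or.inr (Or.inr (Or.inr (Or.inl ⟨f, hf, hsymp f hf h⟩))))))
  · exact Or.inr (Or.inr (Or.inr (Or.inr (Or.inr (Or.inl ⟨ho, Q, hQ,
      eq_inf_of_le hH h (specialLinear_not_le_quadSimilarity hn hQ)⟩)))))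
  · exact Or.inr (Or.inr (Or.inr (Or.inr (Or.inr (Or.inr (Or.inr (Or.inl ⟨σ, f, hf,
      eq_inf_of_le hH h (specialLinear_not_le_similarity hn (isSesq_of_unitary hf) hf.nondegenerate)⟩)))))))
  · exact Or.inr (Or.inr (Or.inr (Or.inr (Or.inr (Or.inr (Or.inr (Or.inr h)))))))

end CfsgLib.Aschbacher
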