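import Cfsg.Agent.Aschbacher.General.ClassTwo

/-!
The outcomes for a minimal non-scalar normal subgroup of class two.
-/
set_option autoImplicit false
set_option maxHeartbeats 1000000

namespace CfsgLib.Aschbacher

open Matrix Cfsg.Geo CfsgLib.GeoClifford
open scoped MatrixGroups commutatorElement

variable {ι : Type} [Fintype ι] [DecidableEq ι] {F : Type*} [Field F]

/-- A matrix killed by `X ^ z - 1`, which splits with simple roots, has an eigenvector in an invariant set. -/
lemma exists_root_eigenvector {ζ : F} {z : ℕ} (hz : 0 < z) (hζ : IsPrimitiveRoot ζ z) (x : Matrix ι ι F)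
    (hx : x ^ z = 1) (v : ι → F) (hv : v ≠ 0) :
    ∃ (j : ℕ) (p : Polynomial F), Polynomial.aeval x p *ᵥ v ≠ 0 ∧
      x *ᵥ (Polynomial.aeval x p *ᵥ v) = ζ ^ j • (Polynomial.aeval x p *ᵥ v) := by
  classical
  let P : ℕ → Polynomial F := fun k => ∏ i ∈ Finset.range k, (Polynomial.X - Polynomial.C (ζ ^ i * 1))
  have hex : ∃ k, Polynomial.aeval x (P k) *ᵥ v = 0 := by
    refine ⟨z, ?_⟩
    show Polynomial.aeval x (∏ i ∈ Finset.range z, (Polynomial.X - Polynomial.C (ζ ^ i * 1))) *ᵥ v = 0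
    rw [← X_pow_sub_C_eq_prod hζ hz (one_pow z : (1 : F) ^ z = 1), map_sub, map_pow, Polynomial.aeval_X,
      Polynomial.aeval_C, map_one, hx, sub_self, zero_mulVec]
  obtain ⟨j, hj⟩ : ∃ j, Nat.find hex = j + 1 := Nat.exists_eq_succ_of_ne_zero fun h => hv (by
    have := Nat.find_spec hex
    rw [h] at this
    simpa [P] using this)
  refine ⟨j, P j, Nat.find_min hex (by omega), ?_⟩
  have h := Nat.find_spec hex
  rw [hj, show P (j + 1) = (Polynomial.X - Polynomial.C (ζ ^ j * 1)) * P j from by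
    rw [mul_comm]; exact Finset.prod_range_succ _ _, map_mul, map_sub, Polynomial.aeval_X,
    Polynomial.aeval_C, Algebra.algebraMap_eq_smul_one, mul_one] at h
  simp only [← mulVec_mulVec, sub_mulVec, smul_mulVec, one_mulVec] at h
  exact sub_eq_zero.mp h

/-- Commuting matrices killed by `X ^ z - 1` have a common eigenvector. -/
lemma exists_common_eigenvector [Nonempty ι] {ζ : F} {z : ℕ} (hz : 0 < z) (hζ : IsPrimitiveRoot ζ z)
    (s : Finset (Matrix ι ι F)) :
    (∀ x ∈ s, x ^ z = 1) → (∀ x ∈ s, ∀ y ∈ s, x * y = y * x) →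
      ∃ v : ι → F, v ≠ 0 ∧ ∀ x ∈ s, ∃ j : ℕ, x *ᵥ v = ζ ^ j • v := by
  classical
  induction s using Finset.induction_on with
  | empty => exact fun _ _ => ⟨fun _ => 1, fun h => one_ne_zero (congrFun h (Classical.arbitrary ι)), by simp⟩
  | insert a s ha ih =>
    intro hp hc
    obtain ⟨v, hv0, hv⟩ := ih (fun x hx => hp x (Finset.mem_insert_of_mem hx))
      (fun x hx y hy => hc x (Finset.mem_insert_of_mem hx) y (Finset.mem_insert_of_mem hy))
    obtain ⟨j, p, h0, hj⟩ := exists_root_eigenvector hz hζ a (hp a (Finset.mem_insert_self a s)) v hv0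
    refine ⟨_, h0, fun x hx => ?_⟩
    rcases Finset.mem_insert.mp hx with rfl | hx'
    · exact ⟨j, hj⟩
    · obtain ⟨i, hi⟩ := hv x hx'
      refine ⟨i, ?_⟩
      have hcom : x * Polynomial.aeval a p = Polynomial.aeval a p * x :=
        (Algebra.commute_of_mem_adjoin_singleton_of_commute (Polynomial.aeval_mem_adjoin_singleton F a)
          (hc x (Finset.mem_insert_of_mem hx') a (Finset.mem_insert_self a s))).eq
      rw [mulVec_mulVec, hcom, ← mulVec_mulVec, hi, mulVec_smul]

variable [Fintype F]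

/-- The monomial coordinates over the roots of unity. -/
theorem exists_monomial [Nonempty ι] {N : Subgroup (GL ι F)} (habs : ActsAbsolutelyIrreducibly (matrixSet N))
    (hcl : ⁅N, N⁆ ≤ scalars ι F) {r z : ℕ} {ζ : F} (hd : ClassTwoData N r z ζ) (hz2 : z ≠ 2) :
    ∃ P : GL ι F, ∀ g ∈ N, ∃ (j : ι → ι) (k : ι → ℕ), Function.Injective j ∧
      ((P⁻¹ : GL ι F) : Matrix ι ι F) * (g : Matrix ι ι F) * (P : Matrix ι ι F) =
        Matrix.of fun (r : ι) (i : ι) => if r = j i then ζ ^ k i else 0 := by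
  classical
  have hz0 : 0 < z := by
    rcases hd.order with ⟨-, h⟩ | ⟨-, h⟩ | ⟨-, h⟩
    · rw [h]; exact hd.prime.pos
    all_goals omega
  obtain ⟨A, -, hAmax⟩ := Finite.exists_le_maximal
    (p := fun A : Subgroup (GL ι F) => N ⊓ scalars ι F ≤ A ∧ A ≤ N ∧ ∀ a ∈ A, ∀ b ∈ A, a * b = b * a)
    (a := N ⊓ scalars ι F) ⟨le_rfl, inf_le_left, fun a ha b _ => scalars_comm ha.2 b⟩
  obtain ⟨hZA, hAN, hAc⟩ := hAmax.prop
  have hcentral : ∀ y ∈ N, (∀ a ∈ A, a * y = y * a) → y ∈ A := by
    intro y hy hc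
    have hcyc : ∀ a ∈ Subgroup.zpowers y, ∀ b ∈ A, a * b = b * a := by
      rintro _ ⟨i, rfl⟩ b hb
      exact (Commute.zpow_left (hc b hb).symm i).eq
    let S : Bool → Subgroup (GL ι F) := fun b => if b then A else Subgroup.zpowers y
    have hpair := pairwise_comm_iSup S (by
      rintro (_ | _) (_ | _) a ha b hb
      · obtain ⟨i, rfl⟩ := ha
        obtain ⟨j, rfl⟩ := hb
        exact (Commute.zpow_zpow_self y i j).eq
      · exact hcyc a ha b hb
      · exact (hcyc b hb a ha).symm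
      · exact hAc a ha b hb)
    have hle : A ≤ ⨆ b, S b := le_iSup S true
    refine hAmax.2 ⟨hZA.trans hle, iSup_le ?_, hpair⟩ hle (le_iSup S false (Subgroup.mem_zpowers y))
    rintro (_ | _)
    · exact Subgroup.zpowers_le.mpr hy
    · exact hAN
  obtain ⟨v, hv0, hv⟩ := exists_common_eigenvector hz0 hd.primitive
    ((Finset.univ : Finset A).image fun a : A => ((a.1 : GL ι F) : Matrix ι ι F))
    (by
      intro x hx
      obtain ⟨a, -, rfl⟩ := Finset.mem_image.mp hx
      rw [← Units.val_pow_eq_pow_val, hd.pow_eq hz2 a.1 (hAN a.2), Units.val_one])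
    (by
      intro x hx y hy
      obtain ⟨a, -, rfl⟩ := Finset.mem_image.mp hx
      obtain ⟨b, -, rfl⟩ := Finset.mem_image.mp hy
      rw [← Units.val_mul, ← Units.val_mul, hAc a.1 a.2 b.1 b.2])
  have hvA : ∀ a ∈ A, ∃ j : ℕ, (a : Matrix ι ι F) *ᵥ v = ζ ^ j • v := fun a ha =>
    hv _ (Finset.mem_image.mpr ⟨⟨a, ha⟩, Finset.mem_univ _, rfl⟩)
  -- conjugates inside `A`
  have hAconj : ∀ u ∈ N, ∀ a ∈ A, u * a * u⁻¹ ∈ A := by
    intro u hu a ha
    rw [show u * a * u⁻¹ = ⁅u, a⁆ * a from by rw [commutatorElement_def]; group]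
    exact A.mul_mem (hZA ⟨Subgroup.commutator_le_self N (Subgroup.commutator_mem_commutator hu (hAN ha)),
      hcl (Subgroup.commutator_mem_commutator hu (hAN ha))⟩) ha
  set A' := A.subgroupOf N
  let w : N ⧸ A' → (ι → F) := fun q => ((q.out : N).1 : Matrix ι ι F) *ᵥ v
  have hmove : ∀ (g : N) (q : N ⧸ A'), ∃ (q' : N ⧸ A') (k : ℕ),
      ((g.1 : GL ι F) : Matrix ι ι F) *ᵥ w q = ζ ^ k • w q' := by
    intro g q
    set y : N := g * q.out
    refine ⟨QuotientGroup.mk y, ?_⟩
    have hmem : (QuotientGroup.mk (s := A') y).out⁻¹ * y ∈ A' :=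
      QuotientGroup.eq.mp (QuotientGroup.out_eq' _)
    obtain ⟨k, hk⟩ := hvA _ (Subgroup.mem_subgroupOf.mp hmem)
    refine ⟨k, ?_⟩
    show _ *ᵥ (_ *ᵥ v) = _ • (_ *ᵥ v)
    rw [← mulVec_smul, ← hk, mulVec_mulVec, mulVec_mulVec, ← Units.val_mul, ← Units.val_mul]
    congr 2
    simp [y]
  have heig : ∀ (a : A) (q : N ⧸ A'), ∃ j : ℕ, ((a.1 : GL ι F) : Matrix ι ι F) *ᵥ w q = ζ ^ j • w q ∧
      ((q.out.1⁻¹ * a.1 * q.out.1 : GL ι F) : Matrix ι ι F) *ᵥ v = ζ ^ j • v := by
    intro a q
    have hm : q.out.1⁻¹ * a.1 * q.out.1 ∈ A := by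
      simpa using hAconj _ (N.inv_mem q.out.2) _ a.2
    obtain ⟨j, hj⟩ := hvA _ hm
    refine ⟨j, ?_, hj⟩
    show _ *ᵥ (_ *ᵥ v) = _ • (_ *ᵥ v)
    rw [← mulVec_smul, ← hj, mulVec_mulVec, mulVec_mulVec, ← Units.val_mul, ← Units.val_mul]
    congr 2
    group
  choose χ hχ hχv using heig
  have hwne : ∀ q, w q ≠ 0 := by
    intro q h
    exact hv0 (mulVec_injective_GL q.out.1 (a₁ := v) (a₂ := 0) (by
      rw [Matrix.toLin'_apply, Matrix.toLin'_apply, mulVec_zero]; exact h))
  have hli : LinearIndependent F w := by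
    refine linearIndependent_of_separated (fun a : A => Matrix.toLin' ((a.1 : GL ι F) : Matrix ι ι F)) w
      (fun a q => ζ ^ χ a q) hwne (fun a q => by rw [Matrix.toLin'_apply]; exact hχ a q) ?_
    intro q q' hne
    by_contra hcon
    push Not at hcon
    apply hne
    set u := q.out.1
    set u' := q'.out.1
    have hu : u ∈ N := q.out.2
    have hu' : u' ∈ N := q'.out.2
    have hcomm : ∀ a ∈ A, a * (u' * u⁻¹) = u' * u⁻¹ * a := by
      intro a ha
      have h1 := hχv ⟨a, ha⟩ q
      have h2 := hχv ⟨a, ha⟩ q'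
      rw [← hcon ⟨a, ha⟩] at h2
      simp only at h1 h2
      set x := u⁻¹ * a * u
      set x' := u'⁻¹ * a * u'
      have hs : x'⁻¹ * x ∈ scalars ι F := by
        have e1 : x'⁻¹ * x = u'⁻¹ * ⁅a⁻¹, u' * u⁻¹⁆ * u' := by
          simp only [x, x', commutatorElement_def]; group
        rw [e1]
        simpa using scalars_normal.conj_mem _
          (hcl (Subgroup.commutator_mem_commutator (N.inv_mem (hAN ha)) (N.mul_mem hu' (N.inv_mem hu)))) u'⁻¹
      obtain ⟨c, hc⟩ := (mem_scalars_iff _).mp hs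
      have h3 : ((x'⁻¹ * x : GL ι F) : Matrix ι ι F) *ᵥ v = v := by
        rw [Units.val_mul, ← mulVec_mulVec, h1, ← h2, mulVec_mulVec, ← Units.val_mul, inv_mul_cancel, Units.val_one,
          one_mulVec]
      have h4 : x'⁻¹ * x = 1 := by
        refine Units.ext ?_
        rw [hc, smul_mulVec, one_mulVec] at h3
        have : ((c : F) - 1) • v = 0 := by rw [sub_smul, h3, one_smul, sub_self]
        rw [hc, sub_eq_zero.mp ((smul_eq_zero.mp this).resolve_right hv0), one_smul, Units.val_one]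
      have h5 : x' = x := inv_mul_eq_one.mp h4
      calc a * (u' * u⁻¹) = u' * x' * u⁻¹ := by simp only [x']; group
        _ = u' * u⁻¹ * a := by rw [h5]; simp only [x]; group
    have hm : u' * u⁻¹ ∈ A := hcentral _ (N.mul_mem hu' (N.inv_mem hu)) hcomm
    rw [← QuotientGroup.out_eq' q, ← QuotientGroup.out_eq' q', QuotientGroup.eq, Subgroup.mem_subgroupOf]
    show u⁻¹ * u' ∈ A
    have := hAconj u⁻¹ (N.inv_mem hu) _ hm
    simpa [mul_assoc] using this
  have hspan : Submodule.span F (Set.range w) = ⊤ := by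
    refine eq_top_of_invariant habs.1 _ ?_ ?_
    · intro h
      exact hwne (QuotientGroup.mk 1) (Submodule.span_eq_bot.mp h _ ⟨_, rfl⟩)
    · intro g hg u hu
      induction hu using Submodule.span_induction with
      | mem x hx =>
        obtain ⟨q, rfl⟩ := hx
        obtain ⟨q', k, hk⟩ := hmove ⟨g, hg⟩ q
        rw [show ((g : Matrix ι ι F)) *ᵥ w q = ζ ^ k • w q' from hk]
        exact Submodule.smul_mem _ _ (Submodule.subset_span ⟨q', rfl⟩)
      | zero => simp
      | add x y _ _ hx hy => rw [mulVec_add]; exact Submodule.add_mem _ hx hy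
      | smul c x _ hx => rw [mulVec_smul]; exact Submodule.smul_mem _ _ hx
  letI := Fintype.ofFinite (N ⧸ A')
  have hcard : Fintype.card ι = Fintype.card (N ⧸ A') := by
    rw [← finrank_span_eq_card hli, hspan, finrank_top, Module.finrank_fintype_fun_eq_card]
  let e : ι ≃ N ⧸ A' := Fintype.equivOfCardEq hcard
  have hPu : IsUnit (Matrix.of fun r i => w (e i) r : Matrix ι ι F) :=
    Matrix.linearIndependent_cols_iff_isUnit.mp (hli.comp e e.injective)
  set P : GL ι F := hPu.unit
  have hPs : ∀ i, (P : Matrix ι ι F) *ᵥ Pi.single i 1 = w (e i) := by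
    intro i; ext r; simp [P, IsUnit.unit_spec]
  refine ⟨P, fun g hg => ?_⟩
  choose j k hjk using fun i => hmove ⟨g, hg⟩ (e i)
  refine ⟨fun i => e.symm (j i), k, ?_, ?_⟩
  · intro i i' h
    have hji : j i = j i' := e.symm.injective h
    have h0 : ζ ≠ 0 := hd.primitive.ne_zero hz0.ne'
    by_contra hne
    have h1 : ((g : GL ι F) : Matrix ι ι F) *ᵥ (ζ ^ k i' • w (e i) - ζ ^ k i • w (e i')) = 0 := by
      rw [mulVec_sub, mulVec_smul, mulVec_smul, hjk, hjk, hji, smul_smul, smul_smul, mul_comm, sub_self]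
    have h2 := mulVec_injective_GL g (a₁ := ζ ^ k i' • w (e i) - ζ ^ k i • w (e i')) (a₂ := 0) (by simpa using h1)
    rw [sub_eq_zero] at h2
    have hmem : w (e i) ∈ Submodule.span F (w '' {e i'}) := by
      rw [Set.image_singleton, Submodule.mem_span_singleton]
      exact ⟨(ζ ^ k i')⁻¹ * ζ ^ k i, by
        rw [mul_smul, ← h2, smul_smul, inv_mul_cancel₀ (pow_ne_zero _ h0), one_smul]⟩
    exact hli.notMem_span_image (by simpa using fun h => hne (e.injective h)) hmem
  · apply Matrix.ext_of_mulVec_single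
    intro i
    rw [← mulVec_mulVec, hPs, ← mulVec_mulVec, hjk, mulVec_smul, show w (j i) = w (e (e.symm (j i))) by simp, ← hPs,
      mulVec_mulVec, ← Units.val_mul, inv_mul_cancel, Units.val_one, one_mulVec]
    ext r
    simp [Pi.single_apply]

/-- An automorphism inverting the roots of unity when their field has even degree. -/
lemma exists_inverting_auto' {z p e : ℕ} [Fact p.Prime] [CharP F p] (hz : 2 < z) {ζ : F}
    (hsq : ∀ x : ZMod z, x ^ 2 = 1 → x = 1 ∨ x = -1)
    (hζ : IsPrimitiveRoot ζ z) (hF : Fintype.card F = p ^ e) (he : orderOf (p : ZMod z) = e) (heven : Even e)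
    (he0 : 0 < e) :
    ∃ σ : F ≃+* F, σ ≠ RingEquiv.refl F ∧ (∀ a, σ (σ a) = a) ∧ σ ζ = ζ⁻¹ := by
  obtain ⟨m, hm⟩ := heven
  subst hm
  have hm0 : 0 < m := by omega
  have hpm : (p : ZMod z) ^ m = -1 := by
    rcases hsq _ (show ((p : ZMod z) ^ m) ^ 2 = 1 by
      rw [← pow_mul, show m * 2 = m + m by ring, ← he, pow_orderOf_eq_one]) with h | h
    · exact absurd (orderOf_le_of_pow_eq_one hm0 h) (by omega)
    · exact h
  let σ : F ≃+* F := RingEquiv.ofBijective (iterateFrobenius F p m)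
    (Finite.injective_iff_bijective.mp (RingHom.injective _))
  have hσ : ∀ a, σ a = a ^ p ^ m := fun a => iterateFrobenius_def p m a
  have hσζ : σ ζ = ζ⁻¹ := by
    rw [hσ]
    have h : ((p ^ m + 1 : ℕ) : ZMod z) = 0 := by push_cast; rw [hpm]; ring
    rw [ZMod.natCast_eq_zero_iff] at h
    obtain ⟨k, hk⟩ := h
    apply eq_inv_of_mul_eq_one_left
    rw [← pow_succ, hk, pow_mul, hζ.pow_eq_one, one_pow]
  refine ⟨σ, fun h => ?_, fun a => ?_, hσζ⟩
  · have hcc : ζ = ζ⁻¹ := by
      conv_lhs => rw [show ζ = σ ζ by rw [h]; rfl]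
      exact hσζ
    have hc2 : ζ ^ 2 = 1 := by
      rw [sq]; conv_lhs => arg 2; rw [hcc]
      exact mul_inv_cancel₀ (hζ.ne_zero (by omega))
    exact absurd (Nat.le_of_dvd two_pos (hζ.dvd_of_pow_eq_one 2 hc2)) (by omega)
  · rw [hσ, hσ, ← pow_mul, ← pow_add, ← hF, FiniteField.pow_card]

/-- With centre of order two a bilinear form is fixed. -/
lemma exists_fixed_bilinear {N : Subgroup (GL ι F)} [Nonempty ι] {r : ℕ} {ζ : F}
    (hd : ClassTwoData N r 2 ζ) :
    ∃ B : Matrix ι ι F, B ≠ 0 ∧ ∀ g ∈ N, (g : Matrix ι ι F)ᵀ * B * (g : Matrix ι ι F) = B := by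
  classical
  letI := Fintype.ofFinite (N ⧸ Subgroup.center N)
  let rep : N ⧸ Subgroup.center N → Matrix ι ι F := fun q => ((q.out : N).1 : Matrix ι ι F)
  have hli : LinearIndependent F rep := hd.coset_li
  obtain ⟨M, hM⟩ : ∃ M : Matrix ι ι F, ∑ q, (rep q)ᵀ * M * rep q ≠ 0 := by
    by_contra hcon
    push Not at hcon
    obtain ⟨i⟩ := ‹Nonempty ι›
    have key : ∀ a, ∑ q, rep q i a • rep q = 0 := by
      intro a
      ext j b
      have := congrFun (congrFun (hcon (Matrix.single i j 1)) a) b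
      simpa [Matrix.sum_apply, Matrix.mul_apply, Matrix.single_apply, ite_and, mul_comm] using this
    set q0 : N ⧸ Subgroup.center N := QuotientGroup.mk 1
    have hrow : ∀ a, rep q0 i a = 0 := fun a => Fintype.linearIndependent_iff.mp hli _ (key a) q0
    have h1 : (rep q0).det = 0 := Matrix.det_eq_zero_of_row_eq_zero i hrow
    exact (Matrix.GeneralLinearGroup.det (q0.out : N).1).ne_zero h1
  refine ⟨_, hM, fun g hg => ?_⟩
  have hmove : ∀ q : N ⧸ Subgroup.center N,
      (rep q * (g : Matrix ι ι F))ᵀ * M * (rep q * (g : Matrix ι ι F)) =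
        (rep (q * QuotientGroup.mk ⟨g, hg⟩))ᵀ * M * rep (q * QuotientGroup.mk ⟨g, hg⟩) := by
    intro q
    set y : N := q.out * ⟨g, hg⟩
    have hq : (QuotientGroup.mk y : N ⧸ Subgroup.center N) = q * QuotientGroup.mk ⟨g, hg⟩ := by
      rw [QuotientGroup.mk_mul, QuotientGroup.out_eq']
    rw [← hq]
    have hmem : (QuotientGroup.mk (s := Subgroup.center N) y).out⁻¹ * y ∈ Subgroup.center N :=
      QuotientGroup.eq.mp (QuotientGroup.out_eq' _)
    have hs := Subgroup.mem_subgroupOf.mp (hd.center_eq.le hmem)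
    obtain ⟨i, hi⟩ := hd.scalar _ (SetLike.coe_mem _) hs
    have e1 : rep q * (g : Matrix ι ι F) = ζ ^ i • rep (QuotientGroup.mk y) := by
      calc rep q * (g : Matrix ι ι F) = (((QuotientGroup.mk (s := Subgroup.center N) y).out.1 *
            ((QuotientGroup.mk (s := Subgroup.center N) y).out⁻¹ * y : N).1 : GL ι F) : Matrix ι ι F) := by
            simp [rep, y]
        _ = _ := by
            rw [Units.val_mul, hi, mul_smul_comm, mul_one]
    rw [e1, transpose_smul, smul_mul_assoc, smul_mul_assoc, mul_smul_comm, smul_smul, ← mul_pow, ← sq,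
      hd.primitive.pow_eq_one, one_pow, one_smul]
  calc (g : Matrix ι ι F)ᵀ * (∑ q, (rep q)ᵀ * M * rep q) * (g : Matrix ι ι F)
      = ∑ q, (rep q * (g : Matrix ι ι F))ᵀ * M * (rep q * (g : Matrix ι ι F)) := by
        simp only [Finset.mul_sum, Finset.sum_mul, transpose_mul, mul_assoc]
    _ = _ := by
        simp only [hmove]
        refine Fintype.sum_equiv (Equiv.mulRight (QuotientGroup.mk ⟨g, hg⟩)) _ _ fun q => ?_
        simp only [Equiv.coe_mulRight]

/-- The outcomes for a class-two minimal normal subgroup. -/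
theorem classTwo_cases (hn : 3 ≤ Fintype.card ι) {H N : Subgroup (GL ι F)} (hclean : Clean H)
    (hN : NormSub H N) (hNs : ¬ N ≤ scalars ι F)
    (hmin : ∀ M, NormSub H M → M ≤ N → ¬ M ≤ scalars ι F → M = N) (hcl : ⁅N, N⁆ ≤ scalars ι F) :
    HasBilinearForm H ∨ HasSubfield H ∨ HasUnitary H ∨ HasSymplecticType H := by
  classical
  have : Nonempty ι := Fintype.card_pos_iff.mp (by omega)
  obtain ⟨r, z, ζ, hd⟩ := exists_classTwoData (by omega) hclean hN hNs hmin hcl
  have habs := hclean _ hN hNs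
  have : Fact r.Prime := ⟨hd.prime⟩
  by_cases hz2 : z = 2
  · subst hz2
    obtain ⟨B, hB0, hB⟩ := exists_fixed_bilinear hd
    exact Or.inl (hasBilinearForm_of_fixed (by omega) hN habs hB0 hB)
  right
  obtain ⟨P, hmon⟩ := exists_monomial habs hcl hd hz2
  have hz : 2 < z := by
    rcases hd.order with ⟨ho, h⟩ | ⟨-, h⟩ | ⟨-, h⟩
    · have := hd.prime.two_le
      have : r ≠ 2 := by rintro rfl; exact absurd ho (by decide)
      omega
    all_goals omega
  have hsq : ∀ x : ZMod z, x ^ 2 = 1 → x = 1 ∨ x = -1 := by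
    rcases hd.order with ⟨-, h⟩ | ⟨-, h⟩ | ⟨-, h⟩
    · subst h; exact fun x hx => sq_eq_one_iff.mp hx
    · exact absurd h hz2
    · subst h; decide
  have hreal : ∀ F₀ : Subfield F, ζ ∈ F₀ → RealisableOver F₀ (matrixSet N) := by
    intro F₀ hζ
    refine ⟨P⁻¹, forall_matrixSet.mpr fun g hg a b => ?_⟩
    obtain ⟨j, k, -, hM⟩ := hmon g hg
    rw [inv_inv, hM]
    show (if a = j b then ζ ^ k b else 0) ∈ F₀
    split
    · exact pow_mem hζ _
    · exact zero_mem _
  obtain ⟨p, hchar⟩ := CharP.exists F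
  obtain ⟨f, hp, hF⟩ := FiniteField.card F p
  have : Fact p.Prime := ⟨hp⟩
  have : NeZero z := ⟨by omega⟩
  set e := orderOf (p : ZMod z) with he
  have hcast : ∀ d, (p : ZMod z) ^ d = 1 ↔ z ∣ p ^ d - 1 := by
    intro d
    rw [← ZMod.natCast_eq_zero_iff, Nat.cast_sub (Nat.one_le_pow _ _ hp.pos), Nat.cast_pow, Nat.cast_one,
      sub_eq_zero]
  have hζ0 : ζ ≠ 0 := hd.primitive.ne_zero (by omega)
  have hzq : z ∣ p ^ (f : ℕ) - 1 := by
    rw [← hF]
    exact hd.primitive.dvd_of_pow_eq_one _ (FiniteField.pow_card_sub_one_eq_one ζ hζ0)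
  have hrp : r ≠ p := by
    intro h
    have hr' : r ∣ p ^ (f : ℕ) - 1 := (show r ∣ z by
      rcases hd.order with ⟨-, h⟩ | ⟨h1, h⟩ | ⟨h1, h⟩
      · rw [h]
      · rw [h, h1]
      · rw [h, h1]; decide).trans hzq
    rw [h] at hr'
    have h1 : p ∣ p ^ (f : ℕ) := dvd_pow_self _ f.ne_zero
    have h2 := Nat.dvd_sub h1 hr'
    rw [Nat.sub_sub_self (Nat.one_le_pow _ _ hp.pos)] at h2
    exact hp.not_dvd_one h2
  have hef : e ∣ (f : ℕ) := orderOf_dvd_of_pow_eq_one ((hcast _).mpr hzq)
  have he0 : 0 < e := Nat.pos_of_dvd_of_pos hef f.pos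
  by_cases hfe : e = f
  swap
  · left
    obtain ⟨F₀, hF0, hmem⟩ := exists_subfield_card hp hF hef he0
    have hζF : ζ ∈ F₀ := by
      apply hmem
      obtain ⟨k, hk⟩ := (hcast e).mp (pow_orderOf_eq_one _)
      rw [← Nat.sub_add_cancel (Nat.one_le_pow e p hp.pos), pow_succ, hk, pow_mul, hd.primitive.pow_eq_one, one_pow,
        one_mul]
    refine exists_subfield_group habs hN (F₀ := F₀) ?_ (hreal F₀ hζF)
    intro htop
    rw [htop, Nat.card_congr Subfield.topEquiv.toEquiv, Nat.card_eq_fintype_card, hF] at hF0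
    exact hfe (Nat.pow_right_injective hp.two_le hF0).symm
  rw [← hfe] at hF
  rcases Nat.even_or_odd e with heven | heodd
  · right; left
    obtain ⟨σ, hσne, hσinv, hσζ⟩ := exists_inverting_auto' hz hsq hd.primitive hF he.symm heven he0
    set B : Matrix ι ι F := ((P⁻¹ : GL ι F) : Matrix ι ι F) with hB
    set G : Matrix ι ι F := Bᵀ * B.map σ with hG
    have hmap2 : ∀ X : Matrix ι ι F, (X.map σ).map σ = X := fun X => by ext i j; exact hσinv _
    have hGu : IsUnit G := by
      have hBu : IsUnit B := (P⁻¹).isUnit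
      exact IsUnit.mul ((Matrix.isUnit_transpose _).mpr hBu) (hBu.map (σ : F →+* F).mapMatrix)
    have hform : ∀ u w, formOf σ G u w = (B *ᵥ u) ⬝ᵥ (σ ∘ (B *ᵥ w)) := by
      intro u w
      rw [formOf, hG, comp_mulVec, ← mulVec_mulVec, dotProduct_mulVec u Bᵀ, vecMul_transpose]
    have hu : IsUnitaryForm σ (formOf σ G) := by
      refine ⟨hσne, hσinv, (isSesq_formOf σ G).add_left, (isSesq_formOf σ G).smul_left, fun a b => ?_,
        nondegenerate_formOf σ hGu⟩
      rw [hform, hform]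
      simp only [dotProduct, map_sum, Function.comp]
      exact Finset.sum_congr rfl fun r _ => by rw [map_mul, hσinv]; ring
    refine ⟨σ, formOf σ G, hu, le_similarityGroup (isSesq_formOf σ G) hu.nondegenerate habs hN
      (fixesForm_formOf σ (forall_matrixSet.mpr fun g hg => ?_))⟩
    obtain ⟨j, k, hj, hM⟩ := hmon g hg
    set M : Matrix ι ι F := Matrix.of fun r i => if r = j i then ζ ^ k i else 0 with hMdef
    have hMM : Mᵀ * M.map σ = 1 := by
      ext i l
      simp only [Matrix.mul_apply, transpose_apply, Matrix.map_apply, hMdef, Matrix.of_apply, apply_ite σ,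
        map_pow, hσζ, map_zero, Matrix.one_apply]
      by_cases hil : i = l
      · subst hil
        simp [mul_inv_cancel₀ (pow_ne_zero (k i) hζ0)]
      · simp only [hil, if_false]
        refine Finset.sum_eq_zero fun r _ => ?_
        by_cases h1 : r = j i
        · have hne : ¬ j i = j l := fun h => hil (hj h)
          simp [h1, hne]
        · simp [h1]
    have hBg : B * (g : Matrix ι ι F) = M * B := by
      rw [← hM, mul_assoc _ (P : Matrix ι ι F), hB, Units.mul_inv, mul_one]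
    calc (g : Matrix ι ι F)ᵀ * G * (g : Matrix ι ι F).map σ
        = (B * (g : Matrix ι ι F))ᵀ * (B * (g : Matrix ι ι F)).map σ := by
          rw [hG, transpose_mul, Matrix.map_mul]; simp only [mul_assoc]
      _ = Bᵀ * (Mᵀ * M.map σ) * B.map σ := by rw [hBg, transpose_mul, Matrix.map_mul]; simp only [mul_assoc]
      _ = G := by rw [hMM, mul_one]
  · right; right
    obtain ⟨m, hm1, hm⟩ := hd.degree
    have hmin' : IsMinimalFieldFor (Nat.card (Subgroup.center N)) p e F := by
      refine ⟨hp, hchar, hF, ?_, ?_⟩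
      · rw [hd.card_center]; exact (hcast e).mp (pow_orderOf_eq_one _)
      · intro d hd0 hde hdvd
        rw [hd.card_center] at hdvd
        exact pow_ne_one_of_lt_orderOf hd0.ne' hde ((hcast d).mpr hdvd)
    refine ⟨r, m, N, ⟨⟨hd.prime, hd.pGroup, ?_, hd.exponent_eq⟩, habs, p, e, hrp, hmin', ?_⟩, hcl, hm1, hm,
      subgroupNormalizer_of_normSub hN⟩
    · intro A hA hAc
      have hAZ : A ≤ Subgroup.center N := by
        rw [hd.center_eq]
        intro a ha
        rw [Subgroup.mem_subgroupOf]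
        by_contra has
        have hMn := normSub_map_of_characteristic hN A
        have hMabs := hclean _ hMn (fun h => has (h ⟨a, ha, rfl⟩))
        obtain ⟨d, hd'⟩ := hMabs.2 (a.1 : Matrix ι ι F) (forall_matrixSet.mpr fun b hb => by
          obtain ⟨b', hb', rfl⟩ := hb
          simpa using congrArg (fun w : A => ((w.1.1 : GL ι F) : Matrix ι ι F))
            (hAc.is_comm.comm ⟨a, ha⟩ ⟨b', hb'⟩))
        exact has (mem_scalars_of_eq_smul hd')
      have : IsCyclic (Subgroup.center N) := by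
        have : IsCyclic (scalars ι F) := isCyclic_of_surjective
          (Units.map (Matrix.scalar ι : F →+* Matrix ι ι F).toMonoidHom).rangeRestrict
          (MonoidHom.rangeRestrict_surjective _)
        let φ : Subgroup.center N →* scalars ι F :=
          ((N.subtype).comp (Subgroup.center N).subtype).codRestrict (scalars ι F)
            fun a => Subgroup.mem_subgroupOf.mp (hd.center_eq.le a.2)
        exact isCyclic_of_injective φ fun a b h => Subtype.ext (Subtype.ext (congrArg (fun x : scalars ι F => (x : GL ι F)) h))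
      exact isCyclic_of_injective (Subgroup.inclusion hAZ) (Subgroup.inclusion_injective hAZ)
    · rw [hd.card_center]
      rcases hd.order with ⟨ho, h⟩ | ⟨-, h⟩ | ⟨h1, h⟩
      · exact Or.inl ⟨ho, heodd, h, m, hm1, by rw [hd.card, h, hm]; ring⟩
      · exact absurd h hz2
      · refine Or.inr (Or.inl ⟨h1, ?_, h, ?_, m, by rw [hd.card, h, hm, h1]; ring⟩)
        · subst h
          have hle : e ≤ 2 := by
            have h2 : ∀ x : ZMod 4, (∃ k, 0 < k ∧ x ^ k = 1) → x ^ 2 = 1 := by
              intro x ⟨k, hk, hxk⟩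
              obtain ⟨u, hu⟩ : IsUnit x := IsUnit.of_pow_eq_one hxk hk.ne'
              have hall : ∀ u : (ZMod 4)ˣ, u ^ 2 = 1 := by decide
              rw [← hu, ← Units.val_pow_eq_pow_val, hall u, Units.val_one]
            exact orderOf_le_of_pow_eq_one two_pos (h2 _ ⟨e, he0, pow_orderOf_eq_one _⟩)
          obtain ⟨i, hi⟩ := heodd
          omega
        · rw [hm, h1]
          rw [hm, h1] at hn
          rcases Nat.lt_or_ge m 2 with h2 | h2
          · interval_cases m
            omega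
          · calc 4 = 2 ^ 2 := rfl
              _ ≤ 2 ^ m := Nat.pow_le_pow_right two_pos h2

end CfsgLib.Aschbacher
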