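import Cfsg.Agent.Aschbacher.General.Clifford

/-!
A minimal non-scalar normal subgroup that is not of class two: simple modulo scalars, or a tensor power
decomposition.
-/
set_option autoImplicit false
set_option maxHeartbeats 1000000

namespace CfsgLib.Aschbacher

open Matrix Cfsg.Geo CfsgLib.GeoClifford
open scoped MatrixGroups commutatorElement

variable {ι : Type} [Fintype ι] [DecidableEq ι] {F : Type*} [Field F]

lemma conj_mem_adjoin {g : GL ι F} {L L' : Subgroup (GL ι F)} (h : ∀ a ∈ L, g * a * g⁻¹ ∈ L')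
    {x : Matrix ι ι F} (hx : x ∈ Algebra.adjoin F (matrixSet L)) :
    (g : Matrix ι ι F) * x * ((g⁻¹ : GL ι F) : Matrix ι ι F) ∈ Algebra.adjoin F (matrixSet L') := by
  induction hx using Algebra.adjoin_induction with
  | mem x hx =>
    obtain ⟨a, ha, rfl⟩ := hx
    exact Algebra.subset_adjoin ⟨g * a * g⁻¹, h a ha, by simp⟩
  | algebraMap r =>
    have : (g : Matrix ι ι F) * algebraMap F (Matrix ι ι F) r * ((g⁻¹ : GL ι F) : Matrix ι ι F)
        = algebraMap F (Matrix ι ι F) r := by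
      rw [← Algebra.commutes, mul_assoc, ← Units.val_mul, mul_inv_cancel, Units.val_one, mul_one]
    rw [this]; exact Subalgebra.algebraMap_mem _ r
  | add x y _ _ ihx ihy => rw [mul_add, add_mul]; exact Subalgebra.add_mem _ ihx ihy
  | mul x y _ _ ihx ihy =>
    have := Subalgebra.mul_mem _ ihx ihy
    simpa [mul_assoc] using this

lemma IsMUnits.conj {κ : Type} [Fintype κ] [DecidableEq κ] {E : κ → κ → Matrix ι ι F} (hE : IsMUnits E) (g : GL ι F) :
    IsMUnits fun a b => (g : Matrix ι ι F) * E a b * ((g⁻¹ : GL ι F) : Matrix ι ι F) := by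
  refine ⟨fun a b c d => ?_, ?_⟩
  · have : (g : Matrix ι ι F) * E a b * ((g⁻¹ : GL ι F) : Matrix ι ι F) * ((g : Matrix ι ι F) * E c d * ((g⁻¹ : GL ι F) : Matrix ι ι F))
        = (g : Matrix ι ι F) * (E a b * E c d) * ((g⁻¹ : GL ι F) : Matrix ι ι F) := by simp [mul_assoc]
    rw [this, hE.mul]
    split <;> simp
  · rw [← Finset.sum_mul, ← Finset.mul_sum, hE.sum_eq, mul_one, Units.mul_inv]

lemma IsMUnits.of_emb {κ : Type} [Fintype κ] [DecidableEq κ] [Nonempty ι] {E : κ → κ → Matrix ι ι F}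
    (hE : IsMUnits E) {M : κ → κ → Matrix κ κ F} (h : IsMUnits fun a b => hE.emb (M a b)) : IsMUnits M := by
  refine ⟨fun a b c d => hE.emb_injective ?_, hE.emb_injective ?_⟩
  · rw [← hE.emb_mul, h.mul]
    split
    · rfl
    · rw [hE.emb_zero]
  · rw [hE.emb_sum, hE.emb_one, h.sum_eq]

variable {t m : ℕ}

/-- The matrix acting as `M` on the factor `i`. -/
def slot (i : Fin t) (M : Matrix (Fin m) (Fin m) F) : Matrix (Fin t → Fin m) (Fin t → Fin m) F :=
  tens (Function.update (fun _ => 1) i M)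

lemma slot_apply (i : Fin t) (M : Matrix (Fin m) (Fin m) F) (x y : Fin t → Fin m) :
    slot i M x y = if ∀ l, l ≠ i → x l = y l then M (x i) (y i) else 0 := by
  classical
  simp only [slot, tens, Matrix.of_apply]
  rw [← Finset.mul_prod_erase _ _ (Finset.mem_univ i), Function.update_self]
  split_ifs with h
  · rw [Finset.prod_eq_one fun l hl => ?_, mul_one]
    rw [Function.update_of_ne (Finset.ne_of_mem_erase hl), h l (Finset.ne_of_mem_erase hl), Matrix.one_apply_eq]
  · push Not at h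
    obtain ⟨l, hl, hne⟩ := h
    rw [Finset.prod_eq_zero (Finset.mem_erase.mpr ⟨hl, Finset.mem_univ l⟩), mul_zero]
    rw [Function.update_of_ne hl, Matrix.one_apply_ne hne]

lemma permMat_mul_slot (σ : Equiv.Perm (Fin t)) (i : Fin t) (M : Matrix (Fin m) (Fin m) F) :
    (permMat m σ : Matrix _ _ F) * slot i M = slot (σ i) M * permMat m σ := by
  rw [slot, permMat_mul_tens, slot]
  congr 2
  funext l
  by_cases h : l = σ i
  · subst h; simp
  · rw [Function.update_of_ne h, Function.update_of_ne (fun h' => h (by simp [← h']))]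

lemma tens_mul_slot (a : Fin t → Matrix (Fin m) (Fin m) F) (i : Fin t) {S M : Matrix (Fin m) (Fin m) F}
    (h : a i * S = M * a i) : tens a * slot i S = slot i M * tens a := by
  rw [slot, slot, tens_mul, tens_mul]
  congr 1
  funext l
  by_cases hl : l = i
  · subst hl; simpa using h
  · simp [Function.update_of_ne hl]


/-- An element permuting commuting systems of matrix units is a tensor times a permutation of the factors. -/
lemma exists_tens_form [Nonempty ι] {d : ℕ} {E : Fin t → Fin d → Fin d → Matrix ι ι F} (hEu : ∀ i, IsMUnits (E i))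
    (e : ι ≃ (Fin t → Fin d)) (P : GL ι F)
    (hEcoord : ∀ i a b, ((P⁻¹ : GL ι F) : Matrix ι ι F) * E i a b * (P : Matrix ι ι F) =
      (slot i (Matrix.single a b 1)).submatrix e e)
    (hlin : ∀ i M, ((P⁻¹ : GL ι F) : Matrix ι ι F) * (hEu i).emb M * (P : Matrix ι ι F) = (slot i M).submatrix e e)
    (hscal' : ∀ Y : Matrix ι ι F, (∀ i a b, E i a b * Y = Y * E i a b) → ∃ c : F, Y = c • (1 : Matrix ι ι F))
    (h : GL ι F) (σ : Equiv.Perm (Fin t)) (M : Fin t → Fin d → Fin d → Matrix (Fin d) (Fin d) F)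
    (hM : ∀ i a b, (h : Matrix ι ι F) * E i a b * ((h⁻¹ : GL ι F) : Matrix ι ι F) = (hEu (σ i)).emb (M i a b))
    (g : Fin t → GL (Fin d) F)
    (hg : ∀ i a b, (g i : Matrix (Fin d) (Fin d) F) * Matrix.single a b 1 = M i a b * (g i : Matrix (Fin d) (Fin d) F)) :
    ∃ (gs : Fin t → GL (Fin d) F) (c : F), c ≠ 0 ∧
      ((P⁻¹ : GL ι F) : Matrix ι ι F) * (h : Matrix ι ι F) * (P : Matrix ι ι F) =
        c • (tens (fun i => (gs i : Matrix (Fin d) (Fin d) F)) * permMat d σ).submatrix e e := by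
  classical
  set Q : Matrix ι ι F := ((P⁻¹ : GL ι F) : Matrix ι ι F) with hQ
  set gs : Fin t → GL (Fin d) F := fun j => g (σ.symm j)
  set T : GL (Fin t → Fin d) F := tensUnit gs * permUnit d σ
  have hT : ∀ i a b, (T : Matrix _ _ F) * slot i (Matrix.single a b 1) = slot (σ i) (M i a b) * (T : Matrix _ _ F) := by
    intro i a b
    show tens _ * permMat d σ * _ = _ * (tens _ * permMat d σ)
    rw [mul_assoc, permMat_mul_slot, ← mul_assoc, ← mul_assoc]
    congr 1
    refine tens_mul_slot _ _ ?_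
    simp only [gs, Equiv.symm_apply_apply]
    exact hg i a b
  set K : Matrix ι ι F := Q * (h : Matrix ι ι F) * (P : Matrix ι ι F) with hK
  have hKc : ∀ i a b, K * (slot i (Matrix.single a b 1)).submatrix e e = (slot (σ i) (M i a b)).submatrix e e * K := by
    intro i a b
    have h1 : (h : Matrix ι ι F) * E i a b = (hEu (σ i)).emb (M i a b) * (h : Matrix ι ι F) := by
      rw [← hM, mul_assoc _ _ (h : Matrix ι ι F), Units.inv_mul, mul_one]
    rw [← hEcoord, ← hlin, hK]
    calc Q * (h : Matrix ι ι F) * (P : Matrix ι ι F) * (Q * E i a b * (P : Matrix ι ι F))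
        = Q * ((h : Matrix ι ι F) * E i a b) * (P : Matrix ι ι F) := by simp [hQ, mul_assoc]
      _ = Q * ((hEu (σ i)).emb (M i a b) * (h : Matrix ι ι F)) * (P : Matrix ι ι F) := by rw [h1]
      _ = _ := by simp [hQ, mul_assoc]
  set T' : GL ι F := glReindex e.symm T with hT'
  have hT'v : (T' : Matrix ι ι F) = (T : Matrix _ _ F).submatrix e e := rfl
  have hT'c : ∀ i a b, (T' : Matrix ι ι F) * (slot i (Matrix.single a b 1)).submatrix e e =
      (slot (σ i) (M i a b)).submatrix e e * (T' : Matrix ι ι F) := fun i a b => by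
    rw [hT'v, submatrix_mul_equiv, submatrix_mul_equiv, hT]
  set Y : Matrix ι ι F := (P : Matrix ι ι F) * (((T'⁻¹ : GL ι F) : Matrix ι ι F) * K) * Q with hY
  obtain ⟨c, hc⟩ := hscal' Y fun i a b => by
    have h1 : E i a b = (P : Matrix ι ι F) * (slot i (Matrix.single a b 1)).submatrix e e * Q := by
      rw [← hEcoord]; simp [hQ, mul_assoc]
    rw [h1, hY]
    have h2 : (slot i (Matrix.single a b 1)).submatrix e e * (((T'⁻¹ : GL ι F) : Matrix ι ι F) * K) =
        ((T'⁻¹ : GL ι F) : Matrix ι ι F) * K * (slot i (Matrix.single a b 1)).submatrix e e := by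
      have h3 : (slot i (Matrix.single a b 1)).submatrix e e * ((T'⁻¹ : GL ι F) : Matrix ι ι F) =
          ((T'⁻¹ : GL ι F) : Matrix ι ι F) * (slot (σ i) (M i a b)).submatrix e e := by
        calc _ = ((T'⁻¹ : GL ι F) : Matrix ι ι F) * ((T' : Matrix ι ι F) * (slot i (Matrix.single a b 1)).submatrix e e) *
              ((T'⁻¹ : GL ι F) : Matrix ι ι F) := by rw [← mul_assoc, Units.inv_mul, one_mul]
          _ = _ := by rw [hT'c]; simp [mul_assoc]
      rw [← mul_assoc, h3, mul_assoc, ← hKc, ← mul_assoc]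
    generalize (slot i (Matrix.single a b (1 : F))).submatrix e e = U at h2 ⊢
    generalize ((T'⁻¹ : GL ι F) : Matrix ι ι F) * K = V at h2 ⊢
    calc (P : Matrix ι ι F) * U * Q * ((P : Matrix ι ι F) * V * Q) = (P : Matrix ι ι F) * (U * V) * Q := by
          simp [hQ, mul_assoc]
      _ = _ := by rw [h2]; simp [hQ, mul_assoc]
  have hKT : K = c • (T' : Matrix ι ι F) := by
    have h1 := congrArg (fun X => (T' : Matrix ι ι F) * (Q * X * (P : Matrix ι ι F))) hc
    simpa [hY, hQ, mul_assoc] using h1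
  refine ⟨gs, c, ?_, hKT⟩
  rintro rfl
  rw [zero_smul] at hKT
  exact (P⁻¹ * h * P).ne_zero (by rw [Units.val_mul, Units.val_mul]; exact hKT)

/-- Tensor powers of two-dimensional factors fix a bilinear form. -/
lemma hasBilinearForm_of_tens [Fintype F] [Nonempty ι] {H N : Subgroup (GL ι F)} (hn : 3 ≤ Fintype.card ι)
    (hN : NormSub H N) (habs : ActsAbsolutelyIrreducibly (matrixSet N)) (hperf : ⁅N, N⁆ = N)
    (e : ι ≃ (Fin t → Fin 2)) (P : GL ι F)
    (hform : ∀ h ∈ H, ∃ (gs : Fin t → GL (Fin 2) F) (σ : Equiv.Perm (Fin t)) (c : F), c ≠ 0 ∧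
      ((P⁻¹ : GL ι F) : Matrix ι ι F) * (h : Matrix ι ι F) * (P : Matrix ι ι F) =
        c • (tens (fun i => (gs i : Matrix (Fin 2) (Fin 2) F)) * permMat 2 σ).submatrix e e) :
    HasBilinearForm H := by
  classical
  set Q : Matrix ι ι F := ((P⁻¹ : GL ι F) : Matrix ι ι F) with hQ
  set J : Matrix (Fin 2) (Fin 2) F := !![0, 1; -1, 0] with hJ
  have hJg : ∀ g : Matrix (Fin 2) (Fin 2) F, gᵀ * J * g = g.det • J := by
    intro g
    ext a b
    fin_cases a <;> fin_cases b <;>
      simp [hJ, Matrix.mul_apply, Fin.sum_univ_two, Matrix.det_fin_two] <;> ring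
  set G : Matrix (Fin t → Fin 2) (Fin t → Fin 2) F := tens fun _ => J with hG
  set B : Matrix ι ι F := Qᵀ * G.submatrix e e * Q with hB
  have hsim : ∀ h ∈ H, ∃ c : F, (h : Matrix ι ι F)ᵀ * B * (h : Matrix ι ι F) = c • B := by
    intro h hh
    obtain ⟨gs, σ, c, -, hK⟩ := hform h hh
    set K : Matrix ι ι F := Q * (h : Matrix ι ι F) * (P : Matrix ι ι F) with hKdef
    refine ⟨c * c * ∏ i, (gs i : Matrix (Fin 2) (Fin 2) F).det, ?_⟩
    have hKQ : Q * (h : Matrix ι ι F) = K * Q := by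
      rw [hKdef, mul_assoc _ (P : Matrix ι ι F), hQ, Units.mul_inv, mul_one]
    have hperm : (permMat 2 σ : Matrix _ _ F)ᵀ * G * permMat 2 σ = G := by
      rw [permMat_transpose, hG, permMat_mul_tens, mul_assoc]
      have h := permMat_mul_inv (m := 2) (F := F) σ.symm
      rw [Equiv.symm_symm] at h
      rw [h, mul_one]
    have hGK : Kᵀ * G.submatrix e e * K = (c * c * ∏ i, (gs i : Matrix (Fin 2) (Fin 2) F).det) • G.submatrix e e := by
      rw [hK, transpose_smul, smul_mul_assoc, smul_mul_assoc, mul_smul_comm, smul_smul, transpose_submatrix,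
        submatrix_mul_equiv, submatrix_mul_equiv, transpose_mul, tens_transpose]
      have e1 : (permMat 2 σ : Matrix _ _ F)ᵀ * tens (fun i => ((gs i : Matrix (Fin 2) (Fin 2) F))ᵀ) * G *
          (tens (fun i => (gs i : Matrix (Fin 2) (Fin 2) F)) * permMat 2 σ) =
          (∏ i, (gs i : Matrix (Fin 2) (Fin 2) F).det) • G := by
        calc _ = (permMat 2 σ : Matrix _ _ F)ᵀ * (tens (fun i => ((gs i : Matrix (Fin 2) (Fin 2) F))ᵀ) * G *
              tens (fun i => (gs i : Matrix (Fin 2) (Fin 2) F))) * permMat 2 σ := by simp only [mul_assoc]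
          _ = _ := by rw [hG, tens_mul, tens_mul]; simp only [hJg]; rw [tens_smul, ← hG, mul_smul_comm, smul_mul_assoc, hperm]
      rw [e1]
      ext u v
      simp [mul_assoc]
    calc _ = (Q * (h : Matrix ι ι F))ᵀ * G.submatrix e e * (Q * (h : Matrix ι ι F)) := by
          rw [hB, transpose_mul]; simp only [mul_assoc]
      _ = Qᵀ * (Kᵀ * G.submatrix e e * K) * Q := by rw [hKQ, transpose_mul]; simp only [mul_assoc]
      _ = _ := by rw [hGK, hB, mul_smul_comm, smul_mul_assoc]
  have hBu : IsUnit B := by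
    have hJu : J * (-J) = 1 := by
      ext a b; fin_cases a <;> fin_cases b <;> simp [hJ, Matrix.mul_apply, Fin.sum_univ_two]
    have hGu : IsUnit (G.submatrix e e) := by
      refine IsUnit.of_mul_eq_one ((tens fun _ : Fin t => -J).submatrix e e) ?_
      rw [submatrix_mul_equiv, hG, tens_mul]
      simp only [hJu, tens_one, submatrix_one_equiv]
    exact IsUnit.mul (IsUnit.mul ((Matrix.isUnit_transpose _).mpr (P⁻¹).isUnit) hGu) (P⁻¹).isUnit
  let Fx : Subgroup (GL ι F) :=
    { carrier := {a | (a : Matrix ι ι F)ᵀ * B * (a : Matrix ι ι F) = B}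
      one_mem' := by simp
      mul_mem' := fun {a b} (ha : (a : Matrix ι ι F)ᵀ * B * a = B) (hb : (b : Matrix ι ι F)ᵀ * B * b = B) => by
        show ((a : Matrix ι ι F) * (b : Matrix ι ι F))ᵀ * B * ((a : Matrix ι ι F) * (b : Matrix ι ι F)) = B
        rw [transpose_mul]
        calc _ = (b : Matrix ι ι F)ᵀ * ((a : Matrix ι ι F)ᵀ * B * a) * b := by simp only [mul_assoc]
          _ = B := by rw [ha, hb]
      inv_mem' := fun {a} (ha : (a : Matrix ι ι F)ᵀ * B * a = B) => by
        show ((a⁻¹ : GL ι F) : Matrix ι ι F)ᵀ * B * ((a⁻¹ : GL ι F) : Matrix ι ι F) = B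
        calc _ = ((a⁻¹ : GL ι F) : Matrix ι ι F)ᵀ * ((a : Matrix ι ι F)ᵀ * B * a) * ((a⁻¹ : GL ι F) : Matrix ι ι F) := by rw [ha]
          _ = ((a : Matrix ι ι F) * ((a⁻¹ : GL ι F) : Matrix ι ι F))ᵀ * B * ((a : Matrix ι ι F) * ((a⁻¹ : GL ι F) : Matrix ι ι F)) := by
              rw [transpose_mul]; simp only [mul_assoc]
          _ = B := by simp }
  have hfixN : N ≤ Fx := by
    refine hperf.ge.trans ?_
    rw [Subgroup.commutator_le]
    intro a ha b hb
    have hf : formOf (RingEquiv.refl F) B = fun u v => u ⬝ᵥ (B *ᵥ v) := rfl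
    obtain ⟨ca, hca⟩ := hsim a (hN.1 ha)
    obtain ⟨cb, hcb⟩ := hsim b (hN.1 hb)
    obtain ⟨ca', hca'⟩ := hsim a⁻¹ (H.inv_mem (hN.1 ha))
    obtain ⟨cb', hcb'⟩ := hsim b⁻¹ (H.inv_mem (hN.1 hb))
    have hcomp : ∀ (x y : GL ι F) (s u : F), (x : Matrix ι ι F)ᵀ * B * x = s • B → (y : Matrix ι ι F)ᵀ * B * y = u • B →
        ((x * y : GL ι F) : Matrix ι ι F)ᵀ * B * ((x * y : GL ι F) : Matrix ι ι F) = (s * u) • B := by
      intro x y s u hx hy
      rw [Units.val_mul, transpose_mul]
      calc _ = (y : Matrix ι ι F)ᵀ * ((x : Matrix ι ι F)ᵀ * B * x) * y := by simp only [mul_assoc]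
        _ = _ := by rw [hx, mul_smul_comm, smul_mul_assoc, hy, smul_smul]
    have hinv : ∀ (x : GL ι F) (s u : F), (x : Matrix ι ι F)ᵀ * B * x = s • B →
        ((x⁻¹ : GL ι F) : Matrix ι ι F)ᵀ * B * ((x⁻¹ : GL ι F) : Matrix ι ι F) = u • B → s * u = 1 := by
      intro x s u hx hy
      have h1 := hcomp x x⁻¹ s u hx hy
      rw [mul_inv_cancel, Units.val_one, transpose_one, one_mul, mul_one] at h1
      exact smul_left_injective F hBu.ne_zero (h1.symm.trans (one_smul F B).symm)
    show (((⁅a, b⁆ : GL ι F)) : Matrix ι ι F)ᵀ * B * ((⁅a, b⁆ : GL ι F) : Matrix ι ι F) = B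
    rw [commutatorElement_def, hcomp _ _ _ _ (hcomp _ _ _ _ (hcomp _ _ _ _ hca hcb) hca') hcb',
      mul_right_comm ca, hinv a _ _ hca hca', one_mul, hinv b _ _ hcb hcb', one_smul]
  exact hasBilinearForm_of_fixed (by omega) hN habs hBu.ne_zero fun g hg => hfixN hg


/-- The element `h` is a tensor times a permutation of the factors in the given coordinates. -/
def HasTensForm {d : ℕ} (e : ι ≃ (Fin t → Fin d)) (P h : GL ι F) (gs : Fin t → GL (Fin d) F)
    (σ : Equiv.Perm (Fin t)) : Prop :=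
  ∃ c : F, c ≠ 0 ∧ ((P⁻¹ : GL ι F) : Matrix ι ι F) * (h : Matrix ι ι F) * (P : Matrix ι ι F) =
    c • (tens (fun i => (gs i : Matrix (Fin d) (Fin d) F)) * permMat d σ).submatrix e e

/-- Perfect commuting components making the space a tensor power. -/
structure IsPowerDecomp (H N : Subgroup (GL ι F)) {d : ℕ} (e : ι ≃ (Fin t → Fin d)) (P : GL ι F) : Prop where
  two_le_dim : 2 ≤ d
  two_le_count : 2 ≤ t
  form : ∀ h ∈ H, ∃ gs σ, HasTensForm e P h gs σ
  transitive : ∀ i j, ∃ h ∈ H, ∃ gs σ, HasTensForm e P h gs σ ∧ σ i = j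
  slots : ∀ i, ∃ A : Subgroup (GL ι F), A ≤ N ∧ ⁅A, A⁆ = A ∧ ¬ A ≤ scalars ι F ∧
    (∀ x ∈ Algebra.adjoin F (matrixSet A), ∃ M,
      ((P⁻¹ : GL ι F) : Matrix ι ι F) * x * (P : Matrix ι ι F) = (slot i M).submatrix e e) ∧
    ∀ M, (P : Matrix ι ι F) * (slot i M).submatrix e e * ((P⁻¹ : GL ι F) : Matrix ι ι F) ∈
      Algebra.adjoin F (matrixSet A)

variable [Fintype F]

/-- Commuting components give a tensor power decomposition. -/
theorem exists_powerDecomp [Nonempty ι] {H N L : Subgroup (GL ι F)}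
    (habs : ActsAbsolutelyIrreducibly (matrixSet N)) (hL : NormSub N L)
    (hLs : ¬ L ≤ scalars ι F) (hLperf : ⁅L, L⁆ = L) (ht : 2 ≤ t) (gi : Fin t → GL ι F) (hgi : ∀ i, gi i ∈ H)
    (A : Fin t → Subgroup (GL ι F))
    (hAdef : ∀ i, A i = L.map (MulAut.conj (gi i)).toMonoidHom) (i0 : Fin t) (hone : A i0 = L)
    (hinj : Function.Injective A) (hgen : (⨆ i, A i) = N)
    (hperm : ∀ h ∈ H, ∀ i, ∃ j, (A i).map (MulAut.conj h).toMonoidHom = A j)
    (helem : ∀ i j, i ≠ j → ∀ a ∈ A i, ∀ b ∈ A j, a * b = b * a) :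
    ∃ (d : ℕ) (e : ι ≃ (Fin t → Fin d)) (P : GL ι F), IsPowerDecomp H N e P := by
  classical
  have hscal : ∀ Y : Matrix ι ι F, (∀ i, ∀ a ∈ A i, (a : Matrix ι ι F) * Y = Y * a) →
      ∃ c : F, Y = c • (1 : Matrix ι ι F) := by
    intro Y hY
    let C : Subgroup (GL ι F) :=
      { carrier := {a | (a : Matrix ι ι F) * Y = Y * a}
        one_mem' := by simp
        mul_mem' := fun {a b} (ha : (a : Matrix ι ι F) * Y = Y * a) (hb : (b : Matrix ι ι F) * Y = Y * b) => by
          show (a : Matrix ι ι F) * b * Y = Y * (a * b)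
          rw [mul_assoc, hb, ← mul_assoc, ha, mul_assoc]
        inv_mem' := fun {a} (ha : (a : Matrix ι ι F) * Y = Y * a) => by
          show ((a⁻¹ : GL ι F) : Matrix ι ι F) * Y = Y * ((a⁻¹ : GL ι F) : Matrix ι ι F)
          calc _ = ((a⁻¹ : GL ι F) : Matrix ι ι F) * (Y * a) * ((a⁻¹ : GL ι F) : Matrix ι ι F) := by simp [mul_assoc]
            _ = _ := by rw [← ha]; simp [← mul_assoc] }
    have hle : N ≤ C := hgen ▸ iSup_le fun i => hY i
    exact habs.2 Y (forall_matrixSet.mpr fun n hn => (hle hn).symm)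
  have hadj : ∀ g g', g ≠ g' → ∀ x ∈ Algebra.adjoin F (matrixSet (A g)),
      ∀ y ∈ Algebra.adjoin F (matrixSet (A g')), x * y = y * x := by
    intro g g' hne x hx y hy
    refine commute_adjoin (fun n hn => ?_) hx
    refine (commute_adjoin (fun b hb => ?_) hy).symm
    rw [← Units.val_mul, ← Units.val_mul, helem g g' hne n hn b hb]
  have hLN' : ConjStable N (Algebra.adjoin F (matrixSet L)) := conjStable_adjoin hL
  obtain ⟨d, E0, hd, hE0, hE0L, hspan0⟩ := exists_munits habs.1 hLN' fun x hx hc => by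
    refine hscal x fun i a ha => ?_
    by_cases hi : i = i0
    · subst hi
      rw [hone] at ha
      exact (hc _ (Algebra.subset_adjoin (coe_mem_matrixSet ha))).symm
    · exact hadj i i0 hi _ (Algebra.subset_adjoin (coe_mem_matrixSet ha)) x (by rwa [hone])
  have hd1 : d ≠ 1 := by
    rintro rfl
    refine hLs fun a ha => ?_
    obtain ⟨c, hc⟩ := hspan0 _ (Algebra.subset_adjoin (coe_mem_matrixSet ha))
    have hE1 := hE0.sum_eq
    simp only [Fin.sum_univ_one] at hc hE1
    rw [hE1] at hc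
    refine (mem_scalars_iff a).mpr ⟨Units.mk0 (c 0 0) fun h0 => a.ne_zero (by rw [hc, h0, zero_smul]), hc⟩
  let E : Fin t → Fin d → Fin d → Matrix ι ι F := fun i a b =>
    ((gi i) : Matrix ι ι F) * E0 a b * (((gi i)⁻¹ : GL ι F) : Matrix ι ι F)
  have hEu : ∀ i, IsMUnits (E i) := fun i => hE0.conj _
  have hEmem : ∀ i a b, E i a b ∈ Algebra.adjoin F (matrixSet (A i)) := fun i a b =>
    conj_mem_adjoin (fun x hx => by rw [hAdef]; exact ⟨x, hx, rfl⟩) (hE0L a b)
  have hEspan : ∀ i, ∀ x ∈ Algebra.adjoin F (matrixSet (A i)), ∃ M, x = (hEu i).emb M := by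
    intro i x hx
    obtain ⟨c, hc⟩ := hspan0 _ (conj_mem_adjoin (g := (gi i)⁻¹) (L' := L) (by
      rw [hAdef]; rintro _ ⟨y, hy, rfl⟩; simpa [mul_assoc] using hy) hx)
    refine ⟨Matrix.of c, ?_⟩
    have h := congrArg (fun z => ((gi i) : Matrix ι ι F) * z * (((gi i)⁻¹ : GL ι F) : Matrix ι ι F)) hc
    simp only [inv_inv, Finset.mul_sum, Finset.sum_mul, mul_smul_comm, smul_mul_assoc] at h
    simp only [IsMUnits.emb, Matrix.of_apply, E]
    rw [← h]
    simp [mul_assoc]
  obtain ⟨EE, hEE, -, hfor⟩ := exists_prod_munits t E hEu fun i j hij a b c e =>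
    hadj i j hij _ (hEmem i a b) _ (hEmem j c e)
  have hscal' : ∀ Y : Matrix ι ι F, (∀ i a b, E i a b * Y = Y * E i a b) →
      ∃ c : F, Y = c • (1 : Matrix ι ι F) := by
    intro Y hY
    refine hscal Y fun i a ha => ?_
    obtain ⟨M, hM⟩ := hEspan i _ (Algebra.subset_adjoin (coe_mem_matrixSet ha))
    rw [hM]
    simp only [IsMUnits.emb, Finset.sum_mul, Finset.mul_sum, smul_mul_assoc, mul_smul_comm, hY]
  obtain ⟨e, P, hP⟩ := hEE.exists_coords_full fun Y hY => hscal' Y fun i a b => by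
    rw [hfor]
    simp only [Finset.sum_mul, Finset.mul_sum, ite_mul, mul_ite, zero_mul, mul_zero, hY]
  set Q : Matrix ι ι F := ((P⁻¹ : GL ι F) : Matrix ι ι F) with hQ
  have hEcoord : ∀ i a b, Q * E i a b * (P : Matrix ι ι F) = (slot i (Matrix.single a b 1)).submatrix e e := by
    intro i a b
    rw [← hP]
    congr 2
    rw [hfor]
    simp only [IsMUnits.emb]
    refine Finset.sum_congr rfl fun f _ => ?_
    by_cases hf : f i = a
    · rw [if_pos hf, Finset.sum_eq_single (Function.update f i b)]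
      · rw [slot_apply, if_pos (fun l hl => (Function.update_of_ne hl _ _).symm)]
        simp [hf]
      · intro g _ hg
        rw [slot_apply]
        split_ifs with h
        · have hgb : g i ≠ b := by
            intro hgb
            apply hg
            funext l
            by_cases hl : l = i
            · subst hl; simp [hgb]
            · rw [Function.update_of_ne hl, h l hl]
          simp [Matrix.single_apply, Ne.symm hgb]
        · simp
      · simp
    · rw [if_neg hf]
      refine (Finset.sum_eq_zero fun g _ => ?_).symm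
      rw [slot_apply]
      simp [Matrix.single_apply, Ne.symm hf]
  have hlin : ∀ i M, Q * (hEu i).emb M * (P : Matrix ι ι F) = (slot i M).submatrix e e := by
    intro i M
    simp only [IsMUnits.emb, Finset.mul_sum, Finset.sum_mul, mul_smul_comm, smul_mul_assoc, hEcoord]
    ext u v
    simp only [Matrix.sum_apply, Matrix.smul_apply, submatrix_apply, slot_apply, smul_eq_mul]
    split_ifs
    · simp [Matrix.single_apply, ite_and]
    · simp
  -- every element of the group is a pure tensor times a permutation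
  have hform : ∀ h ∈ H, ∃ gs σ, HasTensForm e P h gs σ ∧
      ∀ i j, (A i).map (MulAut.conj h).toMonoidHom = A j → σ i = j := by
    intro h hh
    choose σ0 hσ0 using fun i => hperm h hh i
    have hσinj : Function.Injective σ0 := by
      intro i j hij
      refine hinj ?_
      have h1 : (A i).map (MulAut.conj h).toMonoidHom = (A j).map (MulAut.conj h).toMonoidHom := by
        rw [hσ0, hσ0, hij]
      exact Subgroup.map_injective (MulAut.conj h).injective h1
    let σ : Equiv.Perm (Fin t) := Equiv.ofBijective σ0 (Finite.injective_iff_bijective.mp hσinj)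
    have himg : ∀ i, ∀ a ∈ A i, h * a * h⁻¹ ∈ A (σ i) := by
      intro i a ha
      show _ ∈ A (σ0 i)
      rw [← hσ0]
      exact ⟨a, ha, rfl⟩
    choose M hM using fun i a b => hEspan (σ i) _ (conj_mem_adjoin (himg i) (hEmem i a b))
    have hconj : ∀ i, ∃ g : GL (Fin d) F, ∀ a b,
        (g : Matrix (Fin d) (Fin d) F) * Matrix.single a b 1 = M i a b * (g : Matrix (Fin d) (Fin d) F) := by
      intro i
      haveI : Nonempty (Fin d) := ⟨⟨0, hd⟩⟩
      refine ((hEu (σ i)).of_emb ?_).exists_conj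
      simp only [← hM]
      exact (hEu i).conj h
    choose g hg using hconj
    obtain ⟨gs, hgs⟩ := exists_tens_form hEu e P hEcoord hlin hscal' h σ M (fun i a b => hM i a b) g hg
    exact ⟨gs, σ, hgs, fun i j hij => hinj ((hσ0 i).symm.trans hij)⟩
  refine ⟨d, e, P, ⟨by omega, ht, fun h hh => ?_, fun i j => ?_, fun i => ⟨A i, ?_, ?_, ?_, ?_, fun M => ?_⟩⟩⟩
  · obtain ⟨gs, σ, h1, -⟩ := hform h hh
    exact ⟨gs, σ, h1⟩
  · have hh : gi j * (gi i)⁻¹ ∈ H := H.mul_mem (hgi j) (H.inv_mem (hgi i))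
    obtain ⟨gs, σ, h1, h2⟩ := hform _ hh
    refine ⟨_, hh, gs, σ, h1, h2 i j ?_⟩
    rw [hAdef, hAdef, Subgroup.map_map]
    congr 1
    ext x
    simp [mul_assoc]
  · exact hgen ▸ le_iSup A i
  · rw [hAdef, ← Subgroup.map_commutator, hLperf]
  · intro hs
    refine hLs fun x hx => ?_
    have h1 := hs (show gi i * x * (gi i)⁻¹ ∈ A i by rw [hAdef]; exact ⟨x, hx, rfl⟩)
    simpa [mul_assoc] using (scalars_normal (ι := ι) (F := F)).conj_mem _ h1 (gi i)⁻¹
  · intro x hx
    obtain ⟨M, rfl⟩ := hEspan i x hx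
    exact ⟨M, hlin i M⟩
  · rw [← hlin i M]
    simp only [hQ, ← mul_assoc, Units.mul_inv, one_mul]
    rw [mul_assoc, Units.mul_inv, mul_one]
    exact Subalgebra.sum_mem _ fun a _ => Subalgebra.sum_mem _ fun b _ => Subalgebra.smul_mem _ (hEmem i a b) _

/-- A tensor power decomposition gives a tensor-wreath group, or a form. -/
theorem tensor_of_powerDecomp (hn : 3 ≤ Fintype.card ι) [Nonempty ι] {H N : Subgroup (GL ι F)} (hN : NormSub H N)
    (habs : ActsAbsolutelyIrreducibly (matrixSet N)) (hperf : ⁅N, N⁆ = N) {d : ℕ} {e : ι ≃ (Fin t → Fin d)}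
    {P : GL ι F} (hD : IsPowerDecomp H N e P) : HasWreath H ∨ HasBilinearForm H := by
  classical
  have ht := hD.two_le_count
  have hd2 := hD.two_le_dim
  by_cases hd3 : 3 ≤ d
  · left
    refine ⟨d, t, e, P, hd3, ht, fun h hh => ?_⟩
    obtain ⟨gs, σ, c, hc0, hK⟩ := hD.form h hh
    let z0 : Fin t := ⟨0, by omega⟩
    let s : Fin t → F := fun i => if i = z0 then c else 1
    let sc : GL (Fin d) F := Units.map (Matrix.scalar (Fin d) : F →+* Matrix (Fin d) (Fin d) F).toMonoidHom (Units.mk0 c hc0)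
    refine mem_tensorWreathSubgroup e P (fun i => if i = z0 then sc * gs i else gs i) σ ?_
    rw [hK]
    have hval : (fun i => (((if i = z0 then sc * gs i else gs i) : GL (Fin d) F) : Matrix (Fin d) (Fin d) F)) =
        fun i => s i • (gs i : Matrix (Fin d) (Fin d) F) := by
      funext i
      by_cases hi : i = z0
      · simp [hi, s, sc, Matrix.scalar_apply, ← Matrix.smul_one_eq_diagonal]
      · simp [hi, s]
    rw [hval, tens_smul, smul_mul_assoc]
    simp [s]
    rfl
  right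
  obtain rfl : d = 2 := by omega
  exact hasBilinearForm_of_tens hn hN habs hperf e P hD.form

/-- The alternative: simple modulo scalars, or a decomposition as a tensor power. -/
theorem perfect_cases' (hn : 3 ≤ Fintype.card ι) {H N : Subgroup (GL ι F)} (hclean : Clean H) (hN : NormSub H N)
    (hmin : ∀ M, NormSub H M → M ≤ N → ¬ M ≤ scalars ι F → M = N) (hcl : ¬ ⁅N, N⁆ ≤ scalars ι F) :
    (⁅N, N⁆ = N ∧ ActsAbsolutelyIrreducibly (matrixSet N) ∧
      ∃ (t d : ℕ) (e : ι ≃ (Fin t → Fin d)) (P : GL ι F), IsPowerDecomp H N e P) ∨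
      (⁅N, N⁆ = N ∧ IsSimpleGroup (N ⧸ (scalars ι F).subgroupOf N) ∧
      ¬ IsMulCommutative (N ⧸ (scalars ι F).subgroupOf N) ∧
      (∀ h ∈ H, (∀ x ∈ N, h * x * h⁻¹ * x⁻¹ ∈ scalars ι F) → h ∈ scalars ι F) ∧
      ActsAbsolutelyIrreducibly (matrixSet N)) := by
  classical
  have : Nonempty ι := Fintype.card_pos_iff.mp (by omega)
  have hperf : ⁅N, N⁆ = N := by
    refine hmin _ ⟨(Subgroup.commutator_le_self N).trans hN.1, ?_⟩ (Subgroup.commutator_le_self N) hcl
    intro g hg a ha
    have : (⁅N, N⁆).map (MulAut.conj g).toMonoidHom ≤ ⁅N, N⁆ := by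
      rw [Subgroup.map_commutator]
      refine Subgroup.commutator_mono ?_ ?_ <;>
      · rintro _ ⟨x, hx, rfl⟩; exact hN.2 g hg x hx
    exact this ⟨a, ha, rfl⟩
  have hNs : ¬ N ≤ scalars ι F := fun h => hcl ((Subgroup.commutator_le_self N).trans h)
  have habs := hclean _ hN hNs
  by_cases hsimple : ∀ L, NormSub N L → ¬ L ≤ scalars ι F → L = N
  · right
    refine ⟨hperf, ?_, ?_, ?_, habs⟩
    · have : Nontrivial (N ⧸ (scalars ι F).subgroupOf N) :=
        QuotientGroup.nontrivial_iff.mpr (fun h => hNs (Subgroup.subgroupOf_eq_top.mp h))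
      refine ⟨fun B hB => ?_⟩
      let π := QuotientGroup.mk' ((scalars ι F).subgroupOf N)
      by_cases hs : (B.comap π).map N.subtype ≤ scalars ι F
      · left
        rw [eq_bot_iff]
        intro b hb
        obtain ⟨x, rfl⟩ := QuotientGroup.mk'_surjective _ b
        exact Subgroup.mem_bot.mpr ((QuotientGroup.eq_one_iff _).mpr (hs ⟨x, hb, rfl⟩))
      · right
        have hL : NormSub N ((B.comap π).map N.subtype) := by
          refine ⟨Subgroup.map_subtype_le _, ?_⟩
          rintro m hm _ ⟨x, hx, rfl⟩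
          exact ⟨⟨m, hm⟩ * x * ⟨m, hm⟩⁻¹, (hB.comap π).conj_mem x hx _, rfl⟩
        have he := hsimple _ hL hs
        rw [eq_top_iff]
        intro b _
        obtain ⟨x, rfl⟩ := QuotientGroup.mk'_surjective _ b
        obtain ⟨y, hy, hyx⟩ := he.ge x.2
        exact (Subtype.ext hyx : y = x) ▸ hy
    · intro hcomm
      refine hcl ((Subgroup.commutator_le).mpr fun a ha b hb => ?_)
      have h1 : (QuotientGroup.mk' ((scalars ι F).subgroupOf N)) ⁅(⟨a, ha⟩ : N), ⟨b, hb⟩⁆ = 1 := by
        rw [map_commutatorElement, commutatorElement_eq_one_iff_mul_comm]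
        exact hcomm.is_comm.comm _ _
      exact Subgroup.mem_subgroupOf.mp ((QuotientGroup.eq_one_iff _).mp h1)
    · intro h hh hx
      have hc := commute_of_perfect hperf (fun y hy => hx y hy)
      obtain ⟨c, hc'⟩ := habs.2 (h : Matrix ι ι F) (forall_matrixSet.mpr fun y hy => by
        simpa using congrArg Units.val (hc y hy))
      exact (mem_scalars_iff h).mpr ⟨Units.mk0 c fun h0 => h.ne_zero (by rw [hc', h0, zero_smul]), hc'⟩
  push Not at hsimple
  obtain ⟨L0, hL0, hL0s, hL0N⟩ := hsimple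
  obtain ⟨L, hLle, hLmin⟩ := exists_minimal_le_of_wellFoundedLT
    (fun L : Subgroup (GL ι F) => NormSub N L ∧ ¬ L ≤ scalars ι F) L0 ⟨hL0, hL0s⟩
  obtain ⟨hL, hLs⟩ := hLmin.prop
  have hLN : L ≠ N := fun h => hL0N (le_antisymm hL0.1 (h ▸ hLle))
  let A : H → Subgroup (GL ι F) := fun g => L.map (MulAut.conj g.1).toMonoidHom
  have hA : ∀ g, NormSub N (A g) := by
    intro g
    refine ⟨?_, ?_⟩
    · rintro _ ⟨x, hx, rfl⟩; exact hN.2 _ g.2 x (hL.1 hx)
    · rintro m hm _ ⟨x, hx, rfl⟩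
      refine ⟨(g.1⁻¹ * m * g.1) * x * (g.1⁻¹ * m * g.1)⁻¹,
        hL.2 _ (by simpa using hN.2 _ (H.inv_mem g.2) m hm) x hx, by simp [mul_assoc]⟩
  have hAs : ∀ g, ¬ A g ≤ scalars ι F := by
    intro g h
    refine hLs fun x hx => ?_
    have h1 := h ⟨x, hx, rfl⟩
    simpa [mul_assoc] using (scalars_normal (ι := ι) (F := F)).conj_mem _ h1 g.1⁻¹
  have hAmin : ∀ g (M : Subgroup (GL ι F)), NormSub N M → M ≤ A g → ¬ M ≤ scalars ι F → M = A g := by
    intro g M hM hMA hMs
    have hback : M.map (MulAut.conj g.1⁻¹).toMonoidHom = L := by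
      have hle : M.map (MulAut.conj g.1⁻¹).toMonoidHom ≤ L := by
        rintro _ ⟨x, hx, rfl⟩
        obtain ⟨y, hy, rfl⟩ := hMA hx
        simpa [mul_assoc] using hy
      refine le_antisymm hle (hLmin.2 ⟨⟨hle.trans hL.1, ?_⟩, ?_⟩ hle)
      · rintro m hm _ ⟨x, hx, rfl⟩
        refine ⟨(g.1 * m * g.1⁻¹) * x * (g.1 * m * g.1⁻¹)⁻¹,
          hM.2 _ (hN.2 _ g.2 m hm) x hx, by simp [mul_assoc]⟩
      · intro h
        refine hMs fun x hx => ?_
        have h1 := h ⟨x, hx, rfl⟩
        simpa [mul_assoc] using (scalars_normal (ι := ι) (F := F)).conj_mem _ h1 g.1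
    refine le_antisymm hMA ?_
    rintro _ ⟨y, hy, rfl⟩
    obtain ⟨x, hx, rfl⟩ := hback.ge hy
    simpa [mul_assoc] using hx
  have hpair : ∀ g g', ¬ ⁅A g, A g'⁆ ≤ scalars ι F → A g = A g' := by
    intro g g' h
    have hcle : ⁅A g, A g'⁆ ≤ A g ⊓ A g' := by
      rw [Subgroup.commutator_le]
      intro a ha b hb
      rw [commutatorElement_def]
      refine ⟨?_, ?_⟩
      · have h1 := (A g).mul_mem ha ((hA g).2 b ((hA g').1 hb) a⁻¹ ((A g).inv_mem ha))
        simpa [mul_assoc] using h1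
      · exact (A g').mul_mem ((hA g').2 a ((hA g).1 ha) b hb) ((A g').inv_mem hb)
    have hM : NormSub N (A g ⊓ A g') :=
      ⟨inf_le_left.trans (hA g).1, fun m hm x hx => ⟨(hA g).2 m hm x hx.1, (hA g').2 m hm x hx.2⟩⟩
    have hMs : ¬ A g ⊓ A g' ≤ scalars ι F := fun h' => h (hcle.trans h')
    exact (hAmin g _ hM inf_le_left hMs).symm.trans (hAmin g' _ hM inf_le_right hMs)
  have hmove : ∀ (h : H) g, (A g).map (MulAut.conj h.1).toMonoidHom = A (h * g) := by
    intro h g
    simp only [A, Subgroup.map_map]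
    congr 1
    ext x
    simp [mul_assoc]
  have hone : A ⟨1, H.one_mem⟩ = L := by
    simp only [A, map_one]
    exact Subgroup.map_id L
  have hgen : (⨆ g, A g) = N := by
    refine hmin _ ⟨iSup_le fun g => (hA g).1.trans hN.1, ?_⟩ (iSup_le fun g => (hA g).1) ?_
    · intro h hh x hx
      have hle : (⨆ g, A g).map (MulAut.conj h).toMonoidHom ≤ ⨆ g, A g := by
        rw [Subgroup.map_iSup]
        exact iSup_le fun g => (hmove ⟨h, hh⟩ g).le.trans (le_iSup A _)
      exact hle ⟨x, hx, rfl⟩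
    · exact fun h => hAs ⟨1, H.one_mem⟩ ((le_iSup A _).trans h)
  have hLc : ¬ ⁅L, L⁆ ≤ scalars ι F := by
    intro hLL
    have hself : ∀ g, ⁅A g, A g⁆ ≤ scalars ι F := by
      intro g
      rw [← Subgroup.map_commutator]
      rintro _ ⟨x, hx, rfl⟩
      simpa using scalars_normal.conj_mem _ (hLL hx) g.1
    have hcomm : ∀ g g', ⁅A g, A g'⁆ ≤ scalars ι F := by
      intro g g'
      by_contra h
      exact h (hpair g g' h ▸ hself g')
    let π := QuotientGroup.mk' (scalars ι F)
    have hab := pairwise_comm_iSup (fun g => (A g).map π) (by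
      rintro g g' _ ⟨a, ha, rfl⟩ _ ⟨b, hb, rfl⟩
      have hs := hcomm g g' (Subgroup.commutator_mem_commutator ha hb)
      have h1 : π ⁅a, b⁆ = 1 := (QuotientGroup.eq_one_iff _).mpr hs
      rw [map_commutatorElement] at h1
      exact commutatorElement_eq_one_iff_mul_comm.mp h1)
    refine hcl ?_
    rw [Subgroup.commutator_le]
    intro a ha b hb
    refine (QuotientGroup.eq_one_iff _).mp ?_
    show π ⁅a, b⁆ = 1
    rw [map_commutatorElement, commutatorElement_eq_one_iff_mul_comm]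
    rw [← Subgroup.map_iSup, hgen] at hab
    exact hab _ ⟨a, ha, rfl⟩ _ ⟨b, hb, rfl⟩
  have hLperf : ⁅L, L⁆ = L := by
    have hle := Subgroup.commutator_le_self L
    refine le_antisymm hle (hLmin.2 ⟨⟨hle.trans hL.1, ?_⟩, hLc⟩ hle)
    intro m hm x hx
    have : (⁅L, L⁆).map (MulAut.conj m).toMonoidHom ≤ ⁅L, L⁆ := by
      rw [Subgroup.map_commutator]
      refine Subgroup.commutator_mono ?_ ?_ <;>
      · rintro _ ⟨y, hy, rfl⟩; exact hL.2 m hm y hy
    exact this ⟨x, hx, rfl⟩
  have helem : ∀ g g', A g ≠ A g' → ∀ a ∈ A g, ∀ b ∈ A g', a * b = b * a := by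
    intro g g' hne a ha
    refine commute_of_perfect (N := A g') (by rw [← Subgroup.map_commutator, hLperf]) fun y hy => ?_
    by_contra h
    exact hne (hpair g g' fun hle => h (hle (Subgroup.commutator_mem_commutator ha hy)))
  -- index the distinct components
  let S := Finset.univ.image A
  let t := S.card
  let en : Fin t ≃ S := S.equivFin.symm
  have hex : ∀ i, ∃ g, A g = (en i).1 := fun i => by
    obtain ⟨g, -, hg⟩ := Finset.mem_image.mp (en i).2
    exact ⟨g, hg⟩
  choose gi hgi using hex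
  have hinj : ∀ i j, A (gi i) = A (gi j) → i = j := fun i j h => en.injective (Subtype.ext (by rw [← hgi, ← hgi, h]))
  have hall : ∀ g, ∃ i, A g = A (gi i) := fun g =>
    ⟨en.symm ⟨A g, Finset.mem_image_of_mem _ (Finset.mem_univ g)⟩, by simp [hgi]⟩
  have ht : 2 ≤ t := by
    by_contra hlt
    have hone' : ∀ g, A g = L := fun g => by
      rw [← hone]
      exact Finset.card_le_one.mp (show S.card ≤ 1 by omega) _ (Finset.mem_image_of_mem _ (Finset.mem_univ g)) _
        (Finset.mem_image_of_mem _ (Finset.mem_univ _))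
    exact hLN (le_antisymm hL.1 (hgen ▸ iSup_le fun g => (hone' g).le))
  have hgen' : (⨆ i, A (gi i)) = N := by
    refine le_antisymm (iSup_le fun i => (hA _).1) ?_
    conv_lhs => rw [← hgen]
    refine iSup_le fun g => ?_
    obtain ⟨i, hi⟩ := hall g
    exact hi ▸ le_iSup (fun i => A (gi i)) i
  obtain ⟨d, e, P, hD⟩ := exists_powerDecomp habs hL hLs hLperf ht (fun i => (gi i).1) (fun i => (gi i).2)
      (fun i => A (gi i)) (fun i => rfl)
      (hall ⟨1, H.one_mem⟩).choose ((hall ⟨1, H.one_mem⟩).choose_spec.symm.trans hone) (fun i j h => hinj i j h) hgen'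
      (fun h hh i => ⟨_, (hmove ⟨h, hh⟩ (gi i)).trans (hall _).choose_spec⟩)
      (fun i j hij => helem _ _ fun h => hij (hinj i j h))
  exact Or.inl ⟨hperf, habs, t, d, e, P, hD⟩

/-- The alternative for linear groups. -/
theorem perfect_cases (hn : 3 ≤ Fintype.card ι) {H N : Subgroup (GL ι F)} (hclean : Clean H) (hN : NormSub H N)
    (hmin : ∀ M, NormSub H M → M ≤ N → ¬ M ≤ scalars ι F → M = N) (hcl : ¬ ⁅N, N⁆ ≤ scalars ι F) :
    HasWreath H ∨ HasBilinearForm H ∨
      (⁅N, N⁆ = N ∧ IsSimpleGroup (N ⧸ (scalars ι F).subgroupOf N) ∧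
      ¬ IsMulCommutative (N ⧸ (scalars ι F).subgroupOf N) ∧
      (∀ h ∈ H, (∀ x ∈ N, h * x * h⁻¹ * x⁻¹ ∈ scalars ι F) → h ∈ scalars ι F) ∧
      ActsAbsolutelyIrreducibly (matrixSet N)) := by
  have : Nonempty ι := Fintype.card_pos_iff.mp (by omega)
  rcases perfect_cases' hn hclean hN hmin hcl with ⟨hperf, habs, t, d, e, P, hD⟩ | h
  · exact (tensor_of_powerDecomp hn hN habs hperf hD).imp id Or.inl
  · exact Or.inr (Or.inr h)

end CfsgLib.Aschbacher
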