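import Cfsg.Agent.Aschbacher.Forms
import Cfsg.Agent.Aschbacher.Rational

/-!
Forms given by Gram matrices; a bilinear form fixed by an absolutely irreducible normal subgroup is classical.
-/
set_option autoImplicit false

namespace CfsgLib.Aschbacher

open Matrix Cfsg.Geo CfsgLib.GeoClifford
open scoped MatrixGroups

variable {ι : Type} [Fintype ι] [DecidableEq ι] {F : Type*} [Field F]

/-- The form with Gram matrix `G`, semilinear for `σ` in the second argument. -/
def formOf (σ : F ≃+* F) (G : Matrix ι ι F) (u v : ι → F) : F := u ⬝ᵥ (G *ᵥ (σ ∘ v))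

lemma isSesq_formOf (σ : F ≃+* F) (G : Matrix ι ι F) : IsSesq σ (formOf σ G) := by
  refine ⟨fun x y v => add_dotProduct _ _ _, fun c x v => ?_, fun v x y => ?_, fun c v x => ?_⟩
  · rw [formOf, smul_dotProduct]; rfl
  · rw [formOf, show σ ∘ (x + y) = σ ∘ x + σ ∘ y from funext fun i => map_add σ _ _, mulVec_add, dotProduct_add]
    rfl
  · rw [formOf, show σ ∘ (c • x) = σ c • (σ ∘ x) from funext fun i => map_mul σ _ _, mulVec_smul, dotProduct_smul]
    rfl

lemma isBilinearForm_formOf (G : Matrix ι ι F) : IsBilinearForm (formOf (RingEquiv.refl F) G) :=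
  let h := isSesq_formOf (RingEquiv.refl F) G
  ⟨h.add_left, h.smul_left, h.add_right, h.smul_right⟩

lemma gramMatrix_formOf (σ : F ≃+* F) (G : Matrix ι ι F) : gramMatrix (formOf σ G) = G := by
  ext a b
  have hs : σ ∘ (Pi.single b 1 : ι → F) = Pi.single b 1 := by
    ext k; by_cases hk : k = b <;> simp [Pi.single_apply, hk]
  simp [gramMatrix, formOf, hs, Matrix.mulVec_single]

lemma nondegenerate_formOf (σ : F ≃+* F) {G : Matrix ι ι F} (hG : IsUnit G) :
    IsNondegenerateForm (formOf σ G) := by
  intro v hv
  refine ⟨?_, ?_⟩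
  · by_contra h
    push Not at h
    have h0 : G *ᵥ (σ ∘ v) = 0 := funext fun i => by simpa [formOf] using h (Pi.single i 1)
    have h1 : σ ∘ v = 0 := Matrix.mulVec_injective_iff_isUnit.mpr hG (by rw [h0, mulVec_zero])
    exact hv (funext fun i => σ.injective ((congrFun h1 i).trans (map_zero σ).symm))
  · by_contra h
    push Not at h
    have h0 : v ᵥ* G = 0 := funext fun i => by
      have h1 := h (Pi.single i 1)
      have hs : σ ∘ (Pi.single i 1 : ι → F) = Pi.single i 1 := by
        ext k; by_cases hk : k = i <;> simp [Pi.single_apply, hk]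
      rw [formOf, hs, dotProduct_mulVec] at h1
      simpa using h1
    exact hv (Matrix.vecMul_injective_iff_isUnit.mpr hG (show v ᵥ* G = 0 ᵥ* G by rw [h0, zero_vecMul]))

lemma fixesForm_formOf (σ : F ≃+* F) {G : Matrix ι ι F} {S : Set (Matrix ι ι F)}
    (h : ∀ s ∈ S, sᵀ * G * s.map σ = G) : FixesForm S (formOf σ G) := fun s hs =>
  (fixes_iff (isSesq_formOf σ G) s).mpr (by rw [gramMatrix_formOf]; exact h s hs)

lemma formOf_swap (G : Matrix ι ι F) (u v : ι → F) :
    formOf (RingEquiv.refl F) G v u = formOf (RingEquiv.refl F) Gᵀ u v := by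
  simp only [formOf, show ∀ w : ι → F, (RingEquiv.refl F) ∘ w = w from fun w => rfl]
  rw [dotProduct_comm, dotProduct_mulVec u, vecMul_transpose]

variable [Fintype F]

lemma odd_card_iff_two_ne_zero : Odd (Fintype.card F) ↔ (2 : F) ≠ 0 := by
  obtain ⟨p, hp⟩ := CharP.exists F
  obtain ⟨k, hpp, hF⟩ := FiniteField.card F p
  rw [hF]
  rcases hpp.eq_two_or_odd' with rfl | hodd
  · refine iff_of_false (Nat.not_odd_iff_even.mpr (even_two.pow_of_ne_zero k.ne_zero)) (not_not.mpr ?_)
    exact_mod_cast CharP.cast_eq_zero F 2
  · refine iff_of_true hodd.pow ?_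
    intro h2
    have h3 : ((2 : ℕ) : F) = 0 := by exact_mod_cast h2
    rw [CharP.cast_eq_zero_iff F p, Nat.prime_dvd_prime_iff_eq hpp Nat.prime_two] at h3
    rw [h3] at hodd
    exact absurd hodd (by decide)

/-- The group lies in the similarity group of a classical bilinear or quadratic form. -/
def HasBilinearForm (H : Subgroup (GL ι F)) : Prop :=
  (∃ f, IsSymplecticForm f ∧ H ≤ similarityGroup f) ∨
    (Odd (Fintype.card F) ∧ ∃ Q, IsNondegenerateQuadraticForm Q ∧ H ≤ quadSimilarityGroup Q)

/-- A non-zero bilinear form fixed by an absolutely irreducible normal subgroup makes the group classical. -/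
theorem hasBilinearForm_of_fixed (hn : 2 ≤ Fintype.card ι) {H N : Subgroup (GL ι F)} (hN : NormSub H N)
    (habs : ActsAbsolutelyIrreducibly (matrixSet N)) {B : Matrix ι ι F} (hB0 : B ≠ 0)
    (hfix : ∀ g ∈ N, (g : Matrix ι ι F)ᵀ * B * (g : Matrix ι ι F) = B) : HasBilinearForm H := by
  classical
  set f := formOf (RingEquiv.refl F) B with hfdef
  have hmap : ∀ M : Matrix ι ι F, M.map (RingEquiv.refl F) = M := fun M => by ext i j; rfl
  have hBu : IsUnit B := by
    rw [← Matrix.mulVec_injective_iff_isUnit]
    by_contra hni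
    have hker : LinearMap.ker (Matrix.toLin' B) ≠ ⊥ := by
      rw [Ne, LinearMap.ker_eq_bot]
      intro hi
      exact hni fun v w h => hi (by simpa using h)
    have htop := eq_top_of_invariant habs.1 _ hker (fun g hg v hv => by
      rw [LinearMap.mem_ker, Matrix.toLin'_apply] at hv ⊢
      have hd : IsUnit ((g : Matrix ι ι F)ᵀ) :=
        (Matrix.isUnit_transpose _).mpr g.isUnit
      refine Matrix.mulVec_injective_iff_isUnit.mpr hd ?_
      rw [mulVec_mulVec, mulVec_mulVec, mulVec_zero, hfix g hg, hv])
    rw [LinearMap.ker_eq_top] at htop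
    exact hB0 ((Matrix.toLin').map_eq_zero_iff.mp htop)
  have hbil : IsBilinearForm f := isBilinearForm_formOf B
  have hnd : IsNondegenerateForm f := nondegenerate_formOf _ hBu
  have hfixf : FixesForm (matrixSet N) f := fixesForm_formOf _ (forall_matrixSet.mpr fun g hg => by
    rw [hmap]; exact hfix g hg)
  obtain ⟨c, hc⟩ := gram_unique (σ := RingEquiv.refl F) (B := Bᵀ) habs hBu
    (forall_matrixSet.mpr fun g hg => by rw [hmap]; exact hfix g hg)
    (forall_matrixSet.mpr fun g hg => by
      rw [hmap]
      have h := congrArg transpose (hfix g hg)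
      rwa [transpose_mul, transpose_mul, transpose_transpose, ← mul_assoc] at h)
  have hcc : c * c = 1 := by
    have h2 : (c * c) • B = (1 : F) • B := by
      rw [← smul_smul, ← hc, ← transpose_smul, ← hc, transpose_transpose, one_smul]
    exact smul_left_injective F hB0 h2
  have hswap : ∀ u v, f v u = c * f u v := by
    intro u v
    rw [hfdef, formOf_swap, hc]
    simp [formOf, smul_mulVec]
  have hsim : H ≤ similarityGroup f :=
    le_similarityGroup (isSesq_formOf _ _) hnd habs hN hfixf
  by_cases h2 : (2 : F) = 0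
  · have hc1 : c = 1 := by
      have : (c - 1) * (c - 1) = 0 := by linear_combination hcc + (1 - c) * h2
      exact sub_eq_zero.mp (mul_self_eq_zero.mp this)
    have hneg : ∀ a : F, a = -a := fun a => eq_neg_of_add_eq_zero_left (by rw [← two_mul, h2, zero_mul])
    let W : Submodule F (ι → F) :=
      { carrier := {v | f v v = 0}
        add_mem' := fun {a b} ha hb => by
          show f (a + b) (a + b) = 0
          rw [hbil.add_left, hbil.add_right, hbil.add_right, ha, hb, hswap a b, hc1]
          linear_combination f a b * h2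
        zero_mem' := by simpa using hbil.smul_left 0 0 0
        smul_mem' := fun a v hv => by
          show f (a • v) (a • v) = 0
          rw [hbil.smul_left, hbil.smul_right, hv, mul_zero, mul_zero] }
    have hW : W ≠ ⊥ := by
      intro h
      have hinj : Function.Injective (fun v => f v v) := by
        intro a b hab
        have hab' : a - b ∈ W := by
          show f (a - b) (a - b) = 0
          have e : a - b = a + (-1 : F) • b := by rw [neg_one_smul, sub_eq_add_neg]
          simp only at hab
          rw [e, hbil.add_left, hbil.add_right, hbil.add_right, hbil.smul_left, hbil.smul_right, hbil.smul_left,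
            hbil.smul_right, hswap a b, hc1]
          linear_combination hab + (f b b - f a b) * h2
        rw [h, Submodule.mem_bot, sub_eq_zero] at hab'
        exact hab'
      have hle := Fintype.card_le_of_injective _ hinj
      rw [Fintype.card_fun] at hle
      have hq := Fintype.one_lt_card (α := F)
      have := Nat.pow_le_pow_right (Nat.zero_lt_of_lt hq) hn
      nlinarith
    have htop := eq_top_of_invariant habs.1 W hW fun g hg v hv => by
      show f _ _ = 0
      rw [hfixf _ (coe_mem_matrixSet hg)]
      exact hv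
    exact Or.inl ⟨f, ⟨hbil, fun v w => by rw [hswap w v, hc1, one_mul]; exact hneg _,
      fun v => (htop ▸ Submodule.mem_top : v ∈ W), hnd⟩, hsim⟩
  rcases mul_self_eq_one_iff.mp hcc with h1 | h1
  · right
    refine ⟨odd_card_iff_two_ne_zero.mpr h2, fun v => f v v, ?_, fun g hg => ?_⟩
    · have hp : QuadraticMap.polar (fun v => f v v) = fun u v => 2 * f u v := by
        funext u v
        simp only [QuadraticMap.polar, hbil.add_left, hbil.add_right, hswap u v, h1]
        ring
      refine ⟨fun a v => by simp only [hbil.smul_left, hbil.smul_right]; ring, ?_, ?_⟩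
      · rw [hp]
        refine ⟨fun x y v => ?_, fun a x v => ?_, fun v x y => ?_, fun a v x => ?_⟩ <;>
          simp only [hbil.add_left, hbil.smul_left, hbil.add_right, hbil.smul_right] <;> ring
      · rw [hp]
        intro v hv
        obtain ⟨⟨x, hx⟩, y, hy⟩ := hnd v hv
        exact ⟨⟨x, mul_ne_zero h2 hx⟩, y, mul_ne_zero h2 hy⟩
    · obtain ⟨a, ha⟩ := hsim hg
      exact ⟨a, fun v => ha v v⟩
  · left
    have hskew : ∀ v w, f v w = - f w v := fun v w => by rw [hswap w v, h1, neg_one_mul]
    refine ⟨f, ⟨hbil, hskew, fun v => ?_, hnd⟩, hsim⟩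
    have : (2 : F) * f v v = 0 := by linear_combination hskew v v
    exact (mul_eq_zero.mp this).resolve_left h2

end CfsgLib.Aschbacher
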