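import Cfsg.Agent.Aschbacher.General.Clifford
import Cfsg.Agent.Aschbacher.Extraspecial

/-!
A minimal non-scalar normal subgroup of class two of a clean group: monomial over the roots of unity of the
order of its centre, giving a subfield, a form, or a group of symplectic type.
-/
set_option autoImplicit false

namespace CfsgLib.Aschbacher

open Matrix Cfsg.Geo CfsgLib.GeoClifford
open scoped MatrixGroups commutatorElement

variable {ι : Type} [Fintype ι] [DecidableEq ι] {F : Type*} [Field F]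

/-- Simultaneous eigenvectors with separated eigenvalues are independent. -/
lemma linearIndependent_of_separated {V : Type*} [AddCommGroup V] [Module F V] {α β : Type*}
    (T : β → V →ₗ[F] V) (w : α → V) (χ : β → α → F) (hw : ∀ q, w q ≠ 0) (heig : ∀ b q, T b (w q) = χ b q • w q)
    (hsep : ∀ q q', q ≠ q' → ∃ b, χ b q ≠ χ b q') : LinearIndependent F w := by
  classical
  rw [linearIndependent_iff']
  intro s
  induction s using Finset.induction_on with
  | empty => simp
  | insert q0 s hq0 ih =>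
    intro a hsum
    have hs : ∀ q ∈ s, a q = 0 := by
      intro q hq
      obtain ⟨b, hb⟩ := hsep q q0 (fun h => hq0 (h ▸ hq))
      have hT := congrArg (T b) hsum
      simp only [map_sum, map_smul, map_zero, heig, smul_smul] at hT
      have hdiff : ∑ q ∈ insert q0 s, (a q * (χ b q - χ b q0)) • w q = 0 := by
        simp only [mul_sub, sub_smul, Finset.sum_sub_distrib, hT, zero_sub, neg_eq_zero]
        calc ∑ q ∈ insert q0 s, (a q * χ b q0) • w q = χ b q0 • ∑ q ∈ insert q0 s, a q • w q := by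
              rw [Finset.smul_sum]
              exact Finset.sum_congr rfl fun q _ => by rw [smul_smul, mul_comm]
          _ = 0 := by rw [hsum, smul_zero]
      rw [Finset.sum_insert hq0, sub_self, mul_zero, zero_smul, zero_add] at hdiff
      exact (mul_eq_zero.mp (ih _ hdiff q hq)).resolve_right (sub_ne_zero.mpr hb)
    intro q hq
    rcases Finset.mem_insert.mp hq with rfl | hq'
    · rw [Finset.sum_insert hq0, Finset.sum_eq_zero (fun q hq => by rw [hs q hq, zero_smul]), add_zero,
        smul_eq_zero] at hsum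
      exact hsum.resolve_right (hw q)
    · exact hs q hq'

/-- A power of a product in a group of class two. -/
lemma mul_pow_of_commutator {M : Type*} [Group M] {a b z : M} (hba : b * a = z * (a * b)) (hz : ∀ x, Commute z x)
    (k : ℕ) : (a * b) ^ k = a ^ k * b ^ k * z ^ k.choose 2 := by
  have h1 : ∀ k : ℕ, b ^ k * a = z ^ k * (a * b ^ k) := by
    intro k
    induction k with
    | zero => simp
    | succ k ih =>
      calc b ^ (k + 1) * a = b * (b ^ k * a) := by rw [pow_succ', mul_assoc]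
        _ = (b * z ^ k) * (a * b ^ k) := by rw [ih, ← mul_assoc]
        _ = z ^ k * (b * a) * b ^ k := by rw [← ((hz b).pow_left k).eq]; simp only [mul_assoc]
        _ = z ^ (k + 1) * (a * b ^ (k + 1)) := by rw [hba, pow_succ, pow_succ']; simp only [mul_assoc]
  induction k with
  | zero => simp
  | succ k ih =>
    calc (a * b) ^ (k + 1) = a ^ k * b ^ k * (z ^ k.choose 2 * (a * b)) := by rw [pow_succ, ih, mul_assoc]
      _ = a ^ k * ((b ^ k * a) * b) * z ^ k.choose 2 := by rw [((hz (a * b)).pow_left _).eq]; simp only [mul_assoc]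
      _ = a ^ k * (z ^ k * (a * b ^ (k + 1))) * z ^ k.choose 2 := by rw [h1, pow_succ b]; simp only [mul_assoc]
      _ = a ^ (k + 1) * b ^ (k + 1) * (z ^ k * z ^ k.choose 2) := by
          rw [((hz (a * b ^ (k + 1))).pow_left k).eq, pow_succ a]; simp only [mul_assoc]
      _ = _ := by
          rw [← pow_add]
          congr 2
          rw [Nat.choose_succ_succ, Nat.choose_one_right]

/-- A characteristic subgroup of a normal subgroup is normalised. -/
lemma normSub_map_of_characteristic {H N : Subgroup (GL ι F)} (hN : NormSub H N) (A : Subgroup N)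
    [hA : A.Characteristic] : NormSub H (A.map N.subtype) := by
  refine ⟨(Subgroup.map_subtype_le A).trans hN.1, ?_⟩
  rintro g hg _ ⟨b, hb, rfl⟩
  let φ : N ≃* N :=
    { toFun := fun a => ⟨g * a.1 * g⁻¹, hN.2 g hg a.1 a.2⟩
      invFun := fun a => ⟨g⁻¹ * a.1 * g, by simpa using hN.2 g⁻¹ (H.inv_mem hg) a.1 a.2⟩
      left_inv := fun a => Subtype.ext (by group)
      right_inv := fun a => Subtype.ext (by group)
      map_mul' := fun a b => Subtype.ext (by simp [mul_assoc]) }
  exact ⟨φ b, (Subgroup.characteristic_iff_map_le.mp hA φ) ⟨b, hb, rfl⟩, rfl⟩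

lemma mem_scalars_of_eq_smul [Nonempty ι] {a : GL ι F} {c : F} (hc : (a : Matrix ι ι F) = c • (1 : Matrix ι ι F)) :
    a ∈ scalars ι F :=
  (mem_scalars_iff a).mpr ⟨Units.mk0 c fun h => a.ne_zero (by rw [hc, h, zero_smul]), hc⟩

lemma subgroupNormalizer_of_normSub {H N : Subgroup (GL ι F)} (hN : NormSub H N) : H ≤ subgroupNormalizer N := by
  intro g hg
  rw [subgroupNormalizer, Subgroup.mem_normalizer_iff]
  intro x
  refine ⟨fun hx => hN.2 g hg x hx, fun hx => ?_⟩
  simpa [mul_assoc] using hN.2 g⁻¹ (H.inv_mem hg) _ hx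

variable [Fintype F]

/-- The group lies in a subfield group of prime index. -/
def HasSubfield (H : Subgroup (GL ι F)) : Prop :=
  ∃ (F₀ : Subfield F) (r : ℕ) (P : GL ι F), r.Prime ∧ Fintype.card F = Nat.card F₀ ^ r ∧ H ≤ subfieldSubgroup F₀ P

/-- The group lies in the similarity group of a unitary form. -/
def HasUnitary (H : Subgroup (GL ι F)) : Prop :=
  ∃ (σ : F ≃+* F) (f : (ι → F) → (ι → F) → F), IsUnitaryForm σ f ∧ H ≤ similarityGroup f

/-- The group normalises a group of symplectic type. -/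
def HasSymplecticType (H : Subgroup (GL ι F)) : Prop :=
  ∃ (r m : ℕ) (R : Subgroup (GL ι F)), IsLinearSymplecticTypeData r R ∧ ⁅R, R⁆ ≤ scalars ι F ∧ 1 ≤ m ∧
    Fintype.card ι = r ^ m ∧ H ≤ subgroupNormalizer R

/-- A minimal non-scalar normal subgroup of class two is a prime power group. -/
lemma exists_isPGroup {H N : Subgroup (GL ι F)} (hN : NormSub H N) (hNs : ¬ N ≤ scalars ι F)
    (hmin : ∀ M, NormSub H M → M ≤ N → ¬ M ≤ scalars ι F → M = N) (hcl : ⁅N, N⁆ ≤ scalars ι F) :
    ∃ r : ℕ, r.Prime ∧ IsPGroup r N := by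
  classical
  set Z := (scalars ι F).subgroupOf N with hZ
  have hi : Z.index ≠ 1 := fun h => hNs (Subgroup.subgroupOf_eq_top.mp (Subgroup.index_eq_one.mp h))
  obtain ⟨r, hr, hri⟩ := Nat.exists_prime_and_dvd hi
  have : Fact r.Prime := ⟨hr⟩
  refine ⟨r, hr, ?_⟩
  obtain ⟨P⟩ : Nonempty (Sylow r N) := inferInstance
  have hker : (QuotientGroup.mk' (Subgroup.center N)).ker ≤ Subgroup.center N := (QuotientGroup.ker_mk' _).le
  have hnil : Group.IsNilpotent N := by
    letI : CommGroup (N ⧸ Subgroup.center N) :=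
      { (inferInstance : Group (N ⧸ Subgroup.center N)) with
        mul_comm := fun a b => by
          obtain ⟨x, rfl⟩ := QuotientGroup.mk'_surjective _ a
          obtain ⟨y, rfl⟩ := QuotientGroup.mk'_surjective _ b
          rw [← commutatorElement_eq_one_iff_mul_comm, ← map_commutatorElement, QuotientGroup.mk'_apply,
            QuotientGroup.eq_one_iff, Subgroup.mem_center_iff]
          intro g
          exact Subtype.ext (scalars_comm (hcl (Subgroup.commutator_mem_commutator x.2 y.2)) g.1).symm }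
    exact Subgroup.isNilpotent_of_ker_le_center _ hker
  have hnorm : ((P : Subgroup N)).Normal := inferInstance
  have hchar : (P : Subgroup N).Characteristic := Sylow.characteristic_of_normal P hnorm
  have hM := normSub_map_of_characteristic hN (P : Subgroup N)
  have hMs : ¬ (P : Subgroup N).map N.subtype ≤ scalars ι F := by
    intro h
    have hle : (P : Subgroup N) ≤ Z := fun x hx => Subgroup.mem_subgroupOf.mpr (h ⟨x, hx, rfl⟩)
    exact Sylow.not_dvd_index P (hri.trans (Subgroup.index_dvd_of_le hle))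
  have he := hmin _ hM (Subgroup.map_subtype_le _) hMs
  have : IsPGroup r ((P : Subgroup N).map N.subtype) := P.2.map N.subtype
  rwa [he] at this

/-- The basic invariants of the class-two subgroup. -/
structure ClassTwoData (N : Subgroup (GL ι F)) (r z : ℕ) (ζ : F) : Prop where
  prime : r.Prime
  pGroup : IsPGroup r N
  exponent_eq : Monoid.exponent N = r * Nat.gcd 2 r
  card_center : Nat.card (Subgroup.center N) = z
  order : (Odd r ∧ z = r) ∨ (r = 2 ∧ z = 2) ∨ (r = 2 ∧ z = 4)
  primitive : IsPrimitiveRoot ζ z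
  scalar : ∀ a ∈ N, a ∈ scalars ι F → ∃ i : ℕ, (a : Matrix ι ι F) = ζ ^ i • (1 : Matrix ι ι F)
  center_eq : Subgroup.center N = (scalars ι F).subgroupOf N
  card : Nat.card N = z * Fintype.card ι ^ 2
  degree : ∃ m, 1 ≤ m ∧ Fintype.card ι = r ^ m
  pow_eq : z ≠ 2 → ∀ a ∈ N, a ^ z = 1
  coset_li : LinearIndependent F (fun q : N ⧸ Subgroup.center N => ((q.out : N).1 : Matrix ι ι F))

/-- The basic invariants exist. -/
theorem exists_classTwoData (hn : 2 ≤ Fintype.card ι) {H N : Subgroup (GL ι F)} (hclean : Clean H)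
    (hN : NormSub H N) (hNs : ¬ N ≤ scalars ι F)
    (hmin : ∀ M, NormSub H M → M ≤ N → ¬ M ≤ scalars ι F → M = N) (hcl : ⁅N, N⁆ ≤ scalars ι F) :
    ∃ r z ζ, ClassTwoData N r z ζ := by
  classical
  have : Nonempty ι := Fintype.card_pos_iff.mp (by omega)
  obtain ⟨r, hr, hp⟩ := exists_isPGroup hN hNs hmin hcl
  have : Fact r.Prime := ⟨hr⟩
  have habs := hclean _ hN hNs
  have hscal : ∀ a ∈ N, (∀ b ∈ N, a * b = b * a) → a ∈ scalars ι F := by
    intro a _ h
    obtain ⟨c, hc⟩ := habs.2 (a : Matrix ι ι F) (forall_matrixSet.mpr fun b hb => by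
      simpa using congrArg Units.val (h b hb))
    exact mem_scalars_of_eq_smul hc
  have hcenter : Subgroup.center N = (scalars ι F).subgroupOf N := by
    ext a
    rw [Subgroup.mem_center_iff, Subgroup.mem_subgroupOf]
    refine ⟨fun h => hscal a.1 a.2 fun b hb => (congrArg Subtype.val (h ⟨b, hb⟩)).symm, fun h b => ?_⟩
    exact Subtype.ext (scalars_comm h b.1).symm
  -- the generator of the centre
  have : IsCyclic (scalars ι F) := isCyclic_of_surjective
    (Units.map (Matrix.scalar ι : F →+* Matrix ι ι F).toMonoidHom).rangeRestrict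
    (MonoidHom.rangeRestrict_surjective _)
  have : IsCyclic (N ⊓ scalars ι F : Subgroup (GL ι F)) :=
    isCyclic_of_injective (Subgroup.inclusion inf_le_right) (Subgroup.inclusion_injective _)
  obtain ⟨⟨w, hw⟩, hgen⟩ := IsCyclic.exists_generator (α := (N ⊓ scalars ι F : Subgroup (GL ι F)))
  obtain ⟨cu, hcu⟩ := (mem_scalars_iff w).mp hw.2
  set ζ : F := (cu : F) with hζ
  set z := orderOf w with hz
  have hz0 : 0 < z := orderOf_pos w
  have hwpow : ∀ i : ℕ, ((w ^ i : GL ι F) : Matrix ι ι F) = ζ ^ i • (1 : Matrix ι ι F) := fun i => by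
    rw [Units.val_pow_eq_pow_val, hcu, smul_pow, one_pow]
  have hscalar : ∀ a ∈ N, a ∈ scalars ι F → ∃ i : ℕ, w ^ i = a := by
    intro a ha has
    obtain ⟨i, hi⟩ : (⟨a, ha, has⟩ : (N ⊓ scalars ι F : Subgroup (GL ι F))) ∈ Submonoid.powers (⟨w, hw⟩ : (N ⊓ scalars ι F : Subgroup (GL ι F))) :=
      (mem_powers_iff_mem_zpowers).mpr (hgen _)
    exact ⟨i, congrArg Subtype.val hi⟩
  have hprim : IsPrimitiveRoot ζ z := by
    refine IsPrimitiveRoot.iff_orderOf.mpr (orderOf_eq_orderOf_iff.mpr fun i => ?_)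
    rw [← Units.val_inj, hwpow, Units.val_one]
    refine ⟨fun h => by rw [h, one_smul], fun h => ?_⟩
    have := congrFun (congrFun h (Classical.arbitrary ι)) (Classical.arbitrary ι)
    simpa using this
  have hzcard : Nat.card (Subgroup.center N) = z := by
    rw [hcenter]
    have e1 : Nat.card ((scalars ι F).subgroupOf N) = Nat.card (N ⊓ scalars ι F : Subgroup (GL ι F)) :=
      Nat.card_congr
        { toFun := fun a => ⟨a.1.1, a.1.2, Subgroup.mem_subgroupOf.mp a.2⟩
          invFun := fun a => ⟨⟨a.1, a.2.1⟩, Subgroup.mem_subgroupOf.mpr a.2.2⟩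
          left_inv := fun a => rfl
          right_inv := fun a => rfl }
    rw [e1, hz, ← Nat.card_zpowers]
    refine Nat.card_congr (Equiv.subtypeEquivRight fun a => ?_)
    refine ⟨fun ha => ?_, fun ha => ?_⟩
    · obtain ⟨i, rfl⟩ := hscalar a ha.1 ha.2
      exact Subgroup.npow_mem_zpowers w i
    · exact (Subgroup.zpowers_le.mpr hw) ha
  -- commutators
  have hcomm : ∀ a ∈ N, ∀ b ∈ N, ⁅a, b⁆ ∈ scalars ι F := fun a ha b hb =>
    hcl (Subgroup.commutator_mem_commutator ha hb)
  have hba : ∀ a b : GL ι F, b * a = ⁅b, a⁆ * (a * b) := fun a b => by rw [commutatorElement_def]; group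
  have hmulpow : ∀ a ∈ N, ∀ b ∈ N, ∀ k : ℕ, (a * b) ^ k = a ^ k * b ^ k * ⁅b, a⁆ ^ k.choose 2 :=
    fun a ha b hb k => mul_pow_of_commutator (hba a b) (fun x => scalars_comm (hcomm b hb a ha) x) k
  -- `r`th powers are scalar
  let M : Subgroup (GL ι F) :=
    { carrier := {a | a ∈ N ∧ a ^ r ∈ scalars ι F}
      one_mem' := ⟨N.one_mem, by simp [Subgroup.one_mem]⟩
      mul_mem' := fun {a b} ha hb => ⟨N.mul_mem ha.1 hb.1, by
        rw [hmulpow a ha.1 b hb.1]
        exact Subgroup.mul_mem _ (Subgroup.mul_mem _ ha.2 hb.2) (Subgroup.pow_mem _ (hcomm b hb.1 a ha.1) _)⟩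
      inv_mem' := fun {a} ha => ⟨N.inv_mem ha.1, by rw [inv_pow]; exact Subgroup.inv_mem _ ha.2⟩ }
  obtain ⟨x, hxN, hxs⟩ := SetLike.not_le_iff_exists.mp hNs
  have hM : M = N := by
    refine hmin M ⟨fun a ha => hN.1 ha.1, fun g hg a ha => ⟨hN.2 g hg a ha.1, ?_⟩⟩ (fun a ha => ha.1) ?_
    · rw [conj_pow]
      exact scalars_normal.conj_mem _ ha.2 g
    · intro hle
      obtain ⟨k, hk⟩ := hp ⟨x, hxN⟩
      have hex : ∃ j, x ^ r ^ j ∈ scalars ι F :=
        ⟨k, by rw [show x ^ r ^ k = 1 from congrArg Subtype.val hk]; exact Subgroup.one_mem _⟩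
      obtain ⟨j, hj⟩ : ∃ j, Nat.find hex = j + 1 := Nat.exists_eq_succ_of_ne_zero fun h => hxs (by
        have := Nat.find_spec hex
        rwa [h, pow_zero, pow_one] at this)
      refine Nat.find_min hex (show j < Nat.find hex by omega) (hle ⟨N.pow_mem hxN _, ?_⟩)
      have := Nat.find_spec hex
      rw [hj, pow_succ r j, pow_mul] at this
      exact this
  have hpow : ∀ a ∈ N, a ^ r ∈ scalars ι F := fun a ha => (hM.ge ha : a ∈ M).2
  have hcpow : ∀ a ∈ N, ∀ b ∈ N, ⁅a, b⁆ ^ r = 1 := by
    intro a ha b hb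
    have hc := fun x => scalars_comm (hcomm a ha b hb) x
    have h1 : ∀ k : ℕ, a ^ k * b * (a ^ k)⁻¹ = ⁅a, b⁆ ^ k * b := by
      intro k
      induction k with
      | zero => simp
      | succ k ih =>
        calc a ^ (k + 1) * b * (a ^ (k + 1))⁻¹ = a * (a ^ k * b * (a ^ k)⁻¹) * a⁻¹ := by
              rw [pow_succ']; simp only [_root_.mul_inv_rev, mul_assoc]
          _ = (a * ⁅a, b⁆ ^ k) * b * a⁻¹ := by rw [ih]; simp only [mul_assoc]
          _ = ⁅a, b⁆ ^ k * (a * b * a⁻¹) := by
              rw [← (Commute.pow_left (hc a) k).eq]; simp only [mul_assoc]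
          _ = ⁅a, b⁆ ^ (k + 1) * b := by
              rw [pow_succ, commutatorElement_def]; simp [mul_assoc]
    have h2 := h1 r
    rw [scalars_comm (hpow a ha) b, mul_inv_cancel_right] at h2
    exact mul_eq_right.mp h2.symm
  -- a non-commuting pair
  obtain ⟨y, hyN, hxy⟩ : ∃ y ∈ N, ¬ x * y = y * x := by
    by_contra h
    push Not at h
    exact hxs (hscal x hxN h)
  have hcxy : orderOf ⁅x, y⁆ = r :=
    orderOf_eq_prime (hcpow x hxN y hyN) fun h => hxy (commutatorElement_eq_one_iff_mul_comm.mp h)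
  have hrz : r ∣ z := by
    obtain ⟨i, hi⟩ := hscalar _ (Subgroup.commutator_le_self N (Subgroup.commutator_mem_commutator hxN hyN))
      (hcomm x hxN y hyN)
    rw [← hcxy, ← hi]
    exact orderOf_pow_dvd i
  -- the exponent
  set e := r * Nat.gcd 2 r with he
  have hce : r ∣ e.choose 2 := by
    rcases hr.eq_two_or_odd' with h2 | hodd
    · subst h2; decide
    · rw [he, show Nat.gcd 2 r = 1 from Nat.coprime_two_left.mpr hodd, mul_one]
      exact hr.dvd_choose_self two_ne_zero (lt_of_le_of_ne hr.two_le fun h => by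
        rw [← h] at hodd; exact absurd hodd (by decide))
  let M' : Subgroup (GL ι F) :=
    { carrier := {a | a ∈ N ∧ a ^ e = 1}
      one_mem' := ⟨N.one_mem, one_pow e⟩
      mul_mem' := fun {a b} ha hb => ⟨N.mul_mem ha.1 hb.1, by
        rw [hmulpow a ha.1 b hb.1, ha.2, hb.2]
        obtain ⟨l, hl⟩ := hce
        rw [hl, pow_mul, hcpow b hb.1 a ha.1]
        simp⟩
      inv_mem' := fun {a} ha => ⟨N.inv_mem ha.1, by rw [inv_pow, ha.2, inv_one]⟩ }
  have hred : ∀ a ∈ N, ¬ a ∈ scalars ι F → (∀ i, a ^ r = w ^ i → r ∣ i → False) ∨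
      ∃ a' ∈ N, a' ∉ scalars ι F ∧ a' ^ e = 1 := by
    intro a ha has
    by_cases h : ∃ i, a ^ r = w ^ i ∧ r ∣ i
    · right
      obtain ⟨i, hi, l, rfl⟩ := h
      refine ⟨a * (w ^ l)⁻¹, N.mul_mem ha (N.inv_mem (N.pow_mem hw.1 _)), fun h1 => has ?_, ?_⟩
      · simpa using Subgroup.mul_mem _ h1 (Subgroup.pow_mem _ hw.2 l)
      · have hc : Commute a (w ^ l)⁻¹ := (scalars_comm (Subgroup.inv_mem _ (Subgroup.pow_mem _ hw.2 l)) a).symm
        rw [he, pow_mul, hc.mul_pow, hi, inv_pow, ← pow_mul, mul_comm r l, mul_inv_cancel, one_pow]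
    · left
      intro i hi hd
      exact h ⟨i, hi, hd⟩
  have hM' : M' = N := by
    refine hmin M' ⟨fun a ha => hN.1 ha.1, fun g hg a ha => ⟨hN.2 g hg a ha.1, ?_⟩⟩ (fun a ha => ha.1) ?_
    · rw [conj_pow, ha.2, mul_one, mul_inv_cancel]
    · intro hle
      suffices h : ∃ a' ∈ N, a' ∉ scalars ι F ∧ a' ^ e = 1 by
        obtain ⟨a', h1, h2, h3⟩ := h
        exact h2 (hle ⟨h1, h3⟩)
      obtain ⟨i, hi⟩ := hscalar _ (N.pow_mem hxN r) (hpow x hxN)
      obtain ⟨j, hj⟩ := hscalar _ (N.pow_mem hyN r) (hpow y hyN)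
      rcases hred x hxN hxs with hx' | h
      swap
      · exact h
      have hri : ¬ r ∣ i := hx' i hi.symm
      obtain ⟨k, hk⟩ : ∃ k : ℕ, r ∣ i * k + j := by
        refine ⟨((-(j : ZMod r)) / (i : ZMod r)).val, ?_⟩
        rw [← ZMod.natCast_eq_zero_iff, Nat.cast_add, Nat.cast_mul, ZMod.natCast_zmod_val,
          mul_div_cancel₀ _ (by rwa [Ne, ZMod.natCast_eq_zero_iff]), neg_add_cancel]
      obtain ⟨l, hl⟩ := hk
      have hbN : x ^ k * y ∈ N := N.mul_mem (N.pow_mem hxN k) hyN
      have hbs : x ^ k * y ∉ scalars ι F := by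
        intro h
        apply hxy
        have h1 := scalars_comm h x
        rw [← mul_assoc, ← pow_succ', mul_assoc] at h1
        rw [pow_succ, mul_assoc] at h1
        exact (mul_left_cancel h1).symm
      have hbe : (x ^ k * y) ^ e = (w ^ l) ^ e := by
        rw [hmulpow _ (N.pow_mem hxN k) y hyN]
        obtain ⟨l', hl'⟩ := hce
        rw [hl', pow_mul ⁅y, x ^ k⁆, hcpow y hyN _ (N.pow_mem hxN k), one_pow, mul_one]
        have e1 : (x ^ k) ^ r * y ^ r = (w ^ l) ^ r := by
          rw [← pow_mul, mul_comm k r, pow_mul, ← hi, ← hj, ← pow_mul, ← pow_add, hl, mul_comm, pow_mul]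
        rw [he, pow_mul, pow_mul, pow_mul, ← e1]
        exact ((scalars_comm (hpow _ (N.pow_mem hxN k)) _ : (x ^ k) ^ r * y ^ r = _) |> fun h =>
          (Commute.mul_pow h _).symm)
      refine ⟨x ^ k * y * (w ^ l)⁻¹, N.mul_mem hbN (N.inv_mem (N.pow_mem hw.1 l)), fun h => hbs ?_, ?_⟩
      · simpa using Subgroup.mul_mem _ h (Subgroup.pow_mem _ hw.2 l)
      · rw [(scalars_comm (Subgroup.inv_mem _ (Subgroup.pow_mem _ hw.2 l)) _).symm |> fun h => Commute.mul_pow h e,
          hbe, inv_pow, mul_inv_cancel]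
  have hexp : ∀ a ∈ N, a ^ e = 1 := fun a ha => (hM'.ge ha : a ∈ M').2
  have hze : z ∣ e := orderOf_dvd_of_pow_eq_one (hexp w hw.1)
  have horder : (Odd r ∧ z = r) ∨ (r = 2 ∧ z = 2) ∨ (r = 2 ∧ z = 4) := by
    rcases hr.eq_two_or_odd' with h2 | hodd
    · subst h2
      have : z ∈ Nat.divisors 4 := Nat.mem_divisors.mpr ⟨hze, by norm_num⟩
      rw [show Nat.divisors 4 = {1, 2, 4} by decide] at this
      simp only [Finset.mem_insert, Finset.mem_singleton] at this
      rcases this with h | h | h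
      · rw [h] at hrz; exact absurd hrz (by decide)
      · exact Or.inr (Or.inl ⟨rfl, h⟩)
      · exact Or.inr (Or.inr ⟨rfl, h⟩)
    · rw [he, show Nat.gcd 2 r = 1 from Nat.coprime_two_left.mpr hodd, mul_one] at hze
      exact Or.inl ⟨hodd, Nat.dvd_antisymm hze hrz⟩
  have hexpo : Monoid.exponent N = e := by
    have hd : Monoid.exponent N ∣ e :=
      Monoid.exponent_dvd_of_forall_pow_eq_one fun a => Subtype.ext (by simpa using hexp a.1 a.2)
    have hne1 : Monoid.exponent N ≠ 1 := fun h => hxs (by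
      have := congrArg Subtype.val (Monoid.pow_exponent_eq_one (⟨x, hxN⟩ : N))
      rw [h] at this
      simp only [pow_one, OneMemClass.coe_one] at this
      rw [this]; exact Subgroup.one_mem _)
    rcases hr.eq_two_or_odd' with h2 | hodd
    · subst h2
      have : Monoid.exponent N ∈ Nat.divisors 4 := Nat.mem_divisors.mpr ⟨hd, by norm_num⟩
      rw [show Nat.divisors 4 = {1, 2, 4} by decide] at this
      simp only [Finset.mem_insert, Finset.mem_singleton] at this
      rcases this with h | h | h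
      · exact absurd h hne1
      · exfalso
        have hsq : ∀ a ∈ N, a * a = 1 := fun a ha => by
          have := congrArg Subtype.val (Monoid.pow_exponent_eq_one (⟨a, ha⟩ : N))
          rw [h, sq] at this
          exact this
        exact hxy (by
          have h1 := hsq _ (N.mul_mem hxN hyN)
          calc x * y = (x * y)⁻¹ := eq_inv_of_mul_eq_one_left h1
            _ = y * x := by
              rw [_root_.mul_inv_rev, ← eq_inv_of_mul_eq_one_left (hsq x hxN),
                ← eq_inv_of_mul_eq_one_left (hsq y hyN)])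
      · rw [h]; rfl
    · rw [he, show Nat.gcd 2 r = 1 from Nat.coprime_two_left.mpr hodd, mul_one] at hd ⊢
      exact ((Nat.dvd_prime hr).mp hd).resolve_left hne1
  -- coset representatives form a basis of all matrices
  let rep : N ⧸ Subgroup.center N → Matrix ι ι F := fun q => ((q.out : N).1 : Matrix ι ι F)
  have hχ : ∀ (a : N) (q : N ⧸ Subgroup.center N), ∃ c : F,
      ((a.1 : GL ι F) : Matrix ι ι F) * rep q * ((a.1⁻¹ : GL ι F) : Matrix ι ι F) = c • rep q ∧
        (c = 1 → a.1 * q.out.1 = q.out.1 * a.1) := by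
    intro a q
    obtain ⟨d, hd⟩ := (mem_scalars_iff _).mp (hcomm _ a.2 _ q.out.2)
    refine ⟨d, ?_, fun h => commutatorElement_eq_one_iff_mul_comm.mp (Units.ext (by rw [hd, h, one_smul, Units.val_one]))⟩
    rw [← Units.val_mul, ← Units.val_mul, show a.1 * q.out.1 * a.1⁻¹ = ⁅a.1, q.out.1⁆ * q.out.1 from by
      rw [commutatorElement_def]; group, Units.val_mul, hd, smul_mul_assoc, one_mul]
  choose χ hχ hχ1 using hχ
  have hli : LinearIndependent F rep := by
    refine linearIndependent_of_separated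
      (fun a : N => LinearMap.mulLeftRight F (((a.1 : GL ι F) : Matrix ι ι F), ((a.1⁻¹ : GL ι F) : Matrix ι ι F)))
      rep χ (fun q => Units.ne_zero _) (fun a q => by rw [LinearMap.mulLeftRight_apply]; exact hχ a q) ?_
    intro q q' hne
    by_contra h
    push Not at h
    refine hne ?_
    rw [← QuotientGroup.out_eq' q, ← QuotientGroup.out_eq' q', QuotientGroup.eq, Subgroup.mem_center_iff]
    intro a
    apply Subtype.ext
    show a.1 * (q.out.1⁻¹ * q'.out.1) = (q.out.1⁻¹ * q'.out.1) * a.1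
    set b := q.out.1
    set b' := q'.out.1
    have h1 := hχ a q
    have h2 := hχ a q'
    rw [← h a] at h2
    have h3 : ((a.1 * b * a.1⁻¹ * (b⁻¹ * b') : GL ι F) : Matrix ι ι F) = ((a.1 * b' * a.1⁻¹ : GL ι F) : Matrix ι ι F) := by
      simp only [Units.val_mul]
      rw [h1, h2, smul_mul_assoc]
      congr 1
      rw [← Units.val_mul, ← Units.val_mul, mul_inv_cancel_left]
    have h4 : a.1 * b * a.1⁻¹ * (b⁻¹ * b') = a.1 * b' * a.1⁻¹ := Units.ext h3
    refine mul_inv_eq_iff_eq_mul.mp ?_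
    calc a.1 * (b⁻¹ * b') * a.1⁻¹ = (a.1 * b * a.1⁻¹)⁻¹ * (a.1 * b' * a.1⁻¹) := by group
      _ = b⁻¹ * b' := by rw [← h4]; group
  letI := Fintype.ofFinite (N ⧸ Subgroup.center N)
  have hspan : Submodule.span F (Set.range rep) = ⊤ := by
    rw [eq_top_iff]
    intro X _
    have hX := mem_adjoin_of_absIrred habs X
    rw [← Subalgebra.mem_toSubmodule, Algebra.adjoin_eq_span] at hX
    refine Submodule.span_le.mpr ?_ hX
    intro Y hY
    obtain ⟨a, ha, rfl⟩ : ∃ a ∈ N, (a : Matrix ι ι F) = Y := by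
      induction hY using Submonoid.closure_induction with
      | mem x hx => exact hx
      | one => exact ⟨1, N.one_mem, rfl⟩
      | mul x y _ _ hx hy =>
        obtain ⟨a, ha, rfl⟩ := hx
        obtain ⟨b, hb, rfl⟩ := hy
        exact ⟨a * b, N.mul_mem ha hb, rfl⟩
    set q : N ⧸ Subgroup.center N := QuotientGroup.mk ⟨a, ha⟩ with hq
    have hc : (q.out : N)⁻¹ * ⟨a, ha⟩ ∈ Subgroup.center N :=
      QuotientGroup.eq.mp (QuotientGroup.out_eq' q)
    obtain ⟨c, hc⟩ := (mem_scalars_iff _).mp (Subgroup.mem_subgroupOf.mp (hcenter.le hc))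
    have e1 : (a : Matrix ι ι F) = (c : F) • rep q := by
      calc (a : Matrix ι ι F) = ((q.out.1 * (q.out.1⁻¹ * a) : GL ι F) : Matrix ι ι F) := by rw [mul_inv_cancel_left]
        _ = _ := by
          rw [Units.val_mul]
          show _ * (((q.out : N)⁻¹ * ⟨a, ha⟩ : N) : GL ι F).val = _
          rw [hc, mul_smul_comm, mul_one]
    rw [e1]
    exact Submodule.smul_mem _ _ (Submodule.subset_span ⟨q, rfl⟩)
  have hquot : Nat.card (N ⧸ Subgroup.center N) = Fintype.card ι ^ 2 := by
    have := finrank_span_eq_card hli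
    rw [hspan, finrank_top, Module.finrank_matrix, Module.finrank_self, mul_one] at this
    rw [Nat.card_eq_fintype_card, ← this, sq]
  have hcard : Nat.card N = z * Fintype.card ι ^ 2 := by
    rw [Subgroup.card_eq_card_quotient_mul_card_subgroup (Subgroup.center N), hquot, hzcard, mul_comm]
  refine ⟨r, z, ζ, hr, hp, hexpo, hzcard, horder, hprim, ?_, hcenter, hcard, ?_, ?_, hli⟩
  · intro a ha has
    obtain ⟨i, rfl⟩ := hscalar a ha has
    exact ⟨i, hwpow i⟩
  · obtain ⟨k, hk⟩ := (IsPGroup.to_quotient hp (Subgroup.center N)).exists_card_eq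
    rw [hquot] at hk
    obtain ⟨m, -, hm⟩ := (Nat.dvd_prime_pow hr).mp (show Fintype.card ι ∣ r ^ k by rw [← hk]; exact dvd_pow_self _ two_ne_zero)
    exact ⟨m, Nat.pos_of_ne_zero fun h => by rw [h, pow_zero] at hm; omega, hm⟩
  · intro hz2 a ha
    rcases horder with ⟨hodd, h⟩ | ⟨h2, h⟩ | ⟨h2, h⟩
    · have := hexp a ha
      rwa [he, show Nat.gcd 2 r = 1 from Nat.coprime_two_left.mpr hodd, mul_one, ← h] at this
    · exact absurd h hz2
    · have := hexp a ha
      rwa [he, h2, show 2 * Nat.gcd 2 2 = z from by rw [h]; rfl] at this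

end CfsgLib.Aschbacher
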