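import Cfsg.Agent.Aschbacher.Rational

/-!
A commutative non-scalar algebra normalised by an irreducible primitive group gives an extension field of prime
degree normalised by it.
-/
set_option autoImplicit false

namespace CfsgLib.Aschbacher

open Matrix Cfsg.Geo CfsgLib.GeoClifford
open scoped MatrixGroups

variable {ι : Type} [Fintype ι] [DecidableEq ι] {F : Type*} [Field F]

/-- The group normalises an extension field of prime degree. -/
def HasField (H : Subgroup (GL ι F)) : Prop :=
  ∃ (r : ℕ) (K : Subalgebra F (Matrix ι ι F)), r.Prime ∧ IsFieldSubalgebra r K ∧ H ≤ subalgebraNormalizer K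

variable [Fintype F]

/-- An extension field contains one of each prime degree dividing its degree, normalised by every normaliser. -/
lemma exists_subfield_algebra [Nonempty ι] {H : Subgroup (GL ι F)} {r r' : ℕ}
    {K : Subalgebra F (Matrix ι ι F)} (hK : IsFieldSubalgebra r K) (hstab : ConjStable H K) (hr' : r' ∣ r)
    (hr0 : 0 < r') :
    ∃ K' : Subalgebra F (Matrix ι ι F), IsFieldSubalgebra r' K' ∧ ConjStable H K' := by
  classical
  have hfield : IsField K :=
    { exists_pair_ne := ⟨0, 1, fun h => by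
        have h' := congrArg Subtype.val h
        simp at h'⟩
      mul_comm := fun a b => Subtype.ext (hK.comm a.1 a.2 b.1 b.2)
      mul_inv_cancel := fun {a} ha => by
        obtain ⟨y, hy, hy1⟩ := hK.inv a.1 a.2 (fun h => ha (Subtype.ext h))
        exact ⟨⟨y, hy⟩, Subtype.ext hy1⟩ }
  letI : Field K := hfield.toField
  letI : Fintype K := Fintype.ofFinite K
  obtain ⟨p, hchar⟩ := CharP.exists F
  obtain ⟨f, hp, hF⟩ := FiniteField.card F p
  have hcard : Fintype.card K = p ^ ((f : ℕ) * r) := by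
    rw [Module.card_eq_pow_finrank (K := F) (V := K), hF, ← pow_mul, hK.finrank_eq]
  obtain ⟨K₀, hK0, hmem⟩ := exists_subfield_card hp hcard (m := (f : ℕ) * r') (mul_dvd_mul_left _ hr')
    (Nat.mul_pos f.pos hr0)
  have halg : ∀ c : F, algebraMap F K c ∈ K₀ := by
    intro c
    refine hmem _ ?_
    rw [← map_pow, pow_mul, ← hF, FiniteField.pow_card_pow]
  let S : Subalgebra F K :=
    { carrier := {x | x ∈ K₀}
      mul_mem' := fun {a b} ha hb => K₀.mul_mem ha hb
      add_mem' := fun {a b} ha hb => K₀.add_mem ha hb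
      algebraMap_mem' := halg }
  have hS : Module.finrank F S = r' := by
    letI : Fintype S := Fintype.ofFinite S
    have h1 : Fintype.card S = p ^ ((f : ℕ) * r') := by rw [← Nat.card_eq_fintype_card]; exact hK0
    rw [Module.card_eq_pow_finrank (K := F) (V := S), hF, ← pow_mul] at h1
    exact Nat.eq_of_mul_eq_mul_left f.pos (Nat.pow_right_injective hp.two_le h1)
  refine ⟨S.map K.val, ⟨?_, ?_, ?_⟩, ?_⟩
  · rintro _ ⟨a, -, rfl⟩ _ ⟨b, -, rfl⟩
    exact hK.comm a.1 a.2 b.1 b.2
  · rintro _ ⟨a, ha, rfl⟩ h0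
    have ha0 : a ≠ 0 := fun h => h0 (congrArg Subtype.val h)
    exact ⟨_, ⟨a⁻¹, K₀.inv_mem ha, rfl⟩, congrArg Subtype.val (mul_inv_cancel₀ ha0)⟩
  · rw [← hS]
    exact (LinearEquiv.finrank_eq (Submodule.equivMapOfInjective K.val.toLinearMap Subtype.val_injective
      (Subalgebra.toSubmodule S))).symm
  · rintro g hg _ ⟨a, ha, rfl⟩
    refine ⟨⟨_, hstab g hg a.1 a.2⟩, ?_, rfl⟩
    refine hmem _ (Subtype.ext ?_)
    have h1 : (a.1 : Matrix ι ι F) ^ p ^ ((f : ℕ) * r') = a.1 := by
      have h2 := (mem_subfield_iff K₀ a).mp ha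
      rw [hK0] at h2
      exact congrArg Subtype.val h2
    show ((g : Matrix ι ι F) * a.1 * ((g⁻¹ : GL ι F) : Matrix ι ι F)) ^ _ = _
    rw [Units.conj_pow, h1]

/-- A non-scalar commutative algebra normalised by an irreducible primitive group gives an extension field. -/
theorem hasField_of_comm [Nonempty ι] {H : Subgroup (GL ι F)} (hirr : ActsIrreducibly (matrixSet H))
    (hprim : IsPrimitiveLin H) {R : Subalgebra F (Matrix ι ι F)} (hcomm : ∀ x ∈ R, ∀ y ∈ R, x * y = y * x)
    (hstab : ConjStable H R) (hR : R ≠ ⊥) : HasField H := by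
  have hK : IsFieldSubalgebra (Module.finrank F R) R :=
    ⟨hcomm, fun x hx hx0 => exists_inv_of_conjStable hirr hprim hcomm hstab hx hx0, rfl⟩
  have hr1 : Module.finrank F R ≠ 1 := fun h => hR (fieldSubalgebra_eq_bot h)
  obtain ⟨r', hr', hdvd⟩ := Nat.exists_prime_and_dvd hr1
  obtain ⟨K', hK', hst⟩ := exists_subfield_algebra hK hstab hdvd hr'.pos
  exact ⟨r', K', hr', hK', le_subalgebraNormalizer hst⟩

end CfsgLib.Aschbacher
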