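import Cfsg.Agent.Aschbacher.Basic

/-!
Pure tensors, permutations of tensor factors, and membership in the tensor and tensor-wreath groups.
-/
set_option autoImplicit false

namespace CfsgLib.Aschbacher

open Matrix Cfsg.Geo CfsgLib.GeoClifford
open scoped MatrixGroups Kronecker

variable {ι : Type} [Fintype ι] [DecidableEq ι] {F : Type*} [Field F] {t m : ℕ}

/-- The tensor product of `t` square matrices. -/
def tens (a : Fin t → Matrix (Fin m) (Fin m) F) : Matrix (Fin t → Fin m) (Fin t → Fin m) F :=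
  Matrix.of fun x y => ∏ i, a i (x i) (y i)

lemma tens_mul (a b : Fin t → Matrix (Fin m) (Fin m) F) :
    tens a * tens b = tens (fun i => a i * b i) := by
  ext x y
  simp only [tens, Matrix.mul_apply, Matrix.of_apply]
  rw [Fintype.prod_sum]
  exact Finset.sum_congr rfl fun z _ => (Finset.prod_mul_distrib).symm

lemma tens_one : tens (fun _ : Fin t => (1 : Matrix (Fin m) (Fin m) F)) = 1 := by
  ext x y
  simp only [tens, Matrix.of_apply, Matrix.one_apply]
  by_cases h : x = y
  · subst h; simp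
  · rw [if_neg h]
    obtain ⟨i, hi⟩ := Function.ne_iff.mp h
    exact Finset.prod_eq_zero (Finset.mem_univ i) (if_neg hi)

lemma tens_transpose (a : Fin t → Matrix (Fin m) (Fin m) F) : (tens a)ᵀ = tens (fun i => (a i)ᵀ) := rfl

lemma tens_smul (a : Fin t → Matrix (Fin m) (Fin m) F) (s : Fin t → F) :
    tens (fun i => s i • a i) = (∏ i, s i) • tens a := by
  ext x y
  simp [tens, Finset.prod_mul_distrib]

/-- Permutation of the tensor factors. -/
def permMat (m : ℕ) {F : Type*} [Field F] (σ : Equiv.Perm (Fin t)) :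
    Matrix (Fin t → Fin m) (Fin t → Fin m) F :=
  Matrix.of fun x y => if y = x ∘ σ then 1 else 0

lemma comp_eq_iff (σ : Equiv.Perm (Fin t)) (x y : Fin t → Fin m) : y = x ∘ σ ↔ x = y ∘ σ.symm := by
  constructor
  · rintro rfl; funext i; simp
  · rintro rfl; funext i; simp

lemma permMat_mul_apply (σ : Equiv.Perm (Fin t)) (M : Matrix (Fin t → Fin m) (Fin t → Fin m) F) (x y : Fin t → Fin m) :
    ((permMat m σ : Matrix _ _ F) * M) x y = M (x ∘ σ) y := by
  simp [permMat, Matrix.mul_apply]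

lemma mul_permMat_apply (σ : Equiv.Perm (Fin t)) (M : Matrix (Fin t → Fin m) (Fin t → Fin m) F) (x y : Fin t → Fin m) :
    (M * (permMat m σ : Matrix _ _ F)) x y = M x (y ∘ σ.symm) := by
  simp [permMat, Matrix.mul_apply, comp_eq_iff σ]

lemma permMat_mul_tens (σ : Equiv.Perm (Fin t)) (a : Fin t → Matrix (Fin m) (Fin m) F) :
    (permMat m σ : Matrix _ _ F) * tens a = tens (fun i => a (σ.symm i)) * permMat m σ := by
  ext x y
  rw [permMat_mul_apply, mul_permMat_apply]
  simp only [tens, Matrix.of_apply, Function.comp]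
  exact Fintype.prod_equiv σ _ _ fun i => by simp

lemma permMat_mul_inv (σ : Equiv.Perm (Fin t)) :
    (permMat m σ : Matrix _ _ F) * permMat m σ.symm = 1 := by
  ext x y
  rw [permMat_mul_apply]
  simp only [permMat, Matrix.of_apply, Matrix.one_apply]
  refine if_congr ?_ rfl rfl
  rw [show (x ∘ σ) ∘ σ.symm = x from by funext i; simp]
  exact eq_comm

lemma permMat_transpose (σ : Equiv.Perm (Fin t)) :
    (permMat m σ : Matrix _ _ F)ᵀ = permMat m σ.symm := by
  ext x y
  simp [permMat, comp_eq_iff σ y x]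

/-- The element of `GL` given by invertible factors. -/
noncomputable def tensUnit (a : Fin t → GL (Fin m) F) : GL (Fin t → Fin m) F :=
  ⟨tens fun i => (a i : Matrix _ _ F), tens fun i => (((a i)⁻¹ : GL (Fin m) F) : Matrix _ _ F),
    by rw [tens_mul]; simp [tens_one], by rw [tens_mul]; simp [tens_one]⟩

/-- The element of `GL` permuting the factors. -/
noncomputable def permUnit (m : ℕ) {F : Type*} [Field F] (σ : Equiv.Perm (Fin t)) : GL (Fin t → Fin m) F :=
  ⟨permMat m σ, permMat m σ.symm, permMat_mul_inv σ, by simpa using permMat_mul_inv (m := m) (F := F) σ.symm⟩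

/-- A criterion for membership in a tensor-wreath group. -/
lemma mem_tensorWreathSubgroup (e : ι ≃ (Fin t → Fin m)) (P : GL ι F) {h : GL ι F}
    (a : Fin t → GL (Fin m) F) (σ : Equiv.Perm (Fin t))
    (hh : ((P⁻¹ : GL ι F) : Matrix ι ι F) * (h : Matrix ι ι F) * (P : Matrix ι ι F) =
      (tens (fun i => (a i : Matrix (Fin m) (Fin m) F)) * permMat m σ).submatrix e e) :
    h ∈ tensorWreathSubgroup m t e P := by
  refine ⟨P⁻¹ * h * P, ⟨tensUnit a * permUnit m σ, ?_, Units.ext ?_⟩, by simp [mul_assoc]⟩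
  · exact Subgroup.mul_mem _ (Subgroup.subset_closure (Or.inl ⟨a, fun _ _ => rfl⟩))
      (Subgroup.subset_closure (Or.inr ⟨σ, fun _ _ => rfl⟩))
  · rw [Units.val_mul, Units.val_mul, hh]
    rfl

/-- A criterion for membership in a tensor-product group. -/
lemma mem_tensorProductSubgroup {n₁ n₂ : ℕ} (e : ι ≃ Fin n₁ × Fin n₂) (P : GL ι F) {h : GL ι F}
    (a : GL (Fin n₁) F) (b : GL (Fin n₂) F)
    (hh : ((P⁻¹ : GL ι F) : Matrix ι ι F) * (h : Matrix ι ι F) * (P : Matrix ι ι F) =
      ((a : Matrix (Fin n₁) (Fin n₁) F) ⊗ₖ (b : Matrix (Fin n₂) (Fin n₂) F)).submatrix e e) :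
    h ∈ tensorProductSubgroup n₁ n₂ e P := by
  let g : GL (Fin n₁ × Fin n₂) F :=
    ⟨(a : Matrix _ _ F) ⊗ₖ (b : Matrix _ _ F),
      ((a⁻¹ : GL _ F) : Matrix _ _ F) ⊗ₖ ((b⁻¹ : GL _ F) : Matrix _ _ F),
      by rw [← Matrix.mul_kronecker_mul]; simp, by rw [← Matrix.mul_kronecker_mul]; simp⟩
  refine ⟨P⁻¹ * h * P, ⟨g, ⟨a, b, rfl⟩, Units.ext ?_⟩, by simp [mul_assoc]⟩
  rw [Units.val_mul, Units.val_mul, hh]
  rfl

end CfsgLib.Aschbacher
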