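import Cfsg.Agent.Aschbacher.General.Units
import Cfsg.Agent.Aschbacher.General.Tensor
import Cfsg.Agent.Aschbacher.General.FieldExt
import Cfsg.Agent.Aschbacher.General.FormOf
import Cfsg.Agent.Aschbacher.NotClean

/-!
An irreducible group is imprimitive, normalises an extension field, preserves a tensor decomposition or a form,
or has all its non-scalar normal subgroups absolutely irreducible.
-/
set_option autoImplicit false

namespace CfsgLib.Aschbacher

open Matrix Cfsg.Geo CfsgLib.GeoClifford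
open scoped MatrixGroups Kronecker

variable {ι : Type} [Fintype ι] [DecidableEq ι] {F : Type*} [Field F]

/-- The group preserves a tensor decomposition with factors of different dimensions. -/
def HasTensor (H : Subgroup (GL ι F)) : Prop :=
  ∃ (n₁ n₂ : ℕ) (e : ι ≃ Fin n₁ × Fin n₂) (P : GL ι F), 2 ≤ n₁ ∧ n₁ < n₂ ∧ H ≤ tensorProductSubgroup n₁ n₂ e P

/-- The group preserves a tensor decomposition with equal factors of dimension at least three. -/
def HasWreath (H : Subgroup (GL ι F)) : Prop :=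
  ∃ (m t : ℕ) (e : ι ≃ (Fin t → Fin m)) (P : GL ι F), 3 ≤ m ∧ 2 ≤ t ∧ H ≤ tensorWreathSubgroup m t e P

/-- Elements commuting with a group commute with the algebra it generates. -/
lemma commute_adjoin {N : Subgroup (GL ι F)} {Y : Matrix ι ι F}
    (hY : ∀ n ∈ N, (n : Matrix ι ι F) * Y = Y * n) {x : Matrix ι ι F}
    (hx : x ∈ Algebra.adjoin F (matrixSet N)) : x * Y = Y * x := by
  refine (Algebra.commute_of_mem_adjoin_of_forall_mem_commute hx ?_).symm
  rintro _ ⟨n, hn, rfl⟩
  exact (hY n hn).symm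

/-- A group whose enveloping algebra is everything is absolutely irreducible. -/
lemma absIrred_of_adjoin_eq_top [Nonempty ι] {N : Subgroup (GL ι F)}
    (h : ∀ X, X ∈ Algebra.adjoin F (matrixSet N)) : ActsAbsolutelyIrreducibly (matrixSet N) := by
  refine ⟨fun W hW => ?_, fun M hM => ?_⟩
  · by_cases h0 : W = ⊥
    · exact Or.inl h0
    right
    obtain ⟨v, hv, hv0⟩ := W.ne_bot_iff.mp h0
    obtain ⟨i, hi⟩ := Function.ne_iff.mp hv0
    have hstab : ∀ X ∈ Algebra.adjoin F (matrixSet N), ∀ w ∈ W, X *ᵥ w ∈ W := by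
      intro X hX
      induction hX using Algebra.adjoin_induction with
      | mem x hx =>
        intro w hw
        simpa using hW x hx (Submodule.mem_map_of_mem hw)
      | algebraMap r =>
        intro w hw
        rw [Algebra.algebraMap_eq_smul_one, smul_mulVec, one_mulVec]
        exact W.smul_mem r hw
      | add x y _ _ hx hy => intro w hw; rw [add_mulVec]; exact W.add_mem (hx w hw) (hy w hw)
      | mul x y _ _ hx hy => intro w hw; rw [← mulVec_mulVec]; exact hx _ (hy w hw)
    rw [Submodule.eq_top_iff']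
    intro u
    have := hstab (vecMulVec u (Pi.single i (v i)⁻¹)) (h _) v hv
    rw [Matrix.vecMulVec_mulVec, single_dotProduct, inv_mul_cancel₀ (by simpa using hi)] at this
    simpa using this
  · obtain ⟨i⟩ := ‹Nonempty ι›
    have hc : ∀ X, X * M = M * X := fun X =>
      commute_adjoin (fun n hn => (hM _ (coe_mem_matrixSet hn)).symm) (h X)
    obtain ⟨c, hc'⟩ := Matrix.mem_range_scalar_of_commute_single (M := M) fun a b _ => hc _
    exact ⟨c, by rw [← hc', Matrix.scalar_apply, ← Matrix.smul_one_eq_diagonal]⟩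

variable [Fintype F]

/-- Every matrix lies in the enveloping algebra of an absolutely irreducible group. -/
lemma mem_adjoin_of_absIrred [Nonempty ι] {N : Subgroup (GL ι F)}
    (habs : ActsAbsolutelyIrreducibly (matrixSet N)) (X : Matrix ι ι F) : X ∈ Algebra.adjoin F (matrixSet N) := by
  have hN : NormSub N N := ⟨le_rfl, fun g hg a ha => N.mul_mem (N.mul_mem hg ha) (N.inv_mem hg)⟩
  have hcomm : ∀ Y : Matrix ι ι F, (∀ n ∈ N, (n : Matrix ι ι F) * Y = Y * n) →
      ∃ c : F, Y = c • (1 : Matrix ι ι F) :=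
    fun Y hY => habs.2 Y (forall_matrixSet.mpr fun n hn => (hY n hn).symm)
  obtain ⟨d, E, -, hE, hEA, hspan⟩ := exists_munits habs.1 (conjStable_adjoin hN) fun x _ hx =>
    hcomm x fun n hn => (hx _ (Algebra.subset_adjoin (coe_mem_matrixSet hn))).symm
  obtain ⟨e, P, hP⟩ := hE.exists_coords_full fun Y hY => hcomm Y fun n hn => by
    obtain ⟨c, hc⟩ := hspan _ (Algebra.subset_adjoin (coe_mem_matrixSet hn))
    simp only [hc, Finset.sum_mul, Finset.mul_sum, smul_mul_assoc, mul_smul_comm, hY]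
  set M := (((P⁻¹ : GL ι F) : Matrix ι ι F) * X * (P : Matrix ι ι F)).submatrix e.symm e.symm
  have hX : X = hE.emb M := by
    have h := congrArg (fun Z => (P : Matrix ι ι F) * Z * ((P⁻¹ : GL ι F) : Matrix ι ι F)) (hP M)
    simp only [M, submatrix_submatrix, Equiv.symm_comp_self, submatrix_id_id] at h
    simpa [mul_assoc, M] using h.symm
  rw [hX]
  exact Subalgebra.sum_mem _ fun a _ => Subalgebra.sum_mem _ fun b _ => Subalgebra.smul_mem _ (hEA a b) _

/-- The first reduction. -/
theorem clean_or_geometric (hn : 3 ≤ Fintype.card ι) {H : Subgroup (GL ι F)}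
    (hirr : ActsIrreducibly (matrixSet H)) (hprim : IsPrimitiveLin H) :
    HasField H ∨ HasTensor H ∨ HasWreath H ∨ HasBilinearForm H ∨ Clean H := by
  classical
  have : Nonempty ι := Fintype.card_pos_iff.mp (by omega)
  by_cases hclean : Clean H
  · exact Or.inr (Or.inr (Or.inr (Or.inr hclean)))
  unfold Clean at hclean
  push Not at hclean
  obtain ⟨N, hN, hNs, hna⟩ := hclean
  set A := Algebra.adjoin F (matrixSet N) with hA
  have hAst : ConjStable H A := conjStable_adjoin hN
  set Z := A ⊓ commutant N with hZ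
  by_cases hZbot : Z = ⊥
  swap
  · left
    refine hasField_of_comm hirr hprim (R := Z) ?_ ?_ hZbot
    · intro x hx y hy
      exact commute_adjoin (mem_commutant.mp (Algebra.mem_inf.mp hy).2) (Algebra.mem_inf.mp hx).1
    · intro g hg x hx
      exact Algebra.mem_inf.mpr ⟨hAst g hg x (Algebra.mem_inf.mp hx).1,
        commutant_conjStable hN g hg x (Algebra.mem_inf.mp hx).2⟩
  obtain ⟨d, E, hd, hE, hEA, hspan⟩ := exists_munits hirr hAst fun x hx hc =>
    eq_bot_iff_scalar.mp hZbot x (Algebra.mem_inf.mpr ⟨hx, mem_commutant.mpr fun n hn =>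
      (hc _ (Algebra.subset_adjoin (coe_mem_matrixSet hn))).symm⟩)
  obtain ⟨k, e, P, hk, hP⟩ := hE.exists_coords
  have hemb : ∀ x ∈ A, ∃ M, x = hE.emb M := fun x hx => by
    obtain ⟨c, hc⟩ := hspan x hx
    exact ⟨Matrix.of c, hc⟩
  have hd1 : d ≠ 1 := by
    rintro rfl
    refine hNs fun a ha => ?_
    obtain ⟨c, hc⟩ := hspan _ (Algebra.subset_adjoin (coe_mem_matrixSet ha))
    have hE1 := hE.sum_eq
    simp only [Fin.sum_univ_one] at hc hE1
    rw [hE1] at hc
    refine (mem_scalars_iff a).mpr ⟨Units.mk0 (c 0 0) fun h0 => a.ne_zero (by rw [hc, h0, zero_smul]), hc⟩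
  have hk1 : k ≠ 1 := by
    rintro rfl
    refine hna (absIrred_of_adjoin_eq_top fun X => ?_)
    set M : Matrix (Fin d) (Fin d) F := Matrix.of fun a b =>
      (((P⁻¹ : GL ι F) : Matrix ι ι F) * X * (P : Matrix ι ι F)) (e.symm (a, 0)) (e.symm (b, 0))
    have h1 : ((P⁻¹ : GL ι F) : Matrix ι ι F) * hE.emb M * (P : Matrix ι ι F) =
        ((P⁻¹ : GL ι F) : Matrix ι ι F) * X * (P : Matrix ι ι F) := by
      rw [hP]
      ext i j
      have e1 : ∀ i, e.symm ((e i).1, 0) = i := fun i => by
        rw [Subsingleton.elim (0 : Fin 1) (e i).2, Prod.mk.eta, Equiv.symm_apply_apply]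
      simp [M, Matrix.kroneckerMap_apply, e1, Matrix.one_apply, Subsingleton.elim (e i).2 (e j).2]
    have h2 := congrArg (fun Z => (P : Matrix ι ι F) * Z * ((P⁻¹ : GL ι F) : Matrix ι ι F)) h1
    simp [mul_assoc] at h2
    rw [← h2]
    exact Subalgebra.sum_mem _ fun a _ => Subalgebra.sum_mem _ fun b _ => Subalgebra.smul_mem _ (hEA a b) _
  have hkr : ∀ h ∈ H, ∃ (g : GL (Fin d) F) (b : GL (Fin k) F),
      ((P⁻¹ : GL ι F) : Matrix ι ι F) * (h : Matrix ι ι F) * (P : Matrix ι ι F) =
        ((g : Matrix (Fin d) (Fin d) F) ⊗ₖ (b : Matrix (Fin k) (Fin k) F)).submatrix e e :=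
    fun h hh => hE.exists_kronecker e P hP fun a b => hemb _ (hAst h hh _ (hEA a b))
  right
  rcases lt_trichotomy d k with hlt | heq | hgt
  · refine Or.inl ⟨d, k, e, P, by omega, hlt, fun h hh => ?_⟩
    obtain ⟨g, b, hgb⟩ := hkr h hh
    exact mem_tensorProductSubgroup e P g b hgb
  rotate_left
  · refine Or.inl ⟨k, d, e.trans (Equiv.prodComm _ _), P, by omega, hgt, fun h hh => ?_⟩
    obtain ⟨g, b, hgb⟩ := hkr h hh
    refine mem_tensorProductSubgroup _ P b g ?_
    rw [hgb]
    ext i j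
    simp [Matrix.kroneckerMap_apply, mul_comm]
  subst heq
  right
  by_cases hd3 : 3 ≤ d
  · left
    refine ⟨d, 2, e.trans (piFinTwoEquiv fun _ => Fin d).symm, P, hd3, le_rfl, fun h hh => ?_⟩
    obtain ⟨g, b, hgb⟩ := hkr h hh
    refine mem_tensorWreathSubgroup _ P (fun i => if i = 0 then g else b) 1 ?_
    rw [hgb, show (permMat d (1 : Equiv.Perm (Fin 2)) : Matrix _ _ F) = 1 from by
      ext x y; simp [permMat, Matrix.one_apply, eq_comm], mul_one]
    ext i j
    simp [tens, Fin.prod_univ_two, Matrix.kroneckerMap_apply]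
  right; left
  obtain rfl : d = 2 := by omega
  set J : Matrix (Fin 2) (Fin 2) F := !![0, 1; -1, 0] with hJ
  have hJg : ∀ g : Matrix (Fin 2) (Fin 2) F, gᵀ * J * g = g.det • J := by
    intro g
    ext a b
    fin_cases a <;> fin_cases b <;>
      simp [hJ, Matrix.mul_apply, Fin.sum_univ_two, Matrix.det_fin_two] <;> ring
  set Q : Matrix ι ι F := ((P⁻¹ : GL ι F) : Matrix ι ι F) with hQ
  set G : Matrix ι ι F := Qᵀ * (J ⊗ₖ J).submatrix e e * Q with hG
  clear_value G
  set f := formOf (RingEquiv.refl F) G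
  have hmap : ∀ M : Matrix ι ι F, M.map (RingEquiv.refl F) = M := fun M => by ext i j; rfl
  have hGu : IsUnit G := by
    rw [Matrix.isUnit_iff_isUnit_det, hG, det_mul, det_mul, det_transpose, det_submatrix_equiv_self,
      Matrix.det_kronecker]
    have hJd : J.det = 1 := by simp [hJ, Matrix.det_fin_two]
    have hQd : IsUnit Q.det := (Matrix.isUnit_iff_isUnit_det _).mp (P⁻¹).isUnit
    simpa [hJd] using hQd.ne_zero
  have hbil := isBilinearForm_formOf G
  have hnd := nondegenerate_formOf (RingEquiv.refl F) hGu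
  have hGt : Gᵀ = G := by
    rw [hG, transpose_mul, transpose_mul, transpose_transpose, ← mul_assoc, transpose_submatrix,
      ← Matrix.kroneckerMap_transpose]
    congr 3
    ext ⟨a, b⟩ ⟨a', b'⟩
    fin_cases a <;> fin_cases b <;> fin_cases a' <;> fin_cases b' <;> simp [hJ, Matrix.kroneckerMap_apply]
  have hsym : ∀ u v, f u v = f v u := fun u v => by simp only [f]; rw [formOf_swap G v u, hGt]
  have hsim : H ≤ similarityGroup f := by
    intro h hh
    obtain ⟨g, b, hgb⟩ := hkr h hh
    set c : F := (g : Matrix (Fin 2) (Fin 2) F).det * (b : Matrix (Fin 2) (Fin 2) F).det with hc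
    have hc0 : c ≠ 0 := mul_ne_zero (Matrix.GeneralLinearGroup.det g).ne_zero (Matrix.GeneralLinearGroup.det b).ne_zero
    set K : Matrix ι ι F := Q * (h : Matrix ι ι F) * (P : Matrix ι ι F) with hKdef
    have hK : Kᵀ * (J ⊗ₖ J).submatrix e e * K = c • (J ⊗ₖ J).submatrix e e := by
      rw [hgb, transpose_submatrix, submatrix_mul_equiv, submatrix_mul_equiv,
        ← Matrix.kroneckerMap_transpose, ← Matrix.mul_kronecker_mul, ← Matrix.mul_kronecker_mul, hJg, hJg,
        Matrix.smul_kronecker, Matrix.kronecker_smul, smul_smul]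
      rfl
    have hKQ : Q * (h : Matrix ι ι F) = K * Q := by
      rw [hKdef, mul_assoc _ (P : Matrix ι ι F), hQ, Units.mul_inv, mul_one]
    have hhG : (h : Matrix ι ι F)ᵀ * G * (h : Matrix ι ι F) = c • G := by
      calc _ = (Q * (h : Matrix ι ι F))ᵀ * (J ⊗ₖ J).submatrix e e * (Q * (h : Matrix ι ι F)) := by
            rw [hG, transpose_mul]; simp only [mul_assoc]
        _ = Qᵀ * (Kᵀ * (J ⊗ₖ J).submatrix e e * K) * Q := by
            rw [hKQ, transpose_mul]; simp only [mul_assoc]
        _ = _ := by rw [hK, hG, mul_smul_comm, smul_mul_assoc]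
    refine ⟨Units.mk0 c hc0, fun u v => ?_⟩
    show ((h : Matrix ι ι F) *ᵥ u) ⬝ᵥ (G *ᵥ ((h : Matrix ι ι F) *ᵥ v)) = c * (u ⬝ᵥ (G *ᵥ v))
    have key : ((h : Matrix ι ι F) *ᵥ u) ⬝ᵥ (G *ᵥ ((h : Matrix ι ι F) *ᵥ v)) =
        u ⬝ᵥ (((h : Matrix ι ι F)ᵀ * G * (h : Matrix ι ι F)) *ᵥ v) := by
      rw [← mulVec_mulVec, ← mulVec_mulVec, dotProduct_mulVec u ((h : Matrix ι ι F)ᵀ), vecMul_transpose]
    rw [key, hhG, smul_mulVec, dotProduct_smul, smul_eq_mul]
  by_cases h2 : (2 : F) = 0
  · left
    have hneg : ∀ a : F, a = -a := fun a => eq_neg_of_add_eq_zero_left (by rw [← two_mul, h2, zero_mul])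
    have halt : ∀ v, f v v = 0 := by
      intro v
      show v ⬝ᵥ (G *ᵥ v) = 0
      rw [hG, ← mulVec_mulVec, ← mulVec_mulVec, dotProduct_mulVec v, vecMul_transpose]
      generalize Q *ᵥ v = w
      rw [show w ⬝ᵥ ((J ⊗ₖ J).submatrix e e *ᵥ w) = (w ∘ e.symm) ⬝ᵥ ((J ⊗ₖ J) *ᵥ (w ∘ e.symm)) from by
        rw [submatrix_mulVec_equiv]
        exact (comp_equiv_symm_dotProduct _ _ e).symm]
      generalize w ∘ e.symm = x
      simp [hJ, dotProduct, Matrix.mulVec, Fintype.sum_prod_type, Fin.sum_univ_two, Matrix.kroneckerMap_apply]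
      linear_combination (x (0, 0) * x (1, 1) - x (0, 1) * x (1, 0)) * h2
    exact ⟨f, ⟨hbil, fun v w => (hsym v w).trans (hneg _), halt, hnd⟩, hsim⟩
  · right
    refine ⟨odd_card_iff_two_ne_zero.mpr h2, fun v => f v v, ?_, fun g hg => ?_⟩
    · have hp : QuadraticMap.polar (fun v => f v v) = fun u v => 2 * f u v := by
        funext u v
        simp only [QuadraticMap.polar, f, hbil.add_left, hbil.add_right, hsym v u]
        simp only [f] at hsym
        ring
      refine ⟨fun a v => by simp only [f, hbil.smul_left, hbil.smul_right]; ring, ?_, ?_⟩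
      · rw [hp]
        refine ⟨fun x y v => ?_, fun a x v => ?_, fun v x y => ?_, fun a v x => ?_⟩ <;>
          simp only [f, hbil.add_left, hbil.smul_left, hbil.add_right, hbil.smul_right] <;> ring
      · rw [hp]
        intro v hv
        obtain ⟨⟨x, hx⟩, y, hy⟩ := hnd v hv
        exact ⟨⟨x, mul_ne_zero h2 hx⟩, y, mul_ne_zero h2 hy⟩
    · obtain ⟨a, ha⟩ := hsim hg
      exact ⟨a, fun v => ha v v⟩

end CfsgLib.Aschbacher
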