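import Cfsg.Agent.Aschbacher.Subfield
import Cfsg.Agent.Aschbacher.LinearMember

/-!
The normaliser of a cubic field over four elements, of determinant one, lies in a subfield group.
-/
set_option autoImplicit false
set_option maxHeartbeats 1000000

namespace CfsgLib.Aschbacher

open Matrix Cfsg.Geo
open scoped MatrixGroups

/-- A cubic companion matrix: if `D ^ 3 v = l v` and `v`, `D v`, `D ^ 2 v` are independent then `det D = l`. -/
lemma det_of_cube_eq {F : Type*} [Field F] (D : Matrix (Fin 3) (Fin 3) F) (v : Fin 3 → F) (l : F)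
    (h3 : D ^ 3 *ᵥ v = l • v) (hu : IsUnit (Matrix.of fun r (i : Fin 3) => (D ^ (i : ℕ) *ᵥ v) r)) : D.det = l := by
  set Q := Matrix.of fun r (i : Fin 3) => (D ^ (i : ℕ) *ᵥ v) r with hQ
  have hmul : D * Q = Q * !![0, 0, l; 1, 0, 0; 0, 1, 0] := by
    refine Matrix.ext_of_mulVec_single fun i => ?_
    have hc : ∀ j : Fin 3, Q *ᵥ Pi.single j 1 = D ^ (j : ℕ) *ᵥ v := fun j => by
      rw [mulVec_single_one]; rfl
    have hs : ∀ a : Fin 3 → F, Q *ᵥ a = a 0 • v + a 1 • (D *ᵥ v) + a 2 • (D ^ 2 *ᵥ v) := fun a => by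
      ext r
      rw [show (Q *ᵥ a) r = ∑ j, Q r j * a j from rfl, Fin.sum_univ_three]
      show (D ^ 0 *ᵥ v) r * a 0 + (D ^ 1 *ᵥ v) r * a 1 + (D ^ 2 *ᵥ v) r * a 2 = _
      rw [pow_zero, one_mulVec, pow_one]
      simp only [Pi.add_apply, Pi.smul_apply, smul_eq_mul]
      ring
    rw [← mulVec_mulVec, ← mulVec_mulVec, hc, hs, mulVec_mulVec, ← pow_succ']
    fin_cases i <;> simp [h3]
  have h2 := congrArg Matrix.det hmul
  rw [det_mul, det_mul, mul_comm Q.det] at h2
  rw [mul_right_cancel₀ ((Matrix.isUnit_iff_isUnit_det _).mp hu).ne_zero h2, Matrix.det_fin_three]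
  simp

/-- In dimension three over four elements the determinant-one normaliser of a cubic field lies in a subfield group. -/
theorem cubicField_four {F : Type*} [Field F] [Fintype F] (hq : Fintype.card F = 4)
    {K : Subalgebra F (Matrix (Fin 3) (Fin 3) F)} (hK : IsFieldSubalgebra 3 K) :
    ∃ (F₀ : Subfield F) (P : GL (Fin 3) F), Fintype.card F = Nat.card F₀ ^ 2 ∧
      subalgebraNormalizer K ⊓ specialLinear (Fin 3) F ≤ subfieldSubgroup F₀ P := by
  classical
  have hfield : IsField K :=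
    { exists_pair_ne := ⟨0, 1, fun h => by
        have h' := congrArg Subtype.val h
        simp at h'⟩
      mul_comm := fun a b => Subtype.ext (hK.comm a.1 a.2 b.1 b.2)
      mul_inv_cancel := fun {a} ha => by
        obtain ⟨y, hy, hy1⟩ := hK.inv a.1 a.2 (fun h => ha (Subtype.ext h))
        exact ⟨⟨y, hy⟩, Subtype.ext hy1⟩ }
  letI : Field K := hfield.toField
  letI : Fintype K := Fintype.ofFinite K
  have hcard : Fintype.card K = 2 ^ 6 := by
    rw [Module.card_eq_pow_finrank (K := F) (V := K), hq, hK.finrank_eq]; norm_num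
  have : Fact (Nat.Prime 2) := ⟨Nat.prime_two⟩
  have : CharP K 2 := charP_of_card_eq_prime_pow hcard
  -- the elements fixed by `x ↦ x ^ 4` are scalars
  have hfix : ∀ x : K, x ^ 4 = x → x ∈ Set.range (algebraMap F K) := by
    intro x hx
    obtain ⟨S, hS, hmem⟩ := exists_subfield_card Nat.prime_two hcard (m := 2) (by norm_num) (by norm_num)
    let j : F → S := fun c => ⟨algebraMap F K c, hmem _ (by
      rw [show (2 : ℕ) ^ 2 = 4 from rfl, ← map_pow, ← hq, FiniteField.pow_card])⟩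
    have hj : Function.Bijective j := by
      rw [Nat.bijective_iff_injective_and_card]
      refine ⟨fun a b h => (algebraMap F K).injective (congrArg Subtype.val h), ?_⟩
      rw [Nat.card_eq_fintype_card (α := F), hq, hS]; rfl
    obtain ⟨c, hc⟩ := hj.2 ⟨x, hmem x hx⟩
    exact ⟨c, congrArg Subtype.val hc⟩
  -- powers of a non-scalar element are independent
  have hind : ∀ x : K, x ∉ Set.range (algebraMap F K) → LinearIndependent F (fun i : Fin 3 => x ^ (i : ℕ)) := by
    intro x hx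
    have hint : IsIntegral F x := IsIntegral.of_finite F x
    have hd := minpoly.degree_dvd (K := F) hint
    rw [hK.finrank_eq] at hd
    have h1 : (minpoly F x).natDegree ≠ 1 := fun h => hx (minpoly.natDegree_eq_one_iff.mp h)
    have h3 : (minpoly F x).natDegree = 3 := ((Nat.dvd_prime Nat.prime_three).mp hd).resolve_left h1
    have h := linearIndependent_pow (K := F) x
    rw [h3] at h
    exact h
  -- the vector spanning the space over the field
  let v : Fin 3 → F := Pi.single 0 1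
  let μ : K →ₗ[F] (Fin 3 → F) :=
    { toFun := fun x => (x.1 : Matrix (Fin 3) (Fin 3) F) *ᵥ v
      map_add' := fun x y => add_mulVec _ _ _
      map_smul' := fun c x => smul_mulVec _ _ _ }
  have hμ : Function.Injective μ := by
    rw [injective_iff_map_eq_zero]
    intro x hx
    by_contra h0
    obtain ⟨y, hy, hy1⟩ := hK.inv x.1 x.2 (fun h => h0 (Subtype.ext h))
    have : v = 0 := by
      rw [← one_mulVec v, ← hy1, hK.comm x.1 x.2 y hy, ← mulVec_mulVec,
        show (x.1 : Matrix (Fin 3) (Fin 3) F) *ᵥ v = 0 from hx, mulVec_zero]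
    exact one_ne_zero (α := F) (by simpa [v] using congrFun this 0)
  have hμs : Function.Surjective μ :=
    (LinearMap.injective_iff_surjective_of_finrank_eq_finrank (by
      rw [hK.finrank_eq, Module.finrank_fintype_fun_eq_card, Fintype.card_fin])).mp hμ
  let Q : K → Matrix (Fin 3) (Fin 3) F := fun x => Matrix.of fun r i => μ (x ^ (i : ℕ)) r
  have hQ : ∀ x : K, x ∉ Set.range (algebraMap F K) → IsUnit (Q x) := fun x hx =>
    linearIndependent_cols_iff_isUnit.mp ((hind x hx).map' μ (LinearMap.ker_eq_bot.mpr hμ))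
  have hQv : ∀ (x : K) (a : Fin 3 → F), Q x *ᵥ a = μ (∑ i, a i • x ^ (i : ℕ)) := fun x a => by
    ext r
    simp only [map_sum, map_smul, Finset.sum_apply, Pi.smul_apply, smul_eq_mul]
    show ∑ i : Fin 3, μ (x ^ (i : ℕ)) r * a i = _
    exact Finset.sum_congr rfl fun (i : Fin 3) _ => mul_comm ((μ (x ^ (i : ℕ))) r) (a i)
  have hsum : ∀ (x : K) (i : Fin 3), ∑ j, (Pi.single i 1 : Fin 3 → F) j • x ^ (j : ℕ) = x ^ (i : ℕ) := fun x i => by
    rw [Finset.sum_eq_single i (fun b _ hb => by rw [Pi.single_eq_of_ne hb, zero_smul])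
      (fun h => absurd (Finset.mem_univ i) h), Pi.single_eq_same, one_smul]
  have hcol : ∀ (x : K) (i : Fin 3), Q x *ᵥ Pi.single i 1 = μ (x ^ (i : ℕ)) := fun x i => by
    rw [hQv, hsum]
  have hμmul : ∀ x y : K, μ (x * y) = (x.1 : Matrix (Fin 3) (Fin 3) F) *ᵥ μ y := fun x y => by
    show ((x * y : K).1 : Matrix (Fin 3) (Fin 3) F) *ᵥ v = _
    rw [show ((x * y : K).1 : Matrix (Fin 3) (Fin 3) F) = x.1 * y.1 from rfl, ← mulVec_mulVec]
    rfl
  -- the field with eight elements
  obtain ⟨S, hS, hmem⟩ := exists_subfield_card Nat.prime_two hcard (m := 3) (by norm_num) (by norm_num)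
  have hS8 : ∀ x ∈ S, x ^ 8 = x := fun x hx => by
    letI : Fintype S := Fintype.ofFinite S
    have h := FiniteField.pow_card (⟨x, hx⟩ : S)
    rw [← Nat.card_eq_fintype_card, hS] at h
    exact congrArg Subtype.val h
  obtain ⟨k, hkS, hk0, hk1⟩ : ∃ k ∈ S, k ≠ 0 ∧ k ≠ 1 := by
    by_contra hcon
    push Not at hcon
    have hsub : (S : Set K) ⊆ {0, 1} := fun x hx => by
      by_cases h : x = 0
      · exact Or.inl h
      · exact Or.inr (hcon x hx h)
    have h1 := (Set.ncard_le_ncard hsub (Set.toFinite _)).trans (Set.ncard_insert_le _ _)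
    rw [Set.ncard_singleton, ← Nat.card_coe_set_eq] at h1
    change Nat.card S ≤ 2 at h1
    omega
  have hk : k ∉ Set.range (algebraMap F K) := by
    rintro ⟨c, rfl⟩
    have h8 := hS8 _ hkS
    have h4 : (algebraMap F K c) ^ 4 = algebraMap F K c := by rw [← map_pow, ← hq, FiniteField.pow_card]
    have h2 : (algebraMap F K c) * (algebraMap F K c - 1) = 0 := by linear_combination h8 - ((algebraMap F K c) ^ 4 + algebraMap F K c) * h4
    rcases mul_eq_zero.mp h2 with h | h
    · exact hk0 h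
    · exact hk1 (sub_eq_zero.mp h)
  -- the field with two elements
  obtain ⟨F₀, hF0, -⟩ := exists_subfield_card (F := F) Nat.prime_two (f := 2) (m := 1) (by rw [hq]; rfl) (by norm_num)
    (by norm_num)
  have h01 : ∀ a ∈ F₀, a = 0 ∨ a = 1 := by
    intro a ha
    by_contra h
    push Not at h
    have h3 : ({0, 1, a} : Set F).ncard = 3 := by
      rw [Set.ncard_insert_of_notMem (by simp [Ne.symm h.1]), Set.ncard_pair (Ne.symm h.2)]
    have := Set.ncard_le_ncard (t := (F₀ : Set F))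
      (Set.insert_subset F₀.zero_mem (Set.insert_subset F₀.one_mem (Set.singleton_subset_iff.mpr ha))) (Set.toFinite _)
    rw [h3, ← Nat.card_coe_set_eq] at this
    change 3 ≤ Nat.card F₀ at this
    omega
  have hcoord : ∀ y ∈ S, ∃ a : Fin 3 → F, (∀ i, a i ∈ F₀) ∧ y = ∑ i, a i • k ^ (i : ℕ) := by
    let ψ : (Fin 3 → F₀) → S := fun a => ⟨∑ i, (a i : F) • k ^ (i : ℕ), S.sum_mem fun i _ => by
      rcases h01 _ (a i).2 with h | h <;> rw [h]
      · rw [zero_smul]; exact S.zero_mem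
      · rw [one_smul]; exact pow_mem hkS _⟩
    have hψ : Function.Bijective ψ := by
      rw [Nat.bijective_iff_injective_and_card]
      refine ⟨fun a b h => ?_, ?_⟩
      · funext i
        refine Subtype.ext (sub_eq_zero.mp (Fintype.linearIndependent_iff.mp (hind k hk)
          (fun i => (a i : F) - (b i : F)) ?_ i))
        rw [Finset.sum_congr rfl fun i _ => sub_smul (a i : F) (b i : F) (k ^ (i : ℕ)), Finset.sum_sub_distrib]
        exact sub_eq_zero.mpr (congrArg Subtype.val h)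
      · rw [Nat.card_pi, Finset.prod_const, hF0, hS]; rfl
    intro y hy
    obtain ⟨a, ha⟩ := hψ.2 ⟨y, hy⟩
    exact ⟨fun i => (a i : F), fun i => (a i).2, (congrArg Subtype.val ha).symm⟩
  let P : GL (Fin 3) F := (hQ k hk).unit
  have hP : (P : Matrix (Fin 3) (Fin 3) F) = Q k := IsUnit.unit_spec _
  refine ⟨F₀, P, by rw [hF0, hq]; rfl, ?_⟩
  rintro g ⟨hg, hdet⟩
  -- the conjugation
  let φ : K → K := fun x => ⟨_, (hg x.1).mp x.2⟩
  have hφ : ∀ x y, φ (x * y) = φ x * φ y := fun x y => Subtype.ext (by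
    show (g : Matrix (Fin 3) (Fin 3) F) * (x.1 * y.1) * ((g⁻¹ : GL (Fin 3) F) : Matrix (Fin 3) (Fin 3) F) =
      (g : Matrix (Fin 3) (Fin 3) F) * x.1 * ((g⁻¹ : GL (Fin 3) F) : Matrix (Fin 3) (Fin 3) F) *
        ((g : Matrix (Fin 3) (Fin 3) F) * y.1 * ((g⁻¹ : GL (Fin 3) F) : Matrix (Fin 3) (Fin 3) F))
    simp [mul_assoc])
  have hφ1 : φ 1 = 1 := Subtype.ext (by
    show (g : Matrix (Fin 3) (Fin 3) F) * 1 * _ = 1
    rw [mul_one, Units.mul_inv])
  have hφp : ∀ (x : K) (m : ℕ), φ (x ^ m) = φ x ^ m := fun x m => by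
    induction m with
    | zero => simpa using hφ1
    | succ m ih => rw [pow_succ, hφ, ih, pow_succ]
  have hφk : φ k ∈ S := hmem _ (by rw [← hφp, show (2:ℕ) ^ 3 = 8 from rfl, hS8 k hkS])
  obtain ⟨c, hc⟩ := hμs ((g : Matrix (Fin 3) (Fin 3) F) *ᵥ v)
  have hgx : ∀ x : K, (g : Matrix (Fin 3) (Fin 3) F) *ᵥ μ x = (c.1 : Matrix (Fin 3) (Fin 3) F) *ᵥ μ (φ x) := fun x => by
    rw [← hμmul, mul_comm c, hμmul, hc]
    show _ = ((g : Matrix (Fin 3) (Fin 3) F) * x.1 * ((g⁻¹ : GL (Fin 3) F) : Matrix (Fin 3) (Fin 3) F)) *ᵥ _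
    rw [mulVec_mulVec, mul_assoc ((g : Matrix (Fin 3) (Fin 3) F) * x.1), Units.inv_mul, mul_one, ← mulVec_mulVec]
    rfl
  choose Y hY hYk using fun i : Fin 3 => hcoord (φ k ^ (i : ℕ)) (pow_mem hφk _)
  let Y1 : Matrix (Fin 3) (Fin 3) F := Matrix.of fun r i => Y i r
  have hgP : (g : Matrix (Fin 3) (Fin 3) F) * P = c.1 * ((P : Matrix (Fin 3) (Fin 3) F) * Y1) := by
    refine Matrix.ext_of_mulVec_single fun i => ?_
    simp only [← mulVec_mulVec, hP]
    rw [show Y1 *ᵥ Pi.single i 1 = Y i from by ext r; simp [Y1], hQv k (Y i), ← hYk i, ← hφp, ← hgx]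
    congr 1
    exact hcol k i
  have hY1det : Y1.det = 1 := by
    have hin : Y1.det ∈ F₀ := by
      rw [Matrix.det_apply']
      exact F₀.sum_mem fun σ _ => F₀.mul_mem (intCast_mem F₀ _) (F₀.prod_mem fun i _ => hY i (σ i))
    refine (h01 _ hin).resolve_left fun h => ?_
    have h1 := congrArg Matrix.det hgP
    rw [det_mul, det_mul, det_mul, h, mul_zero, mul_zero, CfsgLib.Geo.mem_specialLinear.mp hdet, one_mul] at h1
    exact ((Matrix.isUnit_iff_isUnit_det _).mp P.isUnit).ne_zero h1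
  have hcdet : (c.1 : Matrix (Fin 3) (Fin 3) F).det = 1 := by
    have h1 := congrArg Matrix.det hgP
    rw [det_mul, det_mul, det_mul, hY1det, mul_one, CfsgLib.Geo.mem_specialLinear.mp hdet] at h1
    exact (mul_right_cancel₀ ((Matrix.isUnit_iff_isUnit_det _).mp P.isUnit).ne_zero h1).symm
  have hc0 : c ≠ 0 := by
    rintro rfl
    simp [show ((0 : K).1 : Matrix (Fin 3) (Fin 3) F) = 0 from rfl] at hcdet
  have h63 : c ^ 63 = 1 := by
    have := FiniteField.pow_card_sub_one_eq_one c hc0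
    rwa [hcard] at this
  have hpow : ∀ (x : K) (m : ℕ), ((x ^ m : K).1 : Matrix (Fin 3) (Fin 3) F) = x.1 ^ m := fun x m => by
    induction m with
    | zero => rw [pow_zero, pow_zero]; rfl
    | succ m ih => rw [pow_succ, pow_succ, ← ih]; rfl
  have h21 : c ^ 21 = 1 := by
    set d := c ^ 7 with hd
    obtain ⟨l, hl⟩ := hfix (c ^ 21) (by
      rw [show (c ^ 21) ^ 4 = c ^ 63 * c ^ 21 by ring, h63, one_mul])
    have hd3 : d ^ 3 = algebraMap F K l := by rw [hl, hd, ← pow_mul]
    have hddet : (d.1 : Matrix (Fin 3) (Fin 3) F).det = 1 := by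
      rw [hd, hpow c 7, det_pow, hcdet, one_pow]
    suffices h : l = 1 by rw [← hl, h, map_one]
    by_cases hdr : d ∈ Set.range (algebraMap F K)
    · obtain ⟨e, he⟩ := hdr
      rw [← he, ← map_pow] at hd3
      rw [← (algebraMap F K).injective hd3]
      have he0 : e ≠ 0 := fun h0 => pow_ne_zero 7 hc0 (by rw [← hd, ← he, h0, map_zero])
      have := FiniteField.pow_card_sub_one_eq_one e he0
      rwa [hq] at this
    · have hu : IsUnit (Matrix.of fun r (i : Fin 3) => ((d.1 : Matrix (Fin 3) (Fin 3) F) ^ (i : ℕ) *ᵥ v) r) := by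
        have hQd := hQ d hdr
        rwa [show Q d = Matrix.of fun r (i : Fin 3) => ((d.1 : Matrix (Fin 3) (Fin 3) F) ^ (i : ℕ) *ᵥ v) r from
          Matrix.ext fun r i => by
            show ((d ^ (i : ℕ) : K).1 *ᵥ v) r = _
            rw [hpow]
            rfl] at hQd
      rw [← det_of_cube_eq _ v l ?_ hu, hddet]
      rw [← hpow, hd3, Algebra.algebraMap_eq_smul_one]
      exact (map_smul μ l 1).trans (by rw [show μ 1 = v from one_mulVec v])
  -- split `c`
  obtain ⟨e, he⟩ := hfix (c ^ 7) (by rw [show (c ^ 7) ^ 4 = c ^ 21 * c ^ 7 by ring, h21, one_mul])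
  obtain ⟨y, hyS, hcy⟩ : ∃ y ∈ S, c = e • y := by
    refine ⟨c ^ 15, hmem _ ?_, ?_⟩
    · rw [show (c ^ 15) ^ 2 ^ 3 = (c ^ 21) ^ 5 * c ^ 15 by ring, h21, one_pow, one_mul]
    · rw [Algebra.smul_def, he, ← pow_add, show 7 + 15 = 21 + 1 by rfl, pow_succ, h21, one_mul]
  choose Z hZ hZk using fun i : Fin 3 => hcoord (y * k ^ (i : ℕ)) (S.mul_mem hyS (pow_mem hkS _))
  let Z1 : Matrix (Fin 3) (Fin 3) F := Matrix.of fun r i => Z i r
  have hyP : (c.1 : Matrix (Fin 3) (Fin 3) F) * P = e • ((P : Matrix (Fin 3) (Fin 3) F) * Z1) := by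
    refine Matrix.ext_of_mulVec_single fun i => ?_
    simp only [smul_mulVec, ← mulVec_mulVec, hP]
    rw [show Z1 *ᵥ Pi.single i 1 = Z i from by ext r; simp [Z1], hQv k (Z i), ← hZk i, ← map_smul,
      ← smul_mul_assoc, ← hcy, hμmul]
    congr 1
    exact hcol k i
  have he0 : e ≠ 0 := fun h0 => pow_ne_zero 7 hc0 (by rw [← he, h0, map_zero])
  -- the matrix over the subfield
  let W : Matrix (Fin 3) (Fin 3) F := Z1 * Y1
  have hW : ∀ i j, W i j ∈ F₀ := fun i j => by
    show ∑ l, Z l i * Y j l ∈ F₀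
    exact F₀.sum_mem fun l _ => F₀.mul_mem (hZ l i) (hY j l)
  have hgW : (g : Matrix (Fin 3) (Fin 3) F) * P = e • ((P : Matrix (Fin 3) (Fin 3) F) * W) := by
    rw [hgP, ← mul_assoc, hyP, smul_mul_assoc, mul_assoc]
  let W0 : Matrix (Fin 3) (Fin 3) F₀ := fun i j => ⟨W i j, hW i j⟩
  have hdet0 : W0.det ≠ 0 := by
    intro h0
    have h1 : W.det = 0 := by
      rw [show W = F₀.subtype.mapMatrix W0 from rfl, ← RingHom.map_det, h0, map_zero]
    have h2 := congrArg Matrix.det hgW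
    rw [det_mul, det_smul, det_mul, h1, mul_zero, mul_zero, CfsgLib.Geo.mem_specialLinear.mp hdet, one_mul] at h2
    exact ((Matrix.isUnit_iff_isUnit_det _).mp P.isUnit).ne_zero h2
  let sc : GL (Fin 3) F := Units.map (Matrix.scalar (Fin 3) : F →+* Matrix (Fin 3) (Fin 3) F).toMonoidHom (Units.mk0 e he0)
  refine ⟨P⁻¹ * g * P, ?_, by simp [mul_assoc]⟩
  have hXeq : P⁻¹ * g * P = Matrix.GeneralLinearGroup.map (F₀.subtype : F₀ →+* F)
      (Matrix.GeneralLinearGroup.mkOfDetNeZero W0 hdet0) * sc := by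
    refine Units.ext ?_
    show ((P⁻¹ : GL (Fin 3) F) : Matrix (Fin 3) (Fin 3) F) * g * P = W * Matrix.scalar (Fin 3) e
    rw [mul_assoc, hgW, mul_smul_comm, ← mul_assoc, Units.inv_mul, one_mul, Matrix.scalar_apply,
      ← Matrix.smul_one_eq_diagonal, mul_smul_comm, mul_one]
  rw [SetLike.mem_coe, hXeq]
  exact Subgroup.mul_mem_sup ⟨_, rfl⟩ ⟨_, rfl⟩

end CfsgLib.Aschbacher
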