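import Cfsg.Agent.Aschbacher.LinearMember

/-!
Four lines over five elements: the monomial group is not maximal.
-/
set_option autoImplicit false

namespace CfsgLib.Aschbacher

open Matrix Cfsg.Geo
open scoped MatrixGroups

/-- Two zero coordinates, or product of square one. -/
def fiveOK {R : Type*} [CommRing R] (x : Fin 4 → R) : Prop :=
  (∃ i j, i ≠ j ∧ x i = 0 ∧ x j = 0) ∨ (x 0 * x 1 * x 2 * x 3) ^ 2 = 1

instance {R : Type*} [CommRing R] [DecidableEq R] (x : Fin 4 → R) : Decidable (fiveOK x) := by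
  unfold fiveOK; infer_instance

/-- The matrix `h ⊕ 2h`. -/
def fiveMatrix : Matrix (Fin 4) (Fin 4) (ZMod 5) :=
  !![1, 1, 0, 0; 1, -1, 0, 0; 0, 0, 2, 2; 0, 0, 2, -2]

lemma fiveOK_iff_fiveMatrix : ∀ a b c d : ZMod 5,
    fiveOK ![a, b, c, d] ↔ fiveOK (fiveMatrix *ᵥ ![a, b, c, d]) := by
  decide +kernel

lemma fiveMatrix_det : fiveMatrix.det = 1 := by decide +kernel

/-- The decomposition stabilizer of four lines over five elements is not maximal. -/
theorem not_maximal_lines_five {F : Type*} [Field F] [Fintype F] (hq : Fintype.card F = 5)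
    {D : Fin 4 → Submodule F (Fin 4 → F)} (hD : IsMDecomposition 1 D)
    {H : Subgroup (GL (Fin 4) F)} (h : H = decompositionStabilizer D ⊓ specialLinear (Fin 4) F) :
    ¬ IsMaximalIn (specialLinear (Fin 4) F) H := by
  classical
  intro hH
  have : Fact (Nat.Prime 5) := ⟨by norm_num⟩
  let φ : ZMod 5 ≃+* F := ZMod.ringEquivOfPrime F (by norm_num) hq
  obtain ⟨b, hb, hbD⟩ : ∃ b : Fin 4 → (Fin 4 → F), LinearIndependent F b ∧ ∀ i, D i = Submodule.span F {b i} := by
    have hex : ∀ i, ∃ v, v ≠ 0 ∧ D i = Submodule.span F {v} := fun i => by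
      obtain ⟨v, hv, hv0⟩ := (D i).ne_bot_iff.mp (by
        intro h
        have := hD.finrank_eq i
        rw [h, finrank_bot] at this
        omega)
      exact ⟨v, hv0, (Submodule.eq_of_le_of_finrank_eq (Submodule.span_le.mpr (Set.singleton_subset_iff.mpr hv))
        (by rw [finrank_span_singleton hv0, hD.finrank_eq i])).symm⟩
    choose b hb hbD using hex
    exact ⟨b, hD.indep.linearIndependent D (fun i => by rw [hbD i]; exact Submodule.mem_span_singleton_self _) hb, hbD⟩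
  let P : GL (Fin 4) F := IsUnit.unit (a := Matrix.of fun r i => b i r) (linearIndependent_cols_iff_isUnit.mp hb)
  have hP : ∀ i, (P : Matrix (Fin 4) (Fin 4) F) *ᵥ Pi.single i 1 = b i := fun i => by
    ext r
    simp [P]
  let Ω : Set (Fin 4 → F) := {v | fiveOK (((P⁻¹ : GL (Fin 4) F) : Matrix (Fin 4) (Fin 4) F) *ᵥ v)}
  let K := Cfsg.stabilizing (Cfsg.glToMat (Fin 4) F) Ω
  have hinv : ∀ x : Fin 4 → F, ((P⁻¹ : GL (Fin 4) F) : Matrix (Fin 4) (Fin 4) F) *ᵥ ((P : Matrix (Fin 4) (Fin 4) F) *ᵥ x) = x :=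
    fun x => by rw [mulVec_mulVec, ← Units.val_mul, inv_mul_cancel, Units.val_one, one_mulVec]
  -- monomial matrices with determinant one preserve the set
  have hHK : H ≤ K := by
    intro g hg
    rw [h] at hg
    obtain ⟨⟨σ, hσ⟩, hdet⟩ := hg
    have hex : ∀ i, ∃ a : F, (g : Matrix (Fin 4) (Fin 4) F) *ᵥ b i = a • b (σ i) := fun i => by
      have hmem : (g : Matrix (Fin 4) (Fin 4) F) *ᵥ b i ∈ D (σ i) := by
        rw [← hσ i, Submodule.mem_map]
        exact ⟨b i, hbD i ▸ Submodule.mem_span_singleton_self _, by simp⟩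
      rw [hbD] at hmem
      obtain ⟨a, ha⟩ := Submodule.mem_span_singleton.mp hmem
      exact ⟨a, ha.symm⟩
    choose a ha using hex
    let N : Matrix (Fin 4) (Fin 4) F := (Matrix.diagonal a).submatrix σ.symm id
    have hN : (g : Matrix (Fin 4) (Fin 4) F) * P = P * N := by
      refine Matrix.ext_of_mulVec_single fun i => ?_
      rw [← mulVec_mulVec, hP, ha, ← mulVec_mulVec, ← hP, ← mulVec_smul]
      congr 1
      ext r
      simp [N, Matrix.diagonal_apply, Pi.single_apply, Equiv.symm_apply_eq]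
      split_ifs with e
      · subst e; simp
      · rfl
    have hprod : (∏ i, a i) ^ 2 = 1 := by
      have h1 := congrArg Matrix.det hN
      rw [det_mul, det_mul, mul_comm] at h1
      have h2 : (g : Matrix (Fin 4) (Fin 4) F).det = N.det := mul_left_cancel₀
        ((Matrix.isUnit_iff_isUnit_det _).mp P.isUnit).ne_zero h1
      rw [CfsgLib.Geo.mem_specialLinear.mp hdet, Matrix.det_permute, Matrix.det_diagonal] at h2
      rcases Int.units_eq_one_or (Equiv.Perm.sign σ.symm) with hs | hs <;> rw [hs] at h2 <;> simp at h2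
      · rw [← h2, one_pow]
      · linear_combination ((∏ i, a i) - 1) * h2
    have ha0 : ∀ i, a i ≠ 0 := fun i h0 => by
      rw [Finset.prod_eq_zero (Finset.mem_univ i) h0] at hprod
      simp at hprod
    intro v
    show fiveOK _ ↔ fiveOK _
    set x := ((P⁻¹ : GL (Fin 4) F) : Matrix (Fin 4) (Fin 4) F) *ᵥ v with hx
    have hv : (P : Matrix (Fin 4) (Fin 4) F) *ᵥ x = v := by
      rw [hx, mulVec_mulVec, ← Units.val_mul, mul_inv_cancel, Units.val_one, one_mulVec]
    have hy : ((P⁻¹ : GL (Fin 4) F) : Matrix (Fin 4) (Fin 4) F) *ᵥ (Cfsg.glToMat (Fin 4) F g *ᵥ v) = N *ᵥ x := by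
      rw [← hv, Units.coeHom_apply, mulVec_mulVec (M := (g : Matrix (Fin 4) (Fin 4) F)), hN, ← mulVec_mulVec, hinv]
    rw [hy]
    have hNx : ∀ i, (N *ᵥ x) (σ i) = a i * x i := fun i => by
      simp [N, Matrix.mulVec, dotProduct, Matrix.diagonal_apply]
    have hp : ∀ z : Fin 4 → F, z 0 * z 1 * z 2 * z 3 = ∏ i, z i := fun z => by simp [Fin.prod_univ_four]
    unfold fiveOK
    rw [hp, hp, ← Equiv.prod_comp σ (N *ᵥ x)]
    simp only [hNx, Finset.prod_mul_distrib, mul_pow, hprod, one_mul]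
    refine or_congr ⟨fun ⟨i, j, hij, hi, hj⟩ => ⟨σ i, σ j, σ.injective.ne hij, by simp [hNx, hi], by simp [hNx, hj]⟩, ?_⟩ Iff.rfl
    rintro ⟨i, j, hij, hi, hj⟩
    obtain ⟨i, rfl⟩ := σ.surjective i
    obtain ⟨j, rfl⟩ := σ.surjective j
    rw [hNx] at hi hj
    exact ⟨i, j, fun e => hij (by rw [e]), (mul_eq_zero.mp hi).resolve_left (ha0 i), (mul_eq_zero.mp hj).resolve_left (ha0 j)⟩
  rcases hH.2 (K ⊓ specialLinear (Fin 4) F) (le_inf hHK hH.1.le) inf_le_right with hK | hK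
  · -- an element outside `H`
    let M : Matrix (Fin 4) (Fin 4) F := fiveMatrix.map φ
    have hM1 : M.det = 1 := by
      show ((fiveMatrix).map φ.toRingHom).det = 1
      rw [← RingHom.mapMatrix_apply, ← RingHom.map_det, fiveMatrix_det, map_one]
    let m : GL (Fin 4) F := GeneralLinearGroup.mkOfDetNeZero M (by rw [hM1]; exact one_ne_zero)
    have hgS : P * m * P⁻¹ ∈ specialLinear (Fin 4) F :=
      (MonoidHom.normal_ker _).conj_mem m (CfsgLib.Geo.mem_specialLinear.mpr hM1) P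
    have hgK : P * m * P⁻¹ ∈ K := by
      intro v
      show fiveOK _ ↔ fiveOK _
      rw [Units.coeHom_apply, Units.val_mul, Units.val_mul, ← mulVec_mulVec, ← mulVec_mulVec, hinv]
      obtain ⟨x, hx⟩ : ∃ x : Fin 4 → ZMod 5, φ ∘ x = ((P⁻¹ : GL (Fin 4) F) : Matrix (Fin 4) (Fin 4) F) *ᵥ v :=
        ⟨fun i => φ.symm ((((P⁻¹ : GL (Fin 4) F) : Matrix (Fin 4) (Fin 4) F) *ᵥ v) i), by ext i; simp⟩
      have hnat : ∀ z : Fin 4 → ZMod 5, fiveOK (φ ∘ z) ↔ fiveOK z := fun z => by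
        simp only [fiveOK, Function.comp_apply, ← map_mul, ← map_pow, map_eq_zero_iff φ φ.injective,
          map_eq_one_iff φ φ.injective]
      have hmul : M *ᵥ (φ ∘ x) = φ ∘ (fiveMatrix *ᵥ x) := by
        ext i
        exact (RingHom.map_mulVec φ.toRingHom fiveMatrix x i).symm
      show _ ↔ fiveOK (M *ᵥ _)
      rw [← hx, hmul, hnat, hnat]
      have := fiveOK_iff_fiveMatrix (x 0) (x 1) (x 2) (x 3)
      rwa [show ![x 0, x 1, x 2, x 3] = x from by ext i; fin_cases i <;> rfl] at this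
    have hgH : P * m * P⁻¹ ∈ decompositionStabilizer D := by
      have : P * m * P⁻¹ ∈ H := hK ▸ ⟨hgK, hgS⟩
      exact (h ▸ this : P * m * P⁻¹ ∈ decompositionStabilizer D ⊓ _).1
    obtain ⟨σ, hσ⟩ := hgH
    have hmem : ((P * m * P⁻¹ : GL (Fin 4) F) : Matrix (Fin 4) (Fin 4) F) *ᵥ b 0 ∈ D (σ 0) := by
      rw [← hσ 0, Submodule.mem_map]
      exact ⟨b 0, hbD 0 ▸ Submodule.mem_span_singleton_self _, Matrix.toLin'_apply _ _⟩
    rw [hbD, ← hP, ← hP, Units.val_mul, Units.val_mul, ← mulVec_mulVec, ← mulVec_mulVec, hinv] at hmem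
    obtain ⟨c, hc⟩ := Submodule.mem_span_singleton.mp hmem
    rw [← mulVec_smul] at hc
    have hc' := mulVec_injective_iff_isUnit.mpr P.isUnit hc
    have e0 := congrFun hc' 0
    have e1 := congrFun hc' 1
    have hm : ∀ r, ((m : Matrix (Fin 4) (Fin 4) F) *ᵥ Pi.single 0 1) r = φ (fiveMatrix r 0) := fun r => by
      simp [m, M, GeneralLinearGroup.mkOfDetNeZero]
    rw [hm] at e0 e1
    generalize σ 0 = k at e0 e1
    fin_cases k <;> simp [fiveMatrix] at e0 e1
  · -- the special linear group moves the set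
    have hφa : ((P⁻¹ : GL (Fin 4) F) : Matrix (Fin 4) (Fin 4) F) 0 ⬝ᵥ ((P : Matrix (Fin 4) (Fin 4) F) *ᵥ Pi.single 2 1) = 0 := by
      show (((P⁻¹ : GL (Fin 4) F) : Matrix (Fin 4) (Fin 4) F) *ᵥ _) 0 = 0
      rw [hinv]; rfl
    have hT : CfsgLib.Geo.tvec _ _ hφa ∈ K ⊓ specialLinear (Fin 4) F := by
      rw [hK]; exact CfsgLib.Geo.tvec_mem_specialLinear _ _ hφa
    have h1 := hT.1 ((P : Matrix (Fin 4) (Fin 4) F) *ᵥ ![1, 1, 0, 0])
    rw [Units.coeHom_apply, CfsgLib.Geo.tvec_mulVec] at h1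
    change fiveOK _ ↔ fiveOK _ at h1
    rw [show ((P⁻¹ : GL (Fin 4) F) : Matrix (Fin 4) (Fin 4) F) 0 ⬝ᵥ ((P : Matrix (Fin 4) (Fin 4) F) *ᵥ ![1, 1, 0, 0]) = 1 from
      by show (((P⁻¹ : GL (Fin 4) F) : Matrix (Fin 4) (Fin 4) F) *ᵥ _) 0 = 1; rw [hinv]; rfl,
      one_smul, mulVec_add, hinv, hinv] at h1
    rcases h1.mp (Or.inl ⟨2, 3, by decide, rfl, rfl⟩) with ⟨i, j, hij, hi, hj⟩ | hp
    · fin_cases i <;> fin_cases j <;> simp at hij hi hj
    · simp at hp

end CfsgLib.Aschbacher
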