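import Cfsg.Agent.Aschbacher.General.ClassTwoCases
import Cfsg.Agent.Aschbacher.General.Component

/-!
Aschbacher's theorem for linear groups of every dimension at least three.
-/
set_option autoImplicit false

namespace CfsgLib.Aschbacher

open Matrix Cfsg.Geo CfsgLib.GeoClifford
open scoped MatrixGroups

variable {ι : Type} [Fintype ι] [DecidableEq ι] {F : Type*} [Field F] [Fintype F]

/-- A clean group has a minimal normal subgroup giving a form, a symplectic-type group, a subfield,
a tensor power, or the residual class. -/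
theorem clean_cases (hn : 3 ≤ Fintype.card ι) {H : Subgroup (GL ι F)} (hirr : ActsIrreducibly (matrixSet H))
    (hclean : Clean H) :
    HasSubfield H ∨ HasSymplecticType H ∨ HasWreath H ∨ HasBilinearForm H ∨ HasUnitary H ∨
      InLinearResidualClass H := by
  classical
  have : Nonempty ι := Fintype.card_pos_iff.mp (by omega)
  obtain ⟨N, hN, hNs, hmin⟩ := exists_minimal_normal (not_le_scalars_of_irreducible (by omega) hirr)
  by_cases hcl : ⁅N, N⁆ ≤ scalars ι F
  · rcases classTwo_cases hn hclean hN hNs hmin hcl with h | h | h | h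
    · exact Or.inr (Or.inr (Or.inr (Or.inl h)))
    · exact Or.inl h
    · exact Or.inr (Or.inr (Or.inr (Or.inr (Or.inl h))))
    · exact Or.inr (Or.inl h)
  rcases perfect_cases hn hclean hN hmin hcl with h | h | ⟨hperf, hsimp, hna, hcent, habs⟩
  · exact Or.inr (Or.inr (Or.inl h))
  · exact Or.inr (Or.inr (Or.inr (Or.inl h)))
  by_cases hre : ∃ F₀ : Subfield F, F₀ ≠ ⊤ ∧ RealisableOver F₀ (matrixSet N)
  · obtain ⟨F₀, h0, h1⟩ := hre
    exact Or.inl (exists_subfield_group habs hN h0 h1)
  right; right; right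
  by_cases hS : ∃ f, IsSymplecticForm f ∧ FixesForm (matrixSet N) f
  · obtain ⟨f, hf, hfix⟩ := hS
    exact Or.inl (Or.inl ⟨f, hf, le_similarityGroup (isSesq_of_bilinear hf.bilinear) hf.nondegenerate habs hN hfix⟩)
  by_cases hQ : ∃ Q : (ι → F) → F, IsNondegenerateQuadraticForm Q ∧ FixesQuadForm (matrixSet N) Q
  · obtain ⟨Q, hQ, hfix⟩ := hQ
    refine Or.inl (Or.inr ⟨odd_card_iff_two_ne_zero.mpr fun h2 => hS ?_, Q, hQ,
      le_quadSimilarityGroup (by omega) hQ habs hN hfix⟩)
    refine ⟨QuadraticMap.polar Q, ⟨hQ.polar_bilinear, fun v w => ?_, fun v => ?_, hQ.nondegenerate⟩, ?_⟩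
    · have : ∀ a : F, a = -a := fun a => eq_neg_of_add_eq_zero_left (by rw [← two_mul, h2, zero_mul])
      rw [← this]
      simp [QuadraticMap.polar, add_comm v w, sub_right_comm]
    · have : v + v = (2 : F) • v := (two_smul F v).symm
      rw [QuadraticMap.polar, this, hQ.smul, sub_sub, ← two_mul, h2]
      ring
    · intro s hs u v
      rw [QuadraticMap.polar, ← mulVec_add, hfix s hs, hfix s hs, hfix s hs]
      rfl
  by_cases hU : ∃ (σ : F ≃+* F) (f : (ι → F) → (ι → F) → F), IsUnitaryForm σ f ∧ FixesForm (matrixSet N) f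
  · obtain ⟨σ, f, hf, hfix⟩ := hU
    exact Or.inr (Or.inl ⟨σ, f, hf, le_similarityGroup (isSesq_of_unitary hf) hf.nondegenerate habs hN hfix⟩)
  exact Or.inr (Or.inr ⟨N, ⟨hN.1, fun h hh x hx => hN.2 h hh x hx, hperf, hsimp, hna, hcent, habs,
    fun F₀ h0 h1 => hre ⟨F₀, h0, h1⟩⟩, hQ, hS, hU⟩)

/-- Aschbacher's theorem. -/
theorem linear_structure (hn : 3 ≤ Fintype.card ι) (H : Subgroup (GL ι F)) :
    (∃ W : Submodule F (ι → F), W ≠ ⊥ ∧ W ≠ ⊤ ∧ H ≤ subspaceStabilizer W) ∨
    (∃ (t m : ℕ) (D : Fin t → Submodule F (ι → F)), IsMDecomposition m D ∧ H ≤ decompositionStabilizer D) ∨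
    HasField H ∨ HasTensor H ∨ HasSubfield H ∨ HasSymplecticType H ∨ HasWreath H ∨ HasBilinearForm H ∨
      HasUnitary H ∨ InLinearResidualClass H := by
  by_cases hirr : ActsIrreducibly (matrixSet H)
  swap
  · exact Or.inl (exists_subspace_of_not_irreducible hirr)
  right
  by_cases hprim : IsPrimitiveLin H
  swap
  · left
    unfold IsPrimitiveLin at hprim
    push Not at hprim
    obtain ⟨m, t, D, -, hD, hG⟩ := hprim
    exact ⟨t, m, D, hD, hG⟩
  right
  rcases clean_or_geometric hn hirr hprim with h | h | h | h | h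
  · exact Or.inl h
  · exact Or.inr (Or.inl h)
  · exact Or.inr (Or.inr (Or.inr (Or.inr (Or.inl h))))
  · exact Or.inr (Or.inr (Or.inr (Or.inr (Or.inr (Or.inl h)))))
  · exact Or.inr (Or.inr (clean_cases hn hirr h))

end CfsgLib.Aschbacher
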