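import Cfsg.Agent.Aschbacher.LinearMember
import Cfsg.Agent.Aschbacher.General.Structure

/-!
Members of the classes of general dimension do not contain the special linear group.
-/
set_option autoImplicit false

namespace CfsgLib.Aschbacher

open Matrix Cfsg.Geo CfsgLib.GeoClifford
open scoped MatrixGroups Kronecker commutatorElement

variable {ι : Type} [Fintype ι] [DecidableEq ι] {F : Type*} [Field F]

lemma specialLinear_not_le_decomposition {t m : ℕ} {D : Fin t → Submodule F (ι → F)} (hD : IsMDecomposition m D) :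
    ¬ specialLinear ι F ≤ decompositionStabilizer D := by
  intro hle
  let i : Fin t := ⟨0, by have := hD.two_le; omega⟩
  let j : Fin t := ⟨1, by have := hD.two_le; omega⟩
  have hij : i ≠ j := by simp [i, j]
  have hne : ∀ k, D k ≠ ⊥ := fun k h => by
    have := hD.finrank_eq k
    rw [h, finrank_bot] at this
    exact hD.pos.ne this
  obtain ⟨u, hu, hu0⟩ := (D i).ne_bot_iff.mp (hne i)
  obtain ⟨a, ha, ha0⟩ := (D j).ne_bot_iff.mp (hne j)
  have huj : u ∉ D j := fun h =>
    hu0 ((Submodule.mem_bot F).mp ((disjoint_iff.mp (hD.indep.pairwiseDisjoint hij)) ▸ ⟨hu, h⟩))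
  obtain ⟨φ, hφ, hφu⟩ := CfsgLib.Geo.exists_covector _ huj
  obtain ⟨σ, hσ⟩ := hle (CfsgLib.Geo.tvec_mem_specialLinear a φ (hφ a ha))
  have hk : u + a ∈ D (σ i) := by
    rw [← hσ i, Submodule.mem_map]
    exact ⟨u, hu, by rw [Matrix.toLin'_apply, CfsgLib.Geo.tvec_mulVec, hφu, one_smul]⟩
  by_cases hki : σ i = i
  · rw [hki] at hk
    have h1 : a ∈ D i := by simpa using (D i).sub_mem hk hu
    exact ha0 ((Submodule.mem_bot F).mp ((disjoint_iff.mp (hD.indep.pairwiseDisjoint hij)) ▸ ⟨h1, ha⟩))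
  by_cases hkj : σ i = j
  · rw [hkj] at hk
    exact huj (by simpa using (D j).sub_mem hk ha)
  · have h2 : u + a ∈ ⨆ (l) (_ : l ≠ σ i), D l :=
      Submodule.add_mem _ (Submodule.mem_iSup_of_mem i (Submodule.mem_iSup_of_mem (Ne.symm hki) hu))
        (Submodule.mem_iSup_of_mem j (Submodule.mem_iSup_of_mem (Ne.symm hkj) ha))
    have h3 : u + a = 0 := (Submodule.mem_bot F).mp ((disjoint_iff.mp (hD.indep (σ i))) ▸ ⟨hk, h2⟩)
    exact huj (by rw [eq_neg_of_add_eq_zero_left h3]; exact (D j).neg_mem ha)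

/-- The special linear group lies in the conjugate of a group only if it lies in the group. -/
lemma exists_of_specialLinear_le {κ : Type} [Fintype κ] [DecidableEq κ] (e : ι ≃ κ) (P : GL ι F)
    {K : Subgroup (GL κ F)}
    (h : specialLinear ι F ≤ (K.map (glReindex e.symm).toMonoidHom).map (MulAut.conj P).toMonoidHom)
    {x y : κ} (hxy : x ≠ y) :
    ∃ X ∈ K, (X : Matrix κ κ F) = 1 + Matrix.single x y 1 := by
  have hφ : (Pi.single (e.symm y) 1 : ι → F) ⬝ᵥ Pi.single (e.symm x) 1 = 0 := by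
    simp [Ne.symm hxy]
  obtain ⟨_, ⟨X, hX, rfl⟩, hv⟩ := h (show MulAut.conj P (CfsgLib.Geo.tvec _ _ hφ) ∈ specialLinear ι F from
    (MonoidHom.normal_ker _).conj_mem _ (CfsgLib.Geo.tvec_mem_specialLinear _ _ hφ) P)
  refine ⟨X, hX, ?_⟩
  have h1 := congrArg Units.val ((MulAut.conj P).injective hv)
  change (X : Matrix κ κ F).submatrix e e = _ at h1
  ext u v
  have h2 := congrFun (congrFun h1 (e.symm u)) (e.symm v)
  simp only [submatrix_apply, Equiv.apply_symm_apply, CfsgLib.Geo.tvec_val] at h2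
  rw [h2]
  simp [Matrix.one_apply, Matrix.single_apply, vecMulVec_apply, Pi.single_apply, ite_and, eq_comm]
  by_cases h1 : x = u <;> by_cases h2 : y = v <;> simp [h1, h2]

lemma specialLinear_not_le_tensor {n₁ n₂ : ℕ} (h1 : 2 ≤ n₁) (h2 : 2 ≤ n₂) (e : ι ≃ Fin n₁ × Fin n₂) (P : GL ι F) :
    ¬ specialLinear ι F ≤ tensorProductSubgroup n₁ n₂ e P := by
  intro hle
  let i0 : Fin n₁ := ⟨0, by omega⟩
  let i1 : Fin n₁ := ⟨1, by omega⟩
  let k0 : Fin n₂ := ⟨0, by omega⟩
  let k1 : Fin n₂ := ⟨1, by omega⟩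
  obtain ⟨X, ⟨a, b, hab⟩, hX⟩ := exists_of_specialLinear_le e P (K := kroneckerSubgroup n₁ n₂ F) hle
    (x := (i0, k0)) (y := (i0, k1)) (by simp [k0, k1])
  rw [hX] at hab
  have e1 := congrFun (congrFun hab (i0, k0)) (i0, k1)
  have e2 := congrFun (congrFun hab (i1, k0)) (i1, k1)
  have e3 := congrFun (congrFun hab (i1, k0)) (i1, k0)
  simp [Matrix.one_apply, Matrix.single_apply, i0, i1, k0, k1] at e1 e2 e3
  rcases e2 with h | h
  · simp [h] at e3
  · simp [h] at e1

variable [Fintype F]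

lemma specialLinear_not_le_wreath {m t : ℕ} (hm : 2 ≤ m) (ht : 2 ≤ t) (e : ι ≃ (Fin t → Fin m)) (P : GL ι F) :
    ¬ specialLinear ι F ≤ tensorWreathSubgroup m t e P := by
  classical
  intro hle
  let o : Fin m := ⟨0, by omega⟩
  let l : Fin m := ⟨1, by omega⟩
  have hol : o ≠ l := by simp [o, l]
  let i0 : Fin t := ⟨0, by omega⟩
  let i1 : Fin t := ⟨1, by omega⟩
  have hi : i1 ≠ i0 := by simp [i0, i1]
  let x0 : Fin t → Fin m := fun _ => o
  let y0 : Fin t → Fin m := Function.update x0 i0 l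
  have hxy : x0 ≠ y0 := fun h => hol (by simpa [x0, y0] using congrFun h i0)
  obtain ⟨X, hX, hXv⟩ := exists_of_specialLinear_le e P (K := tensorWreathStandard m t F) hle hxy
  obtain ⟨a, σ, hσ⟩ : ∃ (a : Fin t → GL (Fin m) F) (σ : Equiv.Perm (Fin t)),
      (X : Matrix _ _ F) = tens (fun i => (a i : Matrix (Fin m) (Fin m) F)) * permMat m σ := by
    let S : Submonoid (GL (Fin t → Fin m) F) :=
      { carrier := {g | ∃ (a : Fin t → GL (Fin m) F) (σ : Equiv.Perm (Fin t)),
          (g : Matrix _ _ F) = tens (fun i => (a i : Matrix (Fin m) (Fin m) F)) * permMat m σ}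
        one_mem' := ⟨fun _ => 1, 1, by
          rw [show (permMat m (1 : Equiv.Perm (Fin t)) : Matrix _ _ F) = 1 from by
            ext x y; simp [permMat, Matrix.one_apply, eq_comm]]
          simp [tens_one]⟩
        mul_mem' := by
          rintro g g' ⟨a, σ, hg⟩ ⟨b, τ, hg'⟩
          refine ⟨fun i => a i * b (σ.symm i), τ.trans σ, ?_⟩
          rw [Units.val_mul, hg, hg', mul_assoc, ← mul_assoc (permMat m σ), permMat_mul_tens, mul_assoc, ← mul_assoc,
            tens_mul]
          simp only [Units.val_mul]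
          congr 1
          ext x y
          rw [permMat_mul_apply]
          simp [permMat, Function.comp_def]
          congr 1 }
    have hle' : tensorWreathStandard m t F ≤
        { S with
          inv_mem' := fun {a} ha => by
            obtain ⟨k, hk⟩ : ∃ k : ℕ, a⁻¹ = a ^ k := ⟨orderOf a - 1, by
              have : 0 < orderOf a := orderOf_pos a
              rw [inv_eq_iff_mul_eq_one, ← pow_succ', Nat.sub_add_cancel this, pow_orderOf_eq_one]⟩
            rw [hk]
            exact S.pow_mem ha k } := by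
      rw [tensorWreathStandard, Subgroup.closure_le]
      rintro g (⟨a, ha⟩ | ⟨σ, hσ⟩)
      · refine ⟨a, 1, Matrix.ext fun x y => ?_⟩
        rw [mul_permMat_apply, ha]
        rfl
      · refine ⟨fun _ => 1, σ, Matrix.ext fun x y => ?_⟩
        simp only [Units.val_one, tens_one, one_mul]
        exact hσ x y
    exact hle' hX
  have hent : ∀ x y, (1 + Matrix.single x0 y0 (1 : F) : Matrix _ _ F) x y =
      ∏ i, (a i : Matrix (Fin m) (Fin m) F) (x i) (y (σ.symm i)) := fun x y => by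
    rw [← hXv, hσ, mul_permMat_apply]
    rfl
  have hdiag : ∀ k i, (a i : Matrix (Fin m) (Fin m) F) k k ≠ 0 := by
    intro k i h0
    have h := hent (fun _ => k) (fun _ => k)
    rw [Finset.prod_eq_zero (f := fun i => (a i : Matrix (Fin m) (Fin m) F) k k) (Finset.mem_univ i) h0] at h
    have hne : ¬ (x0 = (fun _ => k) ∧ y0 = fun _ => k) := fun h => hxy (h.1.trans h.2.symm)
    simp [Matrix.single_apply, hne] at h
  have hσ1 : σ = 1 := by
    by_contra hne
    obtain ⟨i, hi'⟩ : ∃ i, σ i ≠ i := by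
      by_contra h
      push Not at h
      exact hne (Equiv.ext h)
    set x : Fin t → Fin m := fun j => if j = i then l else o
    have h := hent x (x ∘ σ)
    simp only [Function.comp_apply, Equiv.apply_symm_apply] at h
    have hx : ¬ x = x ∘ σ := fun h => hol (by simpa [x, hi'] using (congrFun h i).symm)
    have hx' : ¬ (x0 = x ∧ y0 = x ∘ σ) := fun h => hol (by simpa [x, x0] using congrFun h.1 i)
    rw [Matrix.add_apply, Matrix.one_apply_ne hx, Matrix.single_apply, if_neg hx', add_zero] at h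
    exact Finset.prod_ne_zero_iff.mpr (fun j _ => hdiag _ j) h.symm
  subst hσ1
  have e1 := hent x0 y0
  rw [Matrix.add_apply, Matrix.one_apply_ne hxy, Matrix.single_apply, if_pos ⟨rfl, rfl⟩, zero_add,
    ← Finset.mul_prod_erase _ _ (Finset.mem_univ i0)] at e1
  have hol' : (a i0 : Matrix (Fin m) (Fin m) F) o l ≠ 0 := by
    intro h
    simp [x0, y0, h, show (Equiv.symm (1 : Equiv.Perm (Fin t))) = 1 from rfl] at e1
  have e2 := hent (Function.update (fun _ => l) i0 o) (fun _ => l)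
  have hne : ¬ Function.update (fun _ : Fin t => l) i0 o = fun _ => l := fun h => hol (by simpa using congrFun h i0)
  have hne' : ¬ (x0 = Function.update (fun _ : Fin t => l) i0 o ∧ y0 = fun _ => l) := fun h =>
    hol (by simpa [x0, hi] using congrFun h.1 i1)
  rw [Matrix.add_apply, Matrix.one_apply_ne hne, Matrix.single_apply, if_neg hne', add_zero] at e2
  refine Finset.prod_ne_zero_iff.mpr (fun i _ => ?_) e2.symm
  by_cases h : i = i0
  · subst h; simpa using hol'
  · simpa [Function.update_of_ne h] using hdiag l i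

/-- The special linear group normalises no group of symplectic type. -/
lemma specialLinear_not_le_symplecticType (hn : 3 ≤ Fintype.card ι) {r : ℕ} {R : Subgroup (GL ι F)}
    (hR : IsLinearSymplecticTypeData r R) (hcl : ⁅R, R⁆ ≤ scalars ι F) :
    ¬ specialLinear ι F ≤ subgroupNormalizer R := by
  classical
  have : Nonempty ι := Fintype.card_pos_iff.mp (by omega)
  intro hle
  obtain ⟨p, e, hrp, ⟨hp, hchar, hF, hzq, -⟩, hcases⟩ := hR.field
  have : Fact p.Prime := ⟨hp⟩
  have : Fact r.Prime := ⟨hR.symplecticType.prime⟩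
  set z := Nat.card (Subgroup.center R)
  have hexp : r * Nat.gcd 2 r = z := by
    rcases hcases with ⟨ho, -, hz, -⟩ | ⟨h2, -, hz, -⟩ | ⟨-, -, h, -⟩
    · rw [show Nat.gcd 2 r = 1 from Nat.coprime_two_left.mpr ho, mul_one]
      exact hz.symm
    · rw [h2]; exact hz.symm
    · omega
  have hpow : ∀ x ∈ R, x ^ z = 1 := fun x hx => by
    have := congrArg Subtype.val (Monoid.pow_exponent_eq_one (⟨x, hx⟩ : R))
    rw [hR.symplecticType.exponent_eq, hexp] at this
    exact this
  have hz0 : 0 < z := Nat.card_pos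
  obtain ⟨w, hw⟩ : ∃ w : Fˣ, orderOf w = z := by
    obtain ⟨g, hg⟩ := IsCyclic.exists_ofOrder_eq_natCard (α := Fˣ)
    obtain ⟨k, hk⟩ : z ∣ orderOf g := by
      rw [hg, Nat.card_eq_fintype_card, Fintype.card_units, hF]; exact hzq
    exact ⟨g ^ k, by
      rw [orderOf_pow' g (fun h0 => (orderOf_pos g).ne' (by rw [hk, h0, mul_zero])), hk, Nat.gcd_mul_left_left,
        Nat.mul_div_cancel _ (Nat.pos_of_ne_zero fun h0 => (orderOf_pos g).ne' (by rw [hk, h0, mul_zero]))]⟩
  have hprim : IsPrimitiveRoot (w : F) z := IsPrimitiveRoot.coe_units_iff.mpr (hw ▸ IsPrimitiveRoot.orderOf w)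
  -- a non-commuting pair
  obtain ⟨x, hx, y, hy, hxy⟩ : ∃ x ∈ R, ∃ y ∈ R, ¬ y * x = x * y := by
    by_contra hcon
    push Not at hcon
    have hRc : ∀ a ∈ R, a ∈ scalars ι F := fun a ha => by
      obtain ⟨c, hc⟩ := hR.absIrred.2 (a : Matrix ι ι F) (forall_matrixSet.mpr fun b hb => by
        simpa using congrArg Units.val (hcon b hb a ha))
      exact mem_scalars_of_eq_smul hc
    exact not_le_scalars_of_irreducible (by omega) hR.absIrred.1 hRc
  obtain ⟨c, hc⟩ := (mem_scalars_iff _).mp (hcl (Subgroup.commutator_mem_commutator hy hx))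
  have hc1 : (c : F) ≠ 1 := fun h => hxy (commutatorElement_eq_one_iff_mul_comm.mp (Units.ext (by
    rw [hc, h, one_smul, Units.val_one])))
  obtain ⟨i⟩ := ‹Nonempty ι›
  obtain ⟨j, P, hv0, hv⟩ := exists_root_eigenvector hz0 hprim (x : Matrix ι ι F)
    (by rw [← Units.val_pow_eq_pow_val, hpow x hx, Units.val_one]) (Pi.single i 1) (by simp)
  set v := Polynomial.aeval (x : Matrix ι ι F) P *ᵥ Pi.single i 1 with hvdef
  set lam : F := (w : F) ^ j with hlam
  have hlam0 : lam ≠ 0 := pow_ne_zero _ w.ne_zero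
  set u := (y : Matrix ι ι F) *ᵥ v
  have hu0 : u ≠ 0 := fun h => hv0 (mulVec_injective_GL y (a₁ := v) (a₂ := 0) (by
    rw [Matrix.toLin'_apply, Matrix.toLin'_apply, mulVec_zero]; exact h))
  have hxu : (x : Matrix ι ι F) *ᵥ u = ((c : F)⁻¹ * lam) • u := by
    have e : y * x = ⁅y, x⁆ * (x * y) := by rw [commutatorElement_def]; group
    have h := congrArg (fun g : GL ι F => (g : Matrix ι ι F) *ᵥ v) e
    simp only [Units.val_mul, hc, smul_mul_assoc, one_mul, smul_mulVec, ← mulVec_mulVec, hv, mulVec_smul] at h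
    rw [mul_smul, h, smul_smul, inv_mul_cancel₀ c.ne_zero, one_smul]
  have hvu : LinearIndependent F ![v, u] := by
    rw [LinearIndependent.pair_iff]
    intro s t hst
    have h1 := congrArg (fun z => (x : Matrix ι ι F) *ᵥ z) hst
    simp only [mulVec_add, mulVec_smul, hv, hxu, smul_smul, mulVec_zero] at h1
    have h2 : (t * ((c : F)⁻¹ * lam) - t * lam) • u = 0 := by
      have h3 := congrArg (fun z => lam • z) hst
      simp only [smul_add, smul_smul, smul_zero] at h3
      rw [sub_smul]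
      rw [mul_comm lam s, mul_comm lam t] at h3
      rw [eq_sub_iff_add_eq.mpr ((add_comm _ _).trans h1), eq_sub_iff_add_eq.mpr ((add_comm _ _).trans h3)]
      simp
    have ht : t = 0 := by
      rcases smul_eq_zero.mp h2 with h | h
      · have : t * lam * ((c : F)⁻¹ - 1) = 0 := by linear_combination h
        rcases mul_eq_zero.mp this with h | h
        · exact (mul_eq_zero.mp h).resolve_right hlam0
        · exact absurd (inv_eq_one.mp (sub_eq_zero.mp h)) hc1
      · exact absurd h hu0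
    rw [ht, zero_smul, add_zero, smul_eq_zero] at hst
    exact ⟨hst.resolve_right hv0, ht⟩
  set a := v + u
  obtain ⟨z', -, hz'⟩ : ∃ z', z' ∈ (⊤ : Submodule F (ι → F)) ∧ z' ∉ Submodule.span F (Set.range ![v, u]) := by
    refine SetLike.exists_of_lt (lt_top_iff_ne_top.mpr fun h => ?_)
    have := finrank_span_eq_card hvu
    rw [h, finrank_top, Module.finrank_fintype_fun_eq_card, Fintype.card_fin] at this
    omega
  obtain ⟨φ, hφ, hφz⟩ := CfsgLib.Geo.exists_covector _ hz'
  have hφv : φ ⬝ᵥ v = 0 := hφ v (Submodule.subset_span ⟨0, rfl⟩)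
  have hφu : φ ⬝ᵥ u = 0 := hφ u (Submodule.subset_span ⟨1, rfl⟩)
  have hφa : φ ⬝ᵥ a = 0 := by rw [dotProduct_add, hφv, hφu, add_zero]
  set t := CfsgLib.Geo.tvec a φ hφa with ht
  have htR := hle (CfsgLib.Geo.tvec_mem_specialLinear a φ hφa)
  rw [subgroupNormalizer, Subgroup.mem_normalizer_iff] at htR
  set d := ⁅t, x⁆ with hd
  have hdR : d ∈ R := by
    rw [hd, commutatorElement_def]
    exact R.mul_mem ((htR x).mp hx) (R.inv_mem hx)
  have hinvA : ∀ {g : GL ι F} {z : ι → F} {s : F}, s ≠ 0 → (g : Matrix ι ι F) *ᵥ z = s • z →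
      ((g⁻¹ : GL ι F) : Matrix ι ι F) *ᵥ z = s⁻¹ • z := by
    intro g z s hs h
    have h1 := congrArg (fun q => ((g⁻¹ : GL ι F) : Matrix ι ι F) *ᵥ q) h
    simp only [CfsgLib.Geo.inv_mulVec_mulVec, mulVec_smul] at h1
    conv_rhs => rw [h1, smul_smul, inv_mul_cancel₀ hs, one_smul]
  have hxiv := hinvA hlam0 hv
  have hxiu := hinvA (mul_ne_zero (inv_ne_zero c.ne_zero) hlam0) hxu
  set xa := (x : Matrix ι ι F) *ᵥ a with hxa
  set ψ : ι → F := φ ᵥ* ((x⁻¹ : GL ι F) : Matrix ι ι F) with hψ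
  have hψv : ∀ s, ψ ⬝ᵥ s = φ ⬝ᵥ (((x⁻¹ : GL ι F) : Matrix ι ι F) *ᵥ s) := fun s => (dotProduct_mulVec _ _ _).symm
  have hφxa : φ ⬝ᵥ xa = 0 := by simp [hxa, a, mulVec_add, hv, hxu, hφv, hφu, dotProduct_smul]
  have hψa : ψ ⬝ᵥ a = 0 := by simp [-Matrix.coe_units_inv, hψv, a, mulVec_add, hxiv, hxiu, hφv, hφu, dotProduct_smul]
  have hψxa : ψ ⬝ᵥ xa = 0 := by rw [hψv, hxa, CfsgLib.Geo.inv_mulVec_mulVec, hφa]
  set K : Matrix ι ι F := (d : Matrix ι ι F) - 1
  have hK : ∀ s, K *ᵥ s = (φ ⬝ᵥ s) • a - (ψ ⬝ᵥ s) • xa := by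
    intro s
    have htinv : ∀ q, ((t⁻¹ : GL ι F) : Matrix ι ι F) *ᵥ q = q - (φ ⬝ᵥ q) • a := by
      intro q
      apply mulVec_injective_GL t
      simp only [Matrix.toLin'_apply]
      rw [CfsgLib.Geo.mulVec_inv_mulVec, ht, CfsgLib.Geo.tvec_mulVec, dotProduct_sub, dotProduct_smul, hφa,
        smul_zero, sub_zero, sub_add_cancel]
    have hds : (d : Matrix ι ι F) *ᵥ s = s + ((φ ⬝ᵥ s) • a - (ψ ⬝ᵥ s) • xa) := by
      rw [hd, commutatorElement_def, Units.val_mul, Units.val_mul, Units.val_mul, ← mulVec_mulVec, ← mulVec_mulVec,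
        ← mulVec_mulVec, htinv, ← hψv, mulVec_sub, CfsgLib.Geo.mulVec_inv_mulVec, mulVec_smul, ← hxa,
        CfsgLib.Geo.tvec_mulVec, dotProduct_sub, dotProduct_smul, hφxa, smul_zero, sub_zero]
      abel
    simp only [K, sub_mulVec, one_mulVec, hds]
    abel
  have hKK : K * K = 0 := by
    apply Matrix.ext_of_mulVec_single
    intro i
    rw [← mulVec_mulVec, zero_mulVec, hK, hK]
    simp [dotProduct_sub, dotProduct_smul, hφa, hφxa, hψa, hψxa]
  have hd1 : d = 1 := by
    have h1 : (d : Matrix ι ι F) ^ p = 1 := by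
      have e : (d : Matrix ι ι F) = 1 + K := by simp [K]
      rw [e, add_pow_char_of_commute p (Commute.one_left K), one_pow]
      have : K ^ p = 0 := pow_eq_zero_of_le hp.two_le (by rw [sq]; exact hKK)
      rw [this, add_zero]
    have h2 : d ^ p = 1 := Units.ext (by rw [Units.val_pow_eq_pow_val, h1, Units.val_one])
    have hzp : z.Coprime p := by
      refine (Nat.Coprime.symm ((Nat.Prime.coprime_iff_not_dvd hp).mpr fun hdvd => hrp ?_))
      rw [← hexp] at hdvd
      rcases hp.dvd_mul.mp hdvd with h | h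
      · exact ((Nat.prime_dvd_prime_iff_eq hp hR.symplecticType.prime).mp h).symm
      · exact ((Nat.prime_dvd_prime_iff_eq hp hR.symplecticType.prime).mp (h.trans (Nat.gcd_dvd_right 2 r))).symm
    have hdz := pow_gcd_eq_one.mpr ⟨hpow d hdR, h2⟩
    rwa [hzp, pow_one] at hdz
  have h := hK z'
  simp only [K, hd1, Units.val_one, sub_self, zero_mulVec, hφz, one_smul] at h
  rw [eq_comm, sub_eq_zero] at h
  -- `x a` would be proportional to `a`
  have hψ0 : ψ ⬝ᵥ z' ≠ 0 := by
    intro h0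
    rw [h0, zero_smul] at h
    have := (LinearIndependent.pair_iff.mp hvu) 1 1 (by rw [one_smul, one_smul]; exact h)
    exact one_ne_zero this.1
  have hxa' : xa = (ψ ⬝ᵥ z')⁻¹ • a := by rw [h, smul_smul, inv_mul_cancel₀ hψ0, one_smul]
  have h4 : (lam - (ψ ⬝ᵥ z')⁻¹) • v + ((c : F)⁻¹ * lam - (ψ ⬝ᵥ z')⁻¹) • u = 0 := by
    rw [sub_smul, sub_smul, sub_add_sub_comm, ← hv, ← hxu, ← mulVec_add, ← smul_add]
    exact sub_eq_zero.mpr hxa'
  obtain ⟨e1, e2⟩ := (LinearIndependent.pair_iff.mp hvu) _ _ h4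
  have : ((c : F)⁻¹ - 1) * lam = 0 := by linear_combination e2 - e1
  rcases mul_eq_zero.mp this with h | h
  · exact hc1 (inv_eq_one.mp (sub_eq_zero.mp h))
  · exact hlam0 h

end CfsgLib.Aschbacher
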