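import Cfsg.Agent.Aschbacher.Basic

/-!
An algebra of matrices normalised by an irreducible group, with scalar centre, has a full system of matrix units.
-/
set_option autoImplicit false
set_option maxHeartbeats 1000000

namespace CfsgLib.Aschbacher

open Matrix Cfsg.Geo CfsgLib.GeoClifford
open scoped MatrixGroups

variable {ι : Type} [Fintype ι] [DecidableEq ι] {F : Type*} [Field F]

/-- A system of matrix units summing to the identity. -/
structure IsMUnits {κ : Type} [Fintype κ] [DecidableEq κ] (E : κ → κ → Matrix ι ι F) : Prop where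
  mul : ∀ a b c d, E a b * E c d = if b = c then E a d else 0
  sum_eq : ∑ a, E a a = 1

/-- A subalgebra normalised by an irreducible group is semisimple. -/
lemma isSemisimpleRing_of_conjStable [Fintype F] {H : Subgroup (GL ι F)} (hirr : ActsIrreducibly (matrixSet H))
    (A : Subalgebra F (Module.End F (ι → F)))
    (hA : ∀ g ∈ H, ∀ x ∈ A,
      Matrix.toLinAlgEquiv' (g : Matrix ι ι F) * x * Matrix.toLinAlgEquiv' ((g⁻¹ : GL ι F) : Matrix ι ι F) ∈ A) :
    IsSemisimpleRing A := by
  classical
  rcases isEmpty_or_nonempty ι with hι | hι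
  · have : Subsingleton A := ⟨fun a b => Subtype.ext (LinearMap.ext fun v => Subsingleton.elim _ _)⟩
    infer_instance
  have : Finite (Submodule A (ι → F)) := Finite.of_injective (fun m => (m : Set (ι → F))) SetLike.coe_injective
  -- translates of a submodule
  have hcomm : ∀ g ∈ H, ∀ (a : A) (v : ι → F), ∃ b : A,
      a.1 ((g : Matrix ι ι F) *ᵥ v) = (g : Matrix ι ι F) *ᵥ (b.1 v) := by
    intro g hg a v
    refine ⟨⟨_, hA g⁻¹ (H.inv_mem hg) a.1 a.2⟩, ?_⟩
    simp only [inv_inv, Module.End.mul_apply, Matrix.toLinAlgEquiv'_apply, mulVec_mulVec, ← Units.val_mul,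
      mul_inv_cancel, Units.val_one, one_mulVec]
  let T : ∀ g : H, Submodule A (ι → F) → Submodule A (ι → F) := fun g m =>
    { carrier := {v | ((g.1⁻¹ : GL ι F) : Matrix ι ι F) *ᵥ v ∈ m}
      add_mem' := fun {x y} hx hy => by
        show _ *ᵥ (x + y) ∈ m
        rw [mulVec_add]; exact m.add_mem hx hy
      zero_mem' := by
        show _ *ᵥ (0 : ι → F) ∈ m
        rw [mulVec_zero]; exact m.zero_mem
      smul_mem' := fun a v hv => by
        obtain ⟨b, hb⟩ := hcomm g.1 g.2 a (((g.1⁻¹ : GL ι F) : Matrix ι ι F) *ᵥ v)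
        rw [mulVec_mulVec, ← Units.val_mul, mul_inv_cancel, Units.val_one, one_mulVec] at hb
        show _ *ᵥ a.1 v ∈ m
        rw [hb, mulVec_mulVec, ← Units.val_mul, inv_mul_cancel, Units.val_one, one_mulVec]
        exact m.smul_mem b hv }
  have hT : ∀ g m v, v ∈ T g m ↔ ((g.1⁻¹ : GL ι F) : Matrix ι ι F) *ᵥ v ∈ m := fun _ _ _ => Iff.rfl
  have hTT : ∀ (g : H) m, T g (T g⁻¹ m) = m := by
    intro g m
    ext v
    rw [hT, hT]
    simp [mulVec_mulVec]
  have hatom : ∀ (g : H) m, IsAtom m → IsAtom (T g m) := by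
    intro g m hm
    have hmono : ∀ (g : H) m₁ m₂, m₁ ≤ m₂ → T g m₁ ≤ T g m₂ := fun g _ _ h v hv => h hv
    have hbot : ∀ g : H, T g ⊥ = ⊥ := by
      intro g
      ext v
      rw [hT, Submodule.mem_bot, Submodule.mem_bot]
      refine ⟨fun h => ?_, fun h => by rw [h, mulVec_zero]⟩
      have := congrArg (fun u => (g.1 : Matrix ι ι F) *ᵥ u) h
      simpa [mulVec_mulVec] using this
    refine ⟨fun h => hm.1 ?_, fun b hb => ?_⟩
    · rw [← hTT g⁻¹ m, inv_inv, h, hbot]
    · have h1 : T g⁻¹ b < m := by
        refine lt_of_le_of_ne ?_ ?_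
        · conv_rhs => rw [← hTT g⁻¹ m, inv_inv]
          exact hmono _ _ _ hb.le
        · intro h
          apply hb.ne
          rw [← h, hTT]
      rw [← hTT g b, hm.2 _ h1, hbot]
  have hss : IsSemisimpleModule A (ι → F) := by
    refine IsSemisimpleModule.of_sSup_simples_eq_top ?_
    simp_rw [isSimpleModule_iff_isAtom]
    set S := sSup {m : Submodule A (ι → F) | IsAtom m}
    let W : Submodule F (ι → F) :=
      { carrier := S
        add_mem' := fun hx hy => S.add_mem hx hy
        zero_mem' := S.zero_mem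
        smul_mem' := fun c v hv => by
          have := S.smul_mem (algebraMap F A c) hv
          rwa [algebraMap_smul] at this }
    have htop : W = ⊤ := by
      refine eq_top_of_invariant hirr W ?_ fun g hg v hv => ?_
      · obtain ⟨m, hm⟩ : ∃ m : Submodule A (ι → F), IsAtom m :=
          (IsAtomic.eq_bot_or_exists_atom_le (⊤ : Submodule A (ι → F))).resolve_left top_ne_bot |>.imp fun _ h => h.1
        obtain ⟨v, hv, hv0⟩ := m.ne_bot_iff.mp hm.1
        exact fun h => hv0 (by
          have : v ∈ W := (le_sSup hm : m ≤ S) hv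
          rwa [h, Submodule.mem_bot] at this)
      · have hle : S ≤ T ⟨g⁻¹, H.inv_mem hg⟩ S := by
          refine sSup_le fun m hm => ?_
          intro w hw
          have h1 : T ⟨g, hg⟩ m ≤ S := le_sSup (hatom _ m hm)
          rw [hT, inv_inv]
          refine h1 ?_
          rw [hT, mulVec_mulVec, ← Units.val_mul, inv_mul_cancel, Units.val_one, one_mulVec]
          exact hw
        have h2 := hle hv
        rw [hT, inv_inv] at h2
        exact h2
    rw [eq_top_iff]
    intro v _
    exact (htop ▸ Submodule.mem_top : v ∈ W)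
  let emb : A →ₗ[A] (ι → ι → F) :=
    { toFun := fun a i => a.1 (Pi.single i 1)
      map_add' := fun a b => rfl
      map_smul' := fun a b => rfl }
  have hinj : Function.Injective emb := fun a b h =>
    Subtype.ext ((Pi.basisFun F ι).ext fun i => by rw [Pi.basisFun_apply]; exact congrFun h i)
  exact IsSemisimpleModule.of_injective emb hinj

/-- A subalgebra with scalar centre normalised by an irreducible group is spanned by matrix units. -/
theorem exists_munits [Fintype F] [Nonempty ι] {H : Subgroup (GL ι F)} (hirr : ActsIrreducibly (matrixSet H))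
    {A : Subalgebra F (Matrix ι ι F)} (hA : ConjStable H A)
    (hcen : ∀ x ∈ A, (∀ y ∈ A, x * y = y * x) → ∃ c : F, x = c • (1 : Matrix ι ι F)) :
    ∃ (d : ℕ) (E : Fin d → Fin d → Matrix ι ι F), 0 < d ∧ IsMUnits E ∧ (∀ a b, E a b ∈ A) ∧
      ∀ x ∈ A, ∃ c : Fin d → Fin d → F, x = ∑ a, ∑ b, c a b • E a b := by
  classical
  let A' := A.map (Matrix.toLinAlgEquiv' : Matrix ι ι F ≃ₐ[F] Module.End F (ι → F)).toAlgHom
  have : IsSemisimpleRing A' := isSemisimpleRing_of_conjStable hirr A' (by
    rintro g hg _ ⟨x, hx, rfl⟩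
    exact ⟨_, hA g hg x hx, by simp⟩)
  let φ : A ≃ₐ[F] A' := A.equivMapOfInjective _ Matrix.toLinAlgEquiv'.injective
  have : IsSemisimpleRing A := RingEquiv.isSemisimpleRing (R := A') φ.symm.toRingEquiv
  obtain ⟨k, D, d, _, _, hfin, hd, ⟨e⟩⟩ := IsSemisimpleRing.exists_algEquiv_pi_matrix_divisionRing_finite F A
  have hDf : ∀ i, Finite (D i) := fun i => Module.finite_of_finite F
  have hcomm : ∀ i (x y : D i), x * y = y * x := fun i x y => by
    let := littleWedderburn (D i)
    exact mul_comm x y
  have hscal : ∀ z : (∀ j, Matrix (Fin (d j)) (Fin (d j)) (D j)), (∀ y, z * y = y * z) → ∃ c : F, z = algebraMap F _ c := by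
    intro z hz
    obtain ⟨c, hc⟩ := hcen (e.symm z).1 (e.symm z).2 fun y hy => by
      have h := hz (e ⟨y, hy⟩)
      have h' := congrArg (fun w => ((e.symm w : A) : Matrix ι ι F)) h
      simpa using h'
    refine ⟨c, ?_⟩
    rw [← e.apply_symm_apply z, ← e.commutes c]
    congr 1
    exact Subtype.ext (hc.trans (Algebra.algebraMap_eq_smul_one c).symm)
  have hscalar : ∀ i (x : D i), ∀ y : ∀ j, Matrix (Fin (d j)) (Fin (d j)) (D j),
      Pi.single i (Matrix.scalar (Fin (d i)) x) * y = y * Pi.single i (Matrix.scalar (Fin (d i)) x) := by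
    intro i x y
    funext j
    rcases eq_or_ne j i with rfl | hji
    · rw [Pi.mul_apply, Pi.mul_apply, Pi.single_eq_same]
      exact Matrix.scalar_commute x (fun r => hcomm j x r) (y j)
    · rw [Pi.mul_apply, Pi.mul_apply, Pi.single_eq_of_ne hji, zero_mul, mul_zero]
  have hk : k ≠ 0 := by
    intro h0
    subst h0
    have h1 : (1 : A) = 0 := e.injective (funext fun i => i.elim0)
    exact one_ne_zero (congrArg Subtype.val h1)
  let i : Fin k := ⟨0, Nat.pos_of_ne_zero hk⟩
  haveI := hd i
  haveI : NeZero (d i) := hd i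
  obtain ⟨c1, hc1⟩ := hscal _ (hscalar i 1)
  have huniq : ∀ j, j = i := by
    intro j
    by_contra hji
    haveI := hd j
    have h1 := congrFun hc1 i
    have h2 := congrFun hc1 j
    rw [Pi.single_eq_same, map_one, Pi.algebraMap_apply] at h1
    rw [Pi.single_eq_of_ne hji, Pi.algebraMap_apply] at h2
    have hc0 : c1 = 0 := (map_eq_zero_iff _ (algebraMap F (Matrix (Fin (d j)) (Fin (d j)) (D j))).injective).mp h2.symm
    rw [hc0, map_zero] at h1
    exact one_ne_zero h1
  have hsurj : Function.Surjective (algebraMap F (D i)) := by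
    intro x
    obtain ⟨c, hc⟩ := hscal _ (hscalar i x)
    refine ⟨c, ?_⟩
    have h1 := congrFun (congrFun (congrFun hc i) ⟨0, Nat.pos_of_ne_zero (NeZero.ne _)⟩) ⟨0, Nat.pos_of_ne_zero (NeZero.ne _)⟩
    rw [Pi.single_eq_same, Pi.algebraMap_apply, Matrix.scalar_apply, Matrix.diagonal_apply_eq,
      Matrix.algebraMap_matrix_apply, if_pos rfl] at h1
    exact h1.symm
  let E : Fin (d i) → Fin (d i) → Matrix ι ι F := fun a b => ((e.symm (Pi.single i (Matrix.single a b 1)) : A) : Matrix ι ι F)
  refine ⟨d i, E, Nat.pos_of_ne_zero (NeZero.ne _), ⟨fun a b c c' => ?_, ?_⟩, fun a b => (e.symm _).2, fun x hx => ?_⟩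
  · simp only [E]
    rw [← MulMemClass.coe_mul, ← map_mul, ← Pi.single_mul]
    by_cases h : b = c
    · subst h; rw [if_pos rfl, Matrix.single_mul_single_same, mul_one]
    · rw [if_neg h, Matrix.single_mul_single_of_ne _ _ _ _ h, Pi.single_zero, map_zero, ZeroMemClass.coe_zero]
  · simp only [E]
    rw [← AddSubmonoidClass.coe_finsetSum, ← map_sum]
    have : (∑ a : Fin (d i), Pi.single i (Matrix.single a a (1 : D i)) : ∀ j, Matrix (Fin (d j)) (Fin (d j)) (D j)) = 1 := by
      funext j
      obtain rfl := huniq j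
      simp only [Finset.sum_apply, Pi.single_eq_same, Pi.one_apply]
      ext a b
      simp [Matrix.sum_apply, Matrix.single_apply, Matrix.one_apply, eq_comm, ite_and]
    rw [this, map_one, OneMemClass.coe_one]
  · choose c hc using fun a b => hsurj (e ⟨x, hx⟩ i a b)
    refine ⟨c, ?_⟩
    simp only [E]
    have hsum : e ⟨x, hx⟩ = ∑ a, ∑ b, c a b • (Pi.single i (Matrix.single a b 1) : ∀ j, Matrix (Fin (d j)) (Fin (d j)) (D j)) := by
      funext j
      obtain rfl := huniq j
      simp only [Finset.sum_apply, Pi.smul_apply, Pi.single_eq_same]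
      simp only [Matrix.smul_single]
      simp only [Algebra.smul_def, mul_one, hc]
      exact Matrix.matrix_eq_sum_single _
    have h := congrArg (fun w => ((e.symm w : A) : Matrix ι ι F)) hsum
    simpa [map_sum, map_smul, AddSubmonoidClass.coe_finsetSum] using h

end CfsgLib.Aschbacher
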