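import Cfsg.Agent.Aschbacher.General.Semisimple

/-!
Coordinates attached to a system of matrix units; products of commuting systems.
-/
set_option autoImplicit false

namespace CfsgLib.Aschbacher

open Matrix Cfsg.Geo CfsgLib.GeoClifford
open scoped MatrixGroups Kronecker

variable {ι : Type} [Fintype ι] [DecidableEq ι] {F : Type*} [Field F]
variable {κ : Type} [Fintype κ] [DecidableEq κ] {E : κ → κ → Matrix ι ι F}

namespace IsMUnits

/-- The algebra map of a system of matrix units. -/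
def emb (_hE : IsMUnits E) (M : Matrix κ κ F) : Matrix ι ι F := ∑ a, ∑ b, M a b • E a b

lemma emb_single (hE : IsMUnits E) (a b : κ) : hE.emb (Matrix.single a b 1) = E a b := by
  simp [emb, Matrix.single_apply, ite_and, ite_smul]

lemma emb_one (hE : IsMUnits E) : hE.emb 1 = 1 := by
  simp [emb, Matrix.one_apply, ite_smul, hE.sum_eq]

lemma emb_add (hE : IsMUnits E) (M N : Matrix κ κ F) : hE.emb (M + N) = hE.emb M + hE.emb N := by
  simp [emb, Finset.sum_add_distrib, add_smul]

lemma emb_single' (hE : IsMUnits E) (a b : κ) (x : F) : hE.emb (Matrix.single a b x) = x • E a b := by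
  simp [emb, Matrix.single_apply, ite_and, ite_smul]

lemma emb_sum (hE : IsMUnits E) {α : Type*} (s : Finset α) (f : α → Matrix κ κ F) :
    hE.emb (∑ x ∈ s, f x) = ∑ x ∈ s, hE.emb (f x) := by
  classical
  induction s using Finset.induction_on with
  | empty => simp [emb]
  | insert a s ha ih => rw [Finset.sum_insert ha, Finset.sum_insert ha, hE.emb_add, ih]

lemma emb_mul (hE : IsMUnits E) (M N : Matrix κ κ F) : hE.emb M * hE.emb N = hE.emb (M * N) := by
  classical
  conv_rhs => rw [Matrix.matrix_eq_sum_single M, Matrix.matrix_eq_sum_single N]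
  simp only [emb, Finset.sum_mul, Finset.mul_sum]
  rw [show ∀ X, (∑ a, ∑ b, X a b • E a b) = hE.emb X from fun _ => rfl]
  simp only [hE.emb_sum]
  simp only [smul_mul_assoc, mul_smul_comm, smul_smul, hE.mul, smul_ite, smul_zero]
  refine Finset.sum_congr rfl fun _ _ => Finset.sum_congr rfl fun _ _ => Finset.sum_congr rfl fun _ _ =>
    Finset.sum_congr rfl fun _ _ => ?_
  split_ifs with h
  · subst h
    simp [hE.emb_single', mul_comm]
  · rw [Matrix.single_mul_single_of_ne _ _ _ _ ‹_›]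
    simp [emb]

lemma emb_smul (hE : IsMUnits E) (c : F) (M : Matrix κ κ F) : hE.emb (c • M) = c • hE.emb M := by
  simp [emb, Finset.smul_sum, smul_smul]

lemma emb_zero (hE : IsMUnits E) : hE.emb 0 = 0 := by simp [emb]

lemma mul_apply_units (hE : IsMUnits E) (a b : κ) (M : Matrix κ κ F) (c d : κ) :
    E a b * hE.emb M * E c d = M b c • E a d := by
  simp only [emb, Finset.mul_sum, Finset.sum_mul, mul_smul_comm, smul_mul_assoc, hE.mul, ite_mul, zero_mul,
    smul_ite, smul_zero]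
  simp

lemma E_ne_zero (hE : IsMUnits E) [Nonempty ι] (a b : κ) : E a b ≠ 0 := by
  intro h
  have h1 : ∀ c, E c c = 0 := fun c => by
    have e1 : E c c = E c a * E a b * E b c := by rw [hE.mul, if_pos rfl, hE.mul, if_pos rfl]
    rw [e1, h, mul_zero, zero_mul]
  have := hE.sum_eq
  simp only [h1, Finset.sum_const_zero] at this
  exact zero_ne_one this

lemma emb_injective (hE : IsMUnits E) [Nonempty ι] : Function.Injective hE.emb := by
  intro M N h
  ext a b
  have h1 := congrArg (fun X => E a a * X * E b b) h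
  simp only [hE.mul_apply_units] at h1
  exact smul_left_injective F (hE.E_ne_zero a b) h1

/-- Coordinates in which the units are elementary Kronecker products. -/
theorem exists_coords (hE : IsMUnits E) [Nonempty ι] :
    ∃ (k : ℕ) (e : ι ≃ κ × Fin k) (P : GL ι F), 0 < k ∧ ∀ M : Matrix κ κ F,
      ((P⁻¹ : GL ι F) : Matrix ι ι F) * hE.emb M * (P : Matrix ι ι F) =
        (M ⊗ₖ (1 : Matrix (Fin k) (Fin k) F)).submatrix e e := by
  classical
  obtain ⟨a0⟩ : Nonempty κ := by
    by_contra h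
    rw [not_nonempty_iff] at h
    have := hE.sum_eq
    simp only [Finset.univ_eq_empty, Finset.sum_empty] at this
    exact zero_ne_one this
  let V0 : Submodule F (ι → F) := LinearMap.range (Matrix.toLin' (E a0 a0))
  have hV0 : ∀ v ∈ V0, E a0 a0 *ᵥ v = v := by
    rintro _ ⟨v, rfl⟩
    rw [Matrix.toLin'_apply, mulVec_mulVec, hE.mul, if_pos rfl]
  have hin : ∀ a v, E a0 a *ᵥ v ∈ V0 := fun a v =>
    ⟨E a0 a *ᵥ v, by rw [Matrix.toLin'_apply, mulVec_mulVec, hE.mul, if_pos rfl]⟩
  let w := Module.finBasis F V0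
  set k := Module.finrank F V0
  let Φ : (ι → F) ≃ₗ[F] (κ × Fin k → F) :=
    { toFun := fun v p => w.repr ⟨E a0 p.1 *ᵥ v, hin _ _⟩ p.2
      map_add' := fun u v => by
        funext p
        simp only [mulVec_add, Pi.add_apply]
        rw [show (⟨E a0 p.1 *ᵥ u + E a0 p.1 *ᵥ v, _⟩ : V0) = ⟨E a0 p.1 *ᵥ u, hin _ _⟩ + ⟨E a0 p.1 *ᵥ v, hin _ _⟩ from rfl,
          map_add, Finsupp.add_apply]
      map_smul' := fun c v => by
        funext p
        simp only [mulVec_smul, Pi.smul_apply, RingHom.id_apply]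
        rw [show (⟨c • E a0 p.1 *ᵥ v, _⟩ : V0) = c • ⟨E a0 p.1 *ᵥ v, hin _ _⟩ from rfl, map_smul,
          Finsupp.smul_apply]
      invFun := fun u => ∑ a, E a a0 *ᵥ (∑ j, u (a, j) • (w j : ι → F))
      left_inv := fun v => by
        have e1 : ∀ a, ∑ j, w.repr ⟨E a0 a *ᵥ v, hin a v⟩ j • (w j : ι → F) = E a0 a *ᵥ v := fun a => by
          have := congrArg Subtype.val (w.sum_repr ⟨E a0 a *ᵥ v, hin a v⟩)
          rw [AddSubmonoidClass.coe_finsetSum] at this
          exact this
        simp only [e1, mulVec_mulVec, hE.mul, if_true, ← Matrix.sum_mulVec, hE.sum_eq, one_mulVec]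
      right_inv := fun u => by
        funext p
        show w.repr _ p.2 = u p
        have e1 : (⟨E a0 p.1 *ᵥ ∑ a, E a a0 *ᵥ ∑ j, u (a, j) • (w j : ι → F), hin _ _⟩ : V0) =
            ∑ j, u (p.1, j) • w j := by
          apply Subtype.ext
          simp only [AddSubmonoidClass.coe_finsetSum, Submodule.coe_smul_of_tower]
          rw [mulVec_sum, Finset.sum_eq_single p.1]
          · rw [mulVec_mulVec, hE.mul, if_pos rfl, mulVec_sum]
            refine Finset.sum_congr rfl fun j _ => ?_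
            rw [mulVec_smul, hV0 _ (w j).2]
          · intro a _ ha
            rw [mulVec_mulVec, hE.mul, if_neg (Ne.symm ha), zero_mulVec]
          · simp
        rw [e1, w.repr_sum_self] }
  have hcard : Fintype.card ι = Fintype.card (κ × Fin k) := by
    have := Φ.finrank_eq
    rwa [Module.finrank_fintype_fun_eq_card, Module.finrank_fintype_fun_eq_card] at this
  let e : ι ≃ κ × Fin k := Fintype.equivOfCardEq hcard
  let Ψ : (ι → F) ≃ₗ[F] (ι → F) := Φ.trans (LinearEquiv.funCongrLeft F F e)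
  let Pm : Matrix ι ι F := LinearMap.toMatrix' Ψ.symm.toLinearMap
  let Qm : Matrix ι ι F := LinearMap.toMatrix' Ψ.toLinearMap
  let P : GL ι F := ⟨Pm, Qm, by rw [← LinearMap.toMatrix'_comp]; simp, by rw [← LinearMap.toMatrix'_comp]; simp⟩
  have hk : 0 < k := by
    rcases Nat.eq_zero_or_pos k with h | h
    · rw [Fintype.card_prod, Fintype.card_fin, h, mul_zero] at hcard
      exact absurd hcard Fintype.card_ne_zero
    · exact h
  refine ⟨k, e, P, hk, fun M => ?_⟩
  apply Matrix.ext_of_mulVec_single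
  intro j
  rw [← mulVec_mulVec, ← mulVec_mulVec]
  have hP : (P : Matrix ι ι F) *ᵥ Pi.single j 1 = E (e j).1 a0 *ᵥ (w (e j).2 : ι → F) := by
    show Pm *ᵥ _ = _
    rw [LinearMap.toMatrix'_mulVec]
    show ∑ a, E a a0 *ᵥ (∑ i, (Pi.single j 1 : ι → F) (e.symm (a, i)) • (w i : ι → F)) = _
    have e2 : ∀ a i, (Pi.single j 1 : ι → F) (e.symm (a, i)) = if a = (e j).1 ∧ i = (e j).2 then 1 else 0 := by
      intro a i
      rw [Pi.single_apply]
      congr 1
      rw [eq_iff_iff, Equiv.symm_apply_eq, Prod.ext_iff]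
    simp [e2, ite_and, ite_smul, Finset.sum_ite_eq']
    rw [Finset.sum_eq_single (e j).1]
    · simp
    · intro x _ hx; simp [hx]
    · simp
  funext i
  rw [hP]
  show (Qm *ᵥ _) i = _
  rw [LinearMap.toMatrix'_mulVec]
  show w.repr ⟨E a0 (e i).1 *ᵥ (hE.emb M *ᵥ (E (e j).1 a0 *ᵥ (w (e j).2 : ι → F))), hin _ _⟩ (e i).2 = _
  have e3 : (⟨E a0 (e i).1 *ᵥ (hE.emb M *ᵥ (E (e j).1 a0 *ᵥ (w (e j).2 : ι → F))), hin _ _⟩ : V0) =
      M (e i).1 (e j).1 • w (e j).2 := by
    apply Subtype.ext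
    show E a0 (e i).1 *ᵥ (hE.emb M *ᵥ (E (e j).1 a0 *ᵥ (w (e j).2 : ι → F))) = M (e i).1 (e j).1 • (w (e j).2 : ι → F)
    rw [mulVec_mulVec, mulVec_mulVec, hE.mul_apply_units, smul_mulVec, hV0 _ (w (e j).2).2]
  rw [e3, map_smul, Finsupp.smul_apply, w.repr_self, Finsupp.single_apply, Matrix.mulVec_single]
  simp [Matrix.kroneckerMap_apply, Matrix.one_apply, eq_comm]

/-- In coordinates the centraliser of the units is the second factor. -/
lemma centralizer_coords (hE : IsMUnits E) {k : ℕ} (e : ι ≃ κ × Fin k) (P : GL ι F)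
    (hP : ∀ M : Matrix κ κ F, ((P⁻¹ : GL ι F) : Matrix ι ι F) * hE.emb M * (P : Matrix ι ι F) =
      (M ⊗ₖ (1 : Matrix (Fin k) (Fin k) F)).submatrix e e)
    {Y : Matrix ι ι F} (hY : ∀ a b, E a b * Y = Y * E a b) :
    ∃ b : Matrix (Fin k) (Fin k) F, ((P⁻¹ : GL ι F) : Matrix ι ι F) * Y * (P : Matrix ι ι F) =
      ((1 : Matrix κ κ F) ⊗ₖ b).submatrix e e := by
  classical
  set Z : Matrix (κ × Fin k) (κ × Fin k) F :=
    (((P⁻¹ : GL ι F) : Matrix ι ι F) * Y * (P : Matrix ι ι F)).submatrix e.symm e.symm with hZdef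
  have hZ : ∀ a b, (Matrix.single a b 1 ⊗ₖ (1 : Matrix (Fin k) (Fin k) F)) * Z =
      Z * (Matrix.single a b 1 ⊗ₖ (1 : Matrix (Fin k) (Fin k) F)) := by
    intro a b
    let c : Matrix ι ι F → Matrix (κ × Fin k) (κ × Fin k) F := fun X =>
      (((P⁻¹ : GL ι F) : Matrix ι ι F) * X * (P : Matrix ι ι F)).submatrix e.symm e.symm
    have h : c (E a b * Y) = c (Y * E a b) := congrArg c (hY a b)
    have e1 : ∀ X X' : Matrix ι ι F, ((P⁻¹ : GL ι F) : Matrix ι ι F) * (X * X') * (P : Matrix ι ι F) =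
        (((P⁻¹ : GL ι F) : Matrix ι ι F) * X * (P : Matrix ι ι F)) * (((P⁻¹ : GL ι F) : Matrix ι ι F) * X' * (P : Matrix ι ι F)) := by
      intro X X'; simp [mul_assoc]
    have e2 : ∀ X X', c (X * X') = c X * c X' := by
      intro X X'
      simp only [c]
      rw [e1, submatrix_mul_equiv]
    have e3 : c (E a b) = Matrix.single a b 1 ⊗ₖ (1 : Matrix (Fin k) (Fin k) F) := by
      simp only [c]
      rw [← hE.emb_single, hP, submatrix_submatrix]
      simp
    rw [e2, e2, e3] at h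
    exact h
  rcases isEmpty_or_nonempty κ with hκ | ⟨⟨a0⟩⟩
  · refine ⟨0, Matrix.ext fun i => isEmptyElim (e i).1⟩
  refine ⟨Matrix.of fun x y => Z (a0, x) (a0, y), ?_⟩
  ext i j
  have hij : (((P⁻¹ : GL ι F) : Matrix ι ι F) * Y * (P : Matrix ι ι F)) i j = Z (e i) (e j) := by simp [hZdef]
  rw [hij]
  obtain ⟨⟨a, x⟩, hi⟩ : ∃ p, p = e i := ⟨_, rfl⟩
  obtain ⟨⟨c, y⟩, hj⟩ : ∃ p, p = e j := ⟨_, rfl⟩
  simp only [submatrix_apply, kroneckerMap_apply, ← hi, ← hj]
  have h := congrFun (congrFun (hZ a0 a) (a0, x)) (c, y)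
  simp only [Matrix.mul_apply, kroneckerMap_apply, Matrix.single_apply, Matrix.one_apply, Fintype.sum_prod_type] at h
  simp [ite_and] at h
  rw [h]
  by_cases hac : a = c
  · subst hac; simp [Matrix.kroneckerMap_apply]
  · simp [Matrix.kroneckerMap_apply, hac]

/-- Any full system of matrix units of `Matrix κ κ F` is conjugate to the standard one. -/
theorem exists_conj {M : κ → κ → Matrix κ κ F} (hM' : IsMUnits M) [Nonempty κ] :
    ∃ g : GL κ F, ∀ a b, (g : Matrix κ κ F) * Matrix.single a b 1 = M a b * (g : Matrix κ κ F) := by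
  classical
  obtain ⟨a0⟩ := ‹Nonempty κ›
  have hne : M a0 a0 ≠ 0 := fun h0 => hM'.E_ne_zero a0 a0 h0
  obtain ⟨v, hv⟩ : ∃ v, M a0 a0 *ᵥ v ≠ 0 := by
    by_contra hc
    push Not at hc
    exact hne (Matrix.ext_of_mulVec_single fun i => by rw [hc, zero_mulVec])
  set w := M a0 a0 *ᵥ v with hw
  have hww : M a0 a0 *ᵥ w = w := by rw [hw, mulVec_mulVec, hM'.mul, if_pos rfl]
  let gm : Matrix κ κ F := Matrix.of fun r c => (M c a0 *ᵥ w) r
  have hgcol : ∀ u, gm *ᵥ u = ∑ c, u c • (M c a0 *ᵥ w) := by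
    intro u; funext r
    simp [gm, mulVec, dotProduct, Finset.sum_apply, mul_comm]
  have hgu : IsUnit gm := by
    rw [← Matrix.mulVec_injective_iff_isUnit]
    intro u u' huu
    funext c
    have h1 := congrArg (fun x => M a0 c *ᵥ x) huu
    simp only [hgcol, mulVec_sum, mulVec_smul, mulVec_mulVec, hM'.mul, ite_mul, apply_ite (fun X => X *ᵥ w),
      zero_mulVec, smul_ite, smul_zero, Finset.sum_ite_eq, Finset.mem_univ, if_true, hww] at h1
    exact smul_left_injective F hv h1
  obtain ⟨g, hg⟩ := hgu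
  have hgM : ∀ a b, (g : Matrix κ κ F) * Matrix.single a b 1 = M a b * (g : Matrix κ κ F) := by
    intro a b
    apply Matrix.ext_of_mulVec_single
    intro c
    rw [← mulVec_mulVec, ← mulVec_mulVec, hg, hgcol, hgcol]
    by_cases hbc : b = c
    · subst hbc
      simp [Matrix.single_apply, Matrix.mulVec_single, Pi.single_apply, ite_smul, mulVec_mulVec, hM'.mul]
    · simp [Matrix.single_apply, Matrix.mulVec_single, Pi.single_apply, ite_smul, mulVec_mulVec, hM'.mul, hbc]
  exact ⟨g, hgM⟩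

/-- The coordinates of an element normalising the units form a Kronecker product. -/
theorem exists_kronecker (hE : IsMUnits E) [Nonempty ι] {k : ℕ} (e : ι ≃ κ × Fin k) (P : GL ι F)
    (hP : ∀ M : Matrix κ κ F, ((P⁻¹ : GL ι F) : Matrix ι ι F) * hE.emb M * (P : Matrix ι ι F) =
      (M ⊗ₖ (1 : Matrix (Fin k) (Fin k) F)).submatrix e e)
    {h : GL ι F} (hh : ∀ a b, ∃ M, (h : Matrix ι ι F) * E a b * ((h⁻¹ : GL ι F) : Matrix ι ι F) = hE.emb M) :
    ∃ (g : GL κ F) (b : GL (Fin k) F), ((P⁻¹ : GL ι F) : Matrix ι ι F) * (h : Matrix ι ι F) * (P : Matrix ι ι F) =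
      ((g : Matrix κ κ F) ⊗ₖ (b : Matrix (Fin k) (Fin k) F)).submatrix e e := by
  classical
  choose M hM using hh
  have hM' : IsMUnits M := by
    refine ⟨fun a b c d => hE.emb_injective ?_, hE.emb_injective ?_⟩
    · rw [← hE.emb_mul, ← hM, ← hM]
      have : (h : Matrix ι ι F) * E a b * ((h⁻¹ : GL ι F) : Matrix ι ι F) * ((h : Matrix ι ι F) * E c d * ((h⁻¹ : GL ι F) : Matrix ι ι F))
          = (h : Matrix ι ι F) * (E a b * E c d) * ((h⁻¹ : GL ι F) : Matrix ι ι F) := by simp [mul_assoc]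
      rw [this, hE.mul]
      split
      · rw [hM]
      · rw [hE.emb_zero, mul_zero, zero_mul]
    · rw [hE.emb_sum, hE.emb_one, Finset.sum_congr rfl fun a _ => (hM a a).symm, ← Finset.sum_mul, ← Finset.mul_sum,
        hE.sum_eq, mul_one, Units.mul_inv]
  haveI : Nonempty κ := ⟨(e (Classical.arbitrary ι)).1⟩
  obtain ⟨g, hgM⟩ := hM'.exists_conj
  set Y : Matrix ι ι F := hE.emb ((g⁻¹ : GL κ F) : Matrix κ κ F) * (h : Matrix ι ι F) with hY
  have hYc : ∀ a b, E a b * Y = Y * E a b := by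
    intro a b
    have h1 : (h : Matrix ι ι F) * E a b = hE.emb (M a b) * (h : Matrix ι ι F) := by
      rw [← hM, mul_assoc, Units.inv_mul, mul_one]
    rw [hY, mul_assoc _ (h : Matrix ι ι F) (E a b), h1, ← hE.emb_single, ← mul_assoc, hE.emb_mul, ← mul_assoc,
      hE.emb_mul]
    congr 2
    calc Matrix.single a b (1 : F) * ((g⁻¹ : GL κ F) : Matrix κ κ F)
        = ((g⁻¹ : GL κ F) : Matrix κ κ F) * ((g : Matrix κ κ F) * Matrix.single a b 1) * ((g⁻¹ : GL κ F) : Matrix κ κ F) := by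
          rw [← mul_assoc, Units.inv_mul, one_mul]
      _ = _ := by rw [hgM, mul_assoc, mul_assoc, Units.mul_inv, mul_one]
  obtain ⟨b, hb⟩ := hE.centralizer_coords e P hP hYc
  have hform : ((P⁻¹ : GL ι F) : Matrix ι ι F) * (h : Matrix ι ι F) * (P : Matrix ι ι F) =
      ((g : Matrix κ κ F) ⊗ₖ b).submatrix e e := by
    have e1 : (h : Matrix ι ι F) = hE.emb (g : Matrix κ κ F) * Y := by
      rw [hY, ← mul_assoc, hE.emb_mul, Units.mul_inv, hE.emb_one, one_mul]
    rw [e1]
    calc ((P⁻¹ : GL ι F) : Matrix ι ι F) * (hE.emb (g : Matrix κ κ F) * Y) * (P : Matrix ι ι F)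
        = (((P⁻¹ : GL ι F) : Matrix ι ι F) * hE.emb (g : Matrix κ κ F) * (P : Matrix ι ι F)) *
            (((P⁻¹ : GL ι F) : Matrix ι ι F) * Y * (P : Matrix ι ι F)) := by simp [mul_assoc]
      _ = _ := by rw [hP, hb, submatrix_mul_equiv, ← Matrix.mul_kronecker_mul, mul_one, one_mul]
  have hbu : IsUnit b.det := by
    have h1 : IsUnit (((g : Matrix κ κ F) ⊗ₖ b).submatrix e e).det := by
      rw [← hform, ← Matrix.isUnit_iff_isUnit_det]
      exact ((P⁻¹).isUnit.mul h.isUnit).mul P.isUnit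
    rw [det_submatrix_equiv_self, Matrix.det_kronecker] at h1
    have h2 := (IsUnit.mul_iff.mp h1).2
    exact (isUnit_pow_iff Fintype.card_ne_zero).mp h2
  exact ⟨g, Matrix.GeneralLinearGroup.mkOfDetNeZero b hbu.ne_zero, hform⟩

/-- If only scalars centralise the units the second factor is trivial. -/
theorem exists_coords_full (hE : IsMUnits E) [Nonempty ι]
    (hc : ∀ Y : Matrix ι ι F, (∀ a b, E a b * Y = Y * E a b) → ∃ c : F, Y = c • (1 : Matrix ι ι F)) :
    ∃ (e : ι ≃ κ) (P : GL ι F), ∀ M : Matrix κ κ F,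
      ((P⁻¹ : GL ι F) : Matrix ι ι F) * hE.emb M * (P : Matrix ι ι F) = M.submatrix e e := by
  classical
  obtain ⟨k, e, P, hk, hP⟩ := hE.exists_coords
  have hk1 : k = 1 := by
    by_contra hne
    let x0 : Fin k := ⟨0, hk⟩
    let x1 : Fin k := ⟨1, by omega⟩
    set Y0 : Matrix ι ι F := ((1 : Matrix κ κ F) ⊗ₖ Matrix.single x0 x1 (1 : F)).submatrix e e with hY0
    obtain ⟨c, hc'⟩ := hc ((P : Matrix ι ι F) * Y0 * ((P⁻¹ : GL ι F) : Matrix ι ι F)) fun a b => by
      have h1 : E a b = (P : Matrix ι ι F) * (Matrix.single a b 1 ⊗ₖ (1 : Matrix (Fin k) (Fin k) F)).submatrix e e *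
          ((P⁻¹ : GL ι F) : Matrix ι ι F) := by
        rw [← hP, hE.emb_single]; simp [mul_assoc]
      rw [h1]
      have h2 : (Matrix.single a b 1 ⊗ₖ (1 : Matrix (Fin k) (Fin k) F)).submatrix e e * Y0 =
          Y0 * (Matrix.single a b 1 ⊗ₖ (1 : Matrix (Fin k) (Fin k) F)).submatrix e e := by
        rw [hY0, submatrix_mul_equiv, submatrix_mul_equiv, ← mul_kronecker_mul, ← mul_kronecker_mul, one_mul,
          mul_one, one_mul, mul_one]
      generalize (Matrix.single a b 1 ⊗ₖ (1 : Matrix (Fin k) (Fin k) F)).submatrix e e = X at h2 ⊢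
      calc (P : Matrix ι ι F) * X * ((P⁻¹ : GL ι F) : Matrix ι ι F) * ((P : Matrix ι ι F) * Y0 * ((P⁻¹ : GL ι F) : Matrix ι ι F))
          = (P : Matrix ι ι F) * (X * Y0) * ((P⁻¹ : GL ι F) : Matrix ι ι F) := by simp [mul_assoc]
        _ = (P : Matrix ι ι F) * (Y0 * X) * ((P⁻¹ : GL ι F) : Matrix ι ι F) := by rw [h2]
        _ = _ := by simp [mul_assoc]
    have h3 : Y0 = c • (1 : Matrix ι ι F) := by
      have := congrArg (fun X => ((P⁻¹ : GL ι F) : Matrix ι ι F) * X * (P : Matrix ι ι F)) hc'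
      simpa [mul_assoc] using this
    obtain ⟨a⟩ : Nonempty κ := ⟨(e (Classical.arbitrary ι)).1⟩
    have h4 := congrFun (congrFun h3 (e.symm (a, x0))) (e.symm (a, x1))
    have hne' : e.symm (a, x0) ≠ e.symm (a, x1) := by simp [x0, x1]
    simp [hY0, Matrix.one_apply_ne hne'] at h4
  subst hk1
  refine ⟨e.trans (Equiv.prodUnique κ (Fin 1)), P, fun M => ?_⟩
  rw [hP]
  ext i j
  simp only [submatrix_apply, kroneckerMap_apply, Equiv.trans_apply, Equiv.prodUnique_apply]
  rw [Subsingleton.elim (e i).2 (e j).2, Matrix.one_apply_eq, mul_one]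

end IsMUnits

/-- Commuting systems of matrix units combine into a system indexed by the product. -/
theorem exists_prod_munits {m : ℕ} :
    ∀ (t : ℕ) (E : Fin t → Fin m → Fin m → Matrix ι ι F), (∀ i, IsMUnits (E i)) →
      (∀ i j, i ≠ j → ∀ a b c d, E i a b * E j c d = E j c d * E i a b) →
      ∃ EE : (Fin t → Fin m) → (Fin t → Fin m) → Matrix ι ι F, IsMUnits EE ∧
        (∀ Y, (∀ i a b, E i a b * Y = Y * E i a b) → ∀ f g, EE f g * Y = Y * EE f g) ∧
        ∀ i a b, E i a b = ∑ f, if f i = a then EE f (Function.update f i b) else 0 := by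
  classical
  intro t
  induction t with
  | zero =>
    intro E _ _
    refine ⟨fun _ _ => 1, ⟨fun a b c d => ?_, ?_⟩, fun Y _ f g => by rw [one_mul, mul_one], fun i => i.elim0⟩
    · rw [if_pos (Subsingleton.elim b c), mul_one]
    · simp
  | succ t ih =>
    intro E hE hcomm
    obtain ⟨EE, hEE, hcen, hfor⟩ := ih (fun i => E i.succ) (fun i => hE _)
      (fun i j hij => hcomm _ _ (fun h => hij (Fin.succ_injective _ h)))
    have h0 : ∀ a b f g, E 0 a b * EE f g = EE f g * E 0 a b := fun a b f g =>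
      (hcen (E 0 a b) (fun i c d => hcomm _ _ (Fin.succ_ne_zero i) c d a b) f g).symm
    have hsum : ∀ G : (Fin (t+1) → Fin m) → Matrix ι ι F, ∑ f, G f = ∑ a, ∑ f', G (Fin.cons a f') := fun G => by
      rw [← (Fin.consEquiv fun _ => Fin m).sum_comp, Fintype.sum_prod_type]
      rfl
    refine ⟨fun f g => E 0 (f 0) (g 0) * EE (Fin.tail f) (Fin.tail g), ⟨fun a b c d => ?_, ?_⟩, ?_, ?_⟩
    · calc E 0 (a 0) (b 0) * EE (Fin.tail a) (Fin.tail b) * (E 0 (c 0) (d 0) * EE (Fin.tail c) (Fin.tail d))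
          = E 0 (a 0) (b 0) * E 0 (c 0) (d 0) * (EE (Fin.tail a) (Fin.tail b) * EE (Fin.tail c) (Fin.tail d)) := by
            rw [mul_assoc, ← mul_assoc (EE _ _), ← h0, mul_assoc, mul_assoc]
        _ = _ := by
            rw [(hE 0).mul, hEE.mul]
            by_cases h : b = c
            · subst h; simp
            · rw [if_neg h]
              by_cases h1 : b 0 = c 0
              · rw [if_neg (show Fin.tail b ≠ Fin.tail c from fun h2 => h (by
                  rw [← Fin.cons_self_tail b, ← Fin.cons_self_tail c, h1, h2])), mul_zero]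
              · rw [if_neg h1, zero_mul]
    · rw [hsum]
      simp only [Fin.cons_zero, Fin.tail_cons, ← Finset.mul_sum, hEE.sum_eq, mul_one, (hE 0).sum_eq]
    · intro Y hY f g
      rw [mul_assoc, hcen Y (fun i => hY i.succ), ← mul_assoc, hY 0, mul_assoc]
    · intro i a b
      rw [hsum]
      refine Fin.cases ?_ (fun i => ?_) i
      · simp only [Fin.cons_zero, Fin.update_cons_zero, Fin.tail_cons]
        rw [Finset.sum_eq_single a]
        · simp [← Finset.mul_sum, hEE.sum_eq]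
        · intro c _ hc; simp [hc]
        · simp
      · simp only [Fin.cons_succ, ← Fin.cons_update, Fin.cons_zero, Fin.tail_cons]
        rw [hfor i a b]
        conv_lhs => rw [← one_mul (∑ f, _), ← (hE 0).sum_eq]
        simp only [Finset.sum_mul, Finset.mul_sum, mul_ite, mul_zero]
        conv_rhs => rw [Finset.sum_comm]
        refine Finset.sum_congr rfl fun x _ => ?_
        split_ifs with hx
        · rfl
        · simp

end CfsgLib.Aschbacher
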